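import Mathlib.RepresentationTheory.Character
import Mathlib.RepresentationTheory.Irreducible
import Mathlib.Analysis.Complex.Polynomial.Basic
import Mathlib.RingTheory.IntegralClosure.IsIntegral.Basic
import Mathlib.LinearAlgebra.Eigenspace.Charpoly
import Mathlib.LinearAlgebra.Eigenspace.Triangularizable
import Mathlib.LinearAlgebra.Eigenspace.Semisimple
import Mathlib.LinearAlgebra.Eigenspace.Minpoly
import Mathlib.FieldTheory.Separable
import Mathlib.Analysis.RCLike.Basic
import Mathlib.LinearAlgebra.Trace
import Mathlib.Algebra.DirectSum.LinearMap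
import Mathlib.RingTheory.IntegralClosure.IntegrallyClosed
import Mathlib.RingTheory.Polynomial.RationalRoot
import Mathlib.Algebra.MonoidAlgebra.Basic
import Cfsg.Prelude.Def_Characters

/-!
# Small tools for irreducible complex representations
-/

namespace CfsgLib.CharDeep.IrrTools

open Module

variable {G : Type*} [Group G] {V W : Type*} [AddCommGroup V] [Module ℂ V] [AddCommGroup W]
  [Module ℂ W]

theorem apply_ne_zero_of_isIrreducible (ρ : Representation ℂ G V) [ρ.IsIrreducible] :
    Nontrivial V := by
  by_contra h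
  rw [not_nontrivial_iff_subsingleton] at h
  have := (IsSimpleOrder.toNontrivial : Nontrivial (Subrepresentation ρ))
  obtain ⟨a, b, hab⟩ := this
  exact hab (Subrepresentation.toSubmodule_injective (Subsingleton.elim _ _))

/-- Build irreducibility from the absence of invariant submodules. -/
theorem isIrreducible_of_forall (ρ : Representation ℂ G V) [Nontrivial V]
    (h : ∀ U : Submodule ℂ V, (∀ g, ∀ u ∈ U, ρ g u ∈ U) → U = ⊥ ∨ U = ⊤) : ρ.IsIrreducible := by
  have : Nontrivial (Subrepresentation ρ) := ⟨⊥, ⊤, fun h0 =>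
    bot_ne_top (α := Submodule ℂ V) (congrArg Subrepresentation.toSubmodule h0)⟩
  refine ⟨fun U => ?_⟩
  rcases h U.toSubmodule (fun g u hu => U.apply_mem_toSubmodule g hu) with h0 | h0
  · exact Or.inl (Subrepresentation.toSubmodule_injective h0)
  · exact Or.inr (Subrepresentation.toSubmodule_injective h0)

theorem eq_bot_or_top_of_invariant (ρ : Representation ℂ G V) [ρ.IsIrreducible] (U : Submodule ℂ V)
    (hU : ∀ g, ∀ u ∈ U, ρ g u ∈ U) : U = ⊥ ∨ U = ⊤ := by
  let S : Subrepresentation ρ := ⟨U, fun g v hv => hU g v hv⟩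
  rcases IsSimpleOrder.eq_bot_or_eq_top S with h | h
  · exact Or.inl (congrArg Subrepresentation.toSubmodule h)
  · exact Or.inr (congrArg Subrepresentation.toSubmodule h)

/-- Schur: an endomorphism commuting with an irreducible representation is a scalar. -/
theorem exists_smul_of_commute [FiniteDimensional ℂ V] (ρ : Representation ℂ G V)
    [ρ.IsIrreducible] (T : Module.End ℂ V) (h : ∀ g, T * ρ g = ρ g * T) : ∃ c : ℂ, T = c • 1 := by
  have := apply_ne_zero_of_isIrreducible ρ
  obtain ⟨c, hc⟩ := Module.End.exists_eigenvalue T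
  refine ⟨c, ?_⟩
  have hinv : ∀ g, ∀ u ∈ T.eigenspace c, ρ g u ∈ T.eigenspace c := fun g u hu => by
    rw [Module.End.mem_eigenspace_iff] at hu ⊢
    rw [← Module.End.mul_apply, h g, Module.End.mul_apply, hu, map_smul]
  rcases eq_bot_or_top_of_invariant ρ (T.eigenspace c) hinv with h0 | h0
  · exact absurd h0 hc
  · refine LinearMap.ext fun v => ?_
    have : v ∈ T.eigenspace c := h0 ▸ Submodule.mem_top
    simpa using Module.End.mem_eigenspace_iff.1 this

/-- Equal characters with one side irreducible give isomorphic representations. -/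
theorem nonempty_equiv_of_character_eq [Finite G] [FiniteDimensional ℂ V] [FiniteDimensional ℂ W]
    (ρ : Representation ℂ G V) [ρ.IsIrreducible] (σ : Representation ℂ G W)
    (h : σ.character = ρ.character) : Nonempty (Representation.Equiv ρ σ) := by
  cases nonempty_fintype G
  haveI : Invertible (Nat.card G : ℂ) := invertibleOfNonzero (by simp [Nat.card_pos.ne'])
  have h1 := Representation.card_inv_mul_sum_char_mul_char_eq_finrank ρ σ
  have h2 := Representation.card_inv_mul_sum_char_mul_char_eq_finrank ρ ρ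
  rw [h] at h1
  rw [h1, Representation.IsIrreducible.finrank_intertwiningMap_self] at h2
  have h3 : finrank ℂ (Representation.IntertwiningMap ρ σ) = 1 := by exact_mod_cast h2
  have : Nontrivial (Representation.IntertwiningMap ρ σ) :=
    Module.nontrivial_of_finrank_eq_succ h3
  obtain ⟨f, hf⟩ := exists_ne (0 : Representation.IntertwiningMap ρ σ)
  have hinj : Function.Injective f :=
    (Representation.IsIrreducible.injective_or_eq_zero f).resolve_right hf
  have hdim : finrank ℂ V = finrank ℂ W := by
    have h4 := congrFun h 1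
    rw [Representation.char_one, Representation.char_one] at h4
    exact_mod_cast h4.symm
  exact ⟨f.ofBijective ⟨hinj,
    (LinearMap.injective_iff_surjective_of_finrank_eq_finrank hdim).1 hinj⟩⟩

/-- A finite-order linear map has eigenvalues integral over `ℤ`, hence integral trace. -/
theorem isIntegral_trace_of_pow_eq_one [FiniteDimensional ℂ V] (T : Module.End ℂ V) {n : ℕ}
    (hn : 0 < n) (hT : T ^ n = 1) : IsIntegral ℤ (LinearMap.trace ℂ V T) := by
  rw [Module.End.trace_eq_sum_roots_charpoly_of_splits (IsAlgClosed.splits _)]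
  refine IsIntegral.multiset_sum fun μ hμ => IsIntegral.of_pow hn ?_
  rw [Polynomial.mem_roots T.charpoly_monic.ne_zero, ← T.hasEigenvalue_iff_isRoot_charpoly] at hμ
  obtain ⟨v, hv⟩ := hμ.exists_hasEigenvector
  have h1 := hv.pow_apply n
  rw [hT, Module.End.one_apply] at h1
  have h2 : (μ ^ n - 1) • v = 0 := by rw [sub_smul, one_smul, ← h1, sub_self]
  rw [smul_eq_zero, sub_eq_zero] at h2
  rw [h2.resolve_right hv.2]
  exact isIntegral_one

theorem isIntegral_character [Finite G] [FiniteDimensional ℂ V] (ρ : Representation ℂ G V)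
    (g : G) : IsIntegral ℤ (ρ.character g) :=
  isIntegral_trace_of_pow_eq_one (ρ g) (orderOf_pos g)
    (by rw [← map_pow, pow_orderOf_eq_one, map_one])

/-- A representation on any finite-dimensional space has a coordinate model. -/
theorem isIrrCharacter_character [FiniteDimensional ℂ V] (ρ : Representation ℂ G V)
    [ρ.IsIrreducible] : Cfsg.IsIrrCharacter G ρ.character := by
  let e : V ≃ₗ[ℂ] (Fin (finrank ℂ V) → ℂ) := (Module.finBasis ℂ V).equivFun
  let σ : Representation ℂ G (Fin (finrank ℂ V) → ℂ) :=
    { toFun := fun g => e.conj (ρ g)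
      map_one' := by rw [map_one]; exact e.conj_id
      map_mul' := fun a b => by rw [map_mul]; exact LinearEquiv.conj_comp e (ρ b) (ρ a) }
  have := apply_ne_zero_of_isIrreducible ρ
  have : Nontrivial (Fin (finrank ℂ V) → ℂ) := e.symm.toEquiv.nontrivial
  refine ⟨_, σ, isIrreducible_of_forall σ fun U hU => ?_, ?_⟩
  · have hinv : ∀ g, ∀ u ∈ U.comap (e : V →ₗ[ℂ] _), ρ g u ∈ U.comap (e : V →ₗ[ℂ] _) :=
      fun g u hu => by
      have := hU g (e u) (by simpa using hu)
      simpa [σ, LinearEquiv.conj_apply] using this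
    rcases eq_bot_or_top_of_invariant ρ (U.comap (e : V →ₗ[ℂ] _)) hinv with h | h
    · left
      refine (Submodule.eq_bot_iff _).2 fun x hx => ?_
      have h1 : e.symm x ∈ U.comap (e : V →ₗ[ℂ] _) := by simpa using hx
      rw [h, Submodule.mem_bot] at h1
      simpa using h1
    · right
      refine Submodule.eq_top_iff'.2 fun x => ?_
      have h1 : e.symm x ∈ U.comap (e : V →ₗ[ℂ] _) := h ▸ Submodule.mem_top
      simpa using h1
  · funext g
    exact LinearMap.trace_conj' (ρ g) e

/-- A character of degree one is a homomorphism. -/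
theorem exists_hom_of_degree_one {χ : G → ℂ} (h : Cfsg.IsCharacter G χ) (h1 : χ 1 = 1) :
    ∃ f : G →* ℂˣ, ∀ g, χ g = f g := by
  obtain ⟨n, ρ, rfl⟩ := h
  have hn : n = 1 := by
    rw [Representation.char_one, Module.finrank_fin_fun] at h1
    exact_mod_cast h1
  subst hn
  have htr : ∀ T : Module.End ℂ (Fin 1 → ℂ), LinearMap.trace ℂ _ T = LinearMap.det T := fun T => by
    rw [LinearMap.trace_eq_matrix_trace ℂ (Pi.basisFun ℂ (Fin 1)),
      ← LinearMap.det_toMatrix (Pi.basisFun ℂ (Fin 1)), Matrix.trace_fin_one, Matrix.det_fin_one]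
  exact ⟨MonoidHom.toHomUnits ((LinearMap.det : Module.End ℂ (Fin 1 → ℂ) →* ℂ).comp ρ),
    fun g => htr (ρ g)⟩

/-- A homomorphism to the units is a character of degree one. -/
theorem isCharacter_of_hom (f : G →* ℂˣ) : Cfsg.IsCharacter G (fun g => (f g : ℂ)) := by
  let ρ : Representation ℂ G (Fin 1 → ℂ) :=
    { toFun := fun g => (f g : ℂ) • LinearMap.id
      map_one' := by ext; simp
      map_mul' := fun a b => LinearMap.ext fun v => by
        simp [smul_smul, mul_comm] }
  refine ⟨1, ρ, funext fun g => ?_⟩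
  show LinearMap.trace ℂ (Fin 1 → ℂ) ((f g : ℂ) • LinearMap.id) = _
  simp [LinearMap.trace_id, Module.finrank_fin_fun]

/-- The order of a linear character as a function is its order as a homomorphism. -/
theorem orderOf_coe_hom (f : G →* ℂˣ) : orderOf (fun g => (f g : ℂ)) = orderOf f := by
  let φ : (G →* ℂˣ) →* (G → ℂ) :=
    { toFun := fun u g => (u g : ℂ), map_one' := rfl, map_mul' := fun u v => rfl }
  exact orderOf_injective φ (fun u v h => MonoidHom.ext fun g => Units.ext (congrFun h g)) f

open scoped ComplexConjugate in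
/-- The inverse has the conjugate trace. -/
theorem conj_character [Finite G] [FiniteDimensional ℂ V] (ρ : Representation ℂ G V) (g : G) :
    conj (ρ.character g) = ρ.character g⁻¹ := by
  classical
  have hn : 0 < orderOf g := orderOf_pos g
  let T : End ℂ V := ρ g
  have hss : T.IsSemisimple := by
    refine Module.End.isSemisimple_of_squarefree_aeval_eq_zero (p := Polynomial.X ^ orderOf g - 1)
      (Polynomial.separable_X_pow_sub_C (1 : ℂ) (by exact_mod_cast hn.ne') one_ne_zero).squarefree ?_
    rw [map_sub, map_one, Polynomial.aeval_X_pow, sub_eq_zero]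
    show ρ g ^ orderOf g = 1
    rw [← map_pow, pow_orderOf_eq_one, map_one]
  have hind := T.eigenspaces_iSupIndep
  have hfin := Module.End.finite_hasEigenvalue (f := T)
  have hsup : ⨆ μ, T.eigenspace μ = ⊤ := hss.iSup_eigenspace_eq_top
  have hint : DirectSum.IsInternal fun μ => T.eigenspace μ :=
    DirectSum.isInternal_submodule_of_iSupIndep_of_iSup_eq_top hind hsup
  have hfin' : {μ | T.eigenspace μ ≠ ⊥}.Finite := hfin
  have key : ∀ (k : ℕ) (μ : ℂ) (v : V), v ∈ T.eigenspace μ → ρ (g ^ k) v = μ ^ k • v := by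
    intro k μ v hv
    rw [Module.End.mem_eigenspace_iff] at hv
    rw [map_pow]
    induction k with
    | zero => simp
    | succ k ih =>
      rw [pow_succ', Module.End.mul_apply, ih, map_smul, hv, smul_smul, ← pow_succ]
  have hmaps : ∀ (k : ℕ) (μ : ℂ),
      Set.MapsTo (ρ (g ^ k)) (T.eigenspace μ) (T.eigenspace μ) := fun k μ v hv => by
    rw [key k μ v hv]
    exact Submodule.smul_mem _ _ hv
  have htr : ∀ k : ℕ, ρ.character (g ^ k) =
      ∑ μ ∈ hfin'.toFinset, μ ^ k * Module.finrank ℂ (T.eigenspace μ) := by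
    intro k
    show LinearMap.trace ℂ V (ρ (g ^ k)) = _
    rw [LinearMap.trace_eq_sum_trace_restrict' hint hfin' (hmaps k)]
    refine Finset.sum_congr rfl fun μ _ => ?_
    have h : (ρ (g ^ k)).restrict (hmaps k μ) =
        μ ^ k • (LinearMap.id : T.eigenspace μ →ₗ[ℂ] _) :=
      LinearMap.ext fun v => Subtype.ext (by simpa using key k μ v v.2)
    rw [h, map_smul, LinearMap.trace_id, smul_eq_mul]
  have hinvg : g⁻¹ = g ^ (orderOf g - 1) := by
    rw [inv_eq_iff_mul_eq_one, ← pow_succ', Nat.sub_add_cancel hn, pow_orderOf_eq_one]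
  rw [← pow_one g, htr 1, pow_one, hinvg, htr, map_sum]
  refine Finset.sum_congr rfl fun μ hμ => ?_
  rw [map_mul, Complex.conj_natCast, pow_one]
  congr 1
  rw [Set.Finite.mem_toFinset] at hμ
  obtain ⟨v, hv, hv0⟩ := Submodule.exists_mem_ne_zero_of_ne_bot hμ
  have h1 : μ ^ orderOf g = 1 := by
    have h2 := key (orderOf g) μ v hv
    rw [pow_orderOf_eq_one, map_one, Module.End.one_apply] at h2
    have h3 : (μ ^ orderOf g - 1) • v = 0 := by rw [sub_smul, one_smul, ← h2, sub_self]
    exact sub_eq_zero.1 ((smul_eq_zero.1 h3).resolve_right hv0)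
  have hμ0 : μ ≠ 0 := by
    rintro rfl
    rw [zero_pow hn.ne'] at h1
    exact zero_ne_one h1
  have hnorm : ‖μ‖ = 1 := Complex.norm_eq_one_of_pow_eq_one h1 hn.ne'
  rw [← Complex.inv_eq_conj hnorm]
  refine (eq_inv_of_mul_eq_one_left ?_).symm
  rw [← pow_succ, Nat.sub_add_cancel hn, h1]

/-- Averaging against an irreducible character gives a scalar operator. -/
theorem sum_character_inv_smul [Fintype G] [FiniteDimensional ℂ V] [FiniteDimensional ℂ W]
    (ρ : Representation ℂ G W) [ρ.IsIrreducible] (σ : Representation ℂ G V) [σ.IsIrreducible] :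
    (σ.character = ρ.character →
      ∑ g : G, ρ.character g⁻¹ • σ g = ((Nat.card G : ℂ) / finrank ℂ V) • (1 : End ℂ V)) ∧
    (σ.character ≠ ρ.character → ∑ g : G, ρ.character g⁻¹ • σ g = 0) := by
  classical
  haveI : Invertible (Nat.card G : ℂ) := invertibleOfNonzero (by simp [Nat.card_pos.ne'])
  have := apply_ne_zero_of_isIrreducible σ
  have hV : (finrank ℂ V : ℂ) ≠ 0 := by exact_mod_cast (finrank_pos (R := ℂ) (M := V)).ne'
  obtain ⟨c, hc⟩ := exists_smul_of_commute σ (∑ g : G, ρ.character g⁻¹ • σ g) fun h => by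
    rw [Finset.mul_sum, Finset.sum_mul]
    refine Fintype.sum_equiv (MulAut.conj h⁻¹).toEquiv _ _ fun g => ?_
    rw [smul_mul_assoc, mul_smul_comm, ← map_mul, ← map_mul]
    congr 1
    · simp only [MulEquiv.toEquiv_eq_coe, EquivLike.coe_coe, MulAut.conj_apply]
      conv_lhs => rw [← Representation.char_conj ρ g⁻¹ h⁻¹]
      simp [mul_assoc]
    · simp [mul_assoc]
  have ht : c * finrank ℂ V = ∑ g : G, σ.character g * ρ.character g⁻¹ := by
    have := congrArg (LinearMap.trace ℂ V) hc
    rw [map_smul, LinearMap.trace_one, smul_eq_mul] at this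
    rw [← this, map_sum]
    exact Finset.sum_congr rfl fun g _ => by rw [map_smul, smul_eq_mul, mul_comm]; rfl
  have ho := Representation.char_orthonormal σ ρ
  constructor
  · intro h
    obtain ⟨φ⟩ := nonempty_equiv_of_character_eq ρ σ h
    rw [if_pos ⟨φ⟩, ← ht, inv_mul_eq_one₀ (by simp [Nat.card_pos.ne'])] at ho
    rw [hc, ho, mul_div_cancel_right₀ _ hV]
  · intro h
    rw [if_neg (fun ⟨φ⟩ => h (Representation.char_iso φ).symm), ← ht] at ho
    have : c = 0 := by simpa [Nat.card_pos.ne', hV] using ho
    rw [hc, this, zero_smul]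

/-- The class inner product of two characters is a dimension of a space of intertwiners. -/
theorem classInner_eq_finrank [Fintype G] [FiniteDimensional ℂ V] [FiniteDimensional ℂ W]
    (ρ : Representation ℂ G W) (σ : Representation ℂ G V) :
    Cfsg.classInner σ.character ρ.character =
      (finrank ℂ (Representation.IntertwiningMap ρ σ) : ℂ) := by
  haveI : Invertible (Nat.card G : ℂ) := invertibleOfNonzero (by simp [Nat.card_pos.ne'])
  rw [← Representation.card_inv_mul_sum_char_mul_char_eq_finrank ρ σ]
  unfold Cfsg.classInner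
  simp only [conj_character]

end CfsgLib.CharDeep.IrrTools
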