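import Cfsg.Agent.Lib.CharDeep.IrrTools
import Cfsg.Agent.Lib.Char.Induced
import Cfsg.Agent.Lib.Char.Linear

/-!
# Central elements and vanishing of characters; extraspecial-type groups
-/

namespace CfsgLib.CharDeep.CentralTrick

open CfsgLib
open scoped ComplexConjugate

variable {G : Type*} [Group G]

/-- A central element acts by a scalar in an irreducible character. -/
theorem exists_scalar_center [Finite G] {χ : G → ℂ} (hχ : Cfsg.IsIrrCharacter G χ) {z : G}
    (hz : z ∈ Subgroup.center G) :
    ∃ c : ℂ, (∀ x, χ (x * z) = c * χ x) ∧ (c = 1 → χ z = χ 1) := by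
  obtain ⟨n, ρ, hρ, rfl⟩ := hχ
  have : ρ.IsIrreducible := hρ
  obtain ⟨c, hc⟩ := IrrTools.exists_smul_of_commute ρ (ρ z) fun g => by
    rw [← map_mul, ← map_mul, Subgroup.mem_center_iff.1 hz g]
  refine ⟨c, fun x => ?_, fun h1 => ?_⟩
  · show LinearMap.trace ℂ _ (ρ (x * z)) = c * LinearMap.trace ℂ _ (ρ x)
    rw [map_mul, hc, mul_smul_comm, mul_one, map_smul, smul_eq_mul]
  · show LinearMap.trace ℂ _ (ρ z) = LinearMap.trace ℂ _ (ρ 1)
    rw [hc, h1, one_smul, map_one ρ]

/-- A class function transforming by a nontrivial factor under a central translation vanishes at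
elements conjugate to their translate. -/
theorem eq_zero_of_conj_translate {θ : G → ℂ} (hθ : Cfsg.IsClassFunction G θ) {x y z : G} {c : ℂ}
    (hy : y * x * y⁻¹ = x * z) (hz : θ (x * z) = c * θ x) (hc : c ≠ 1) : θ x = 0 := by
  have h : c * θ x = θ x := by rw [← hz, ← hy]; exact hθ x y
  by_contra h0
  exact hc (mul_right_cancel₀ h0 (h.trans (one_mul _).symm))

end CfsgLib.CharDeep.CentralTrick
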