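import Cfsg.Agent.Lib.Char.Induced

/-!
# Generalized characters of norm one
-/

namespace CfsgLib.CharDeep.GenChar

open CfsgLib
open scoped ComplexConjugate

variable {G : Type*} [Group G] [Fintype G]

/-- A generalized character of norm one is up to sign irreducible. -/
theorem exists_sign_irr {θ : G → ℂ} (hθ : Cfsg.IsGeneralizedCharacter G θ)
    (h : Cfsg.classInner θ θ = 1) :
    ∃ (z : ℤ) (χ : Cfsg.IrrCharacter G), (z = 1 ∨ z = -1) ∧ θ = (z : ℂ) • (χ : G → ℂ) := by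
  classical
  obtain ⟨hcf, hint⟩ := Char.isGeneralizedCharacter_iff.1 hθ
  choose z hz using fun φ : Cfsg.IrrCharacter G => hint (φ : G → ℂ) φ.2
  have hsum : ((∑ φ : Cfsg.IrrCharacter G, z φ * z φ : ℤ) : ℂ) = ((1 : ℤ) : ℂ) := by
    rw [Int.cast_one, ← h, Char.classInner_eq_sum_irr hcf]
    push_cast
    refine Finset.sum_congr rfl fun φ _ => ?_
    rw [← Char.classInner_conj_symm θ (φ : G → ℂ)]
    simp [hz]
  have hsum' : ∑ φ : Cfsg.IrrCharacter G, z φ * z φ = 1 := Int.cast_injective hsum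
  have hex : ∃ φ, z φ ≠ 0 := by
    by_contra hc
    push Not at hc
    simp [hc] at hsum'
  obtain ⟨φ, hφ⟩ := hex
  rw [← Finset.add_sum_erase _ _ (Finset.mem_univ φ)] at hsum'
  have hrest : 0 ≤ ∑ ψ ∈ Finset.univ.erase φ, z ψ * z ψ :=
    Finset.sum_nonneg fun ψ _ => mul_self_nonneg _
  have h0 : 0 < z φ * z φ := mul_self_pos.2 hφ
  have hψ : ∀ ψ ≠ φ, z ψ = 0 := fun ψ hne =>
    mul_self_eq_zero.1 ((Finset.sum_eq_zero_iff_of_nonneg fun ψ _ => mul_self_nonneg _).1
      (le_antisymm (by omega) hrest) ψ (Finset.mem_erase.2 ⟨hne, Finset.mem_univ ψ⟩))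
  refine ⟨z φ, φ, Int.eq_one_or_neg_one_of_mul_eq_one (v := z φ) (by omega), ?_⟩
  rw [← hz φ]
  conv_lhs => rw [Char.IsClassFunction.eq_sum_irr hcf]
  exact Finset.sum_eq_single φ (fun ψ _ hne => by simp [hz, hψ ψ hne])
    fun hh => absurd (Finset.mem_univ φ) hh

/-- A generalized character of norm one, positive at `1`, is an irreducible character. -/
theorem isIrrCharacter_of_norm_one {θ : G → ℂ} (hθ : Cfsg.IsGeneralizedCharacter G θ)
    (h : Cfsg.classInner θ θ = 1) (hpos : 0 < (θ 1).re) : Cfsg.IsIrrCharacter G θ := by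
  obtain ⟨z, χ, hz, rfl⟩ := exists_sign_irr hθ h
  rcases hz with rfl | rfl
  · simpa using χ.2
  · exfalso
    obtain ⟨n, -, hn⟩ := Char.IsIrrCharacter.apply_one_eq χ.2
    simp [hn] at hpos
    exact absurd hpos (not_lt.2 (Nat.cast_nonneg n))

end CfsgLib.CharDeep.GenChar
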