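import Cfsg.Agent.Lib.CharDeep.IrrTools
import Mathlib.GroupTheory.QuotientGroup.Basic
import Mathlib.GroupTheory.Subgroup.Center

/-!
# The degree divides the index of a subgroup acting by scalars
-/

namespace CfsgLib.CharDeep.DegreeIndex

open Module CfsgLib.CharDeep

variable {H : Type*} [Group H] [Finite H] {U : Type*} [AddCommGroup U] [Module ℂ U]
  [FiniteDimensional ℂ U] (σ : Representation ℂ H U) [σ.IsIrreducible]

/-- The scalar by which a class sum acts is an algebraic integer. -/
theorem isIntegral_classSum (g : H) :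
    IsIntegral ℤ ((Nat.card (ConjClasses.carrier (ConjClasses.mk g)) : ℂ) * σ.character g /
      finrank ℂ U) := by
  classical
  cases nonempty_fintype H
  have := IrrTools.apply_ne_zero_of_isIrreducible σ
  set C := ConjClasses.carrier (ConjClasses.mk g) with hC
  obtain ⟨w, hw⟩ := IrrTools.exists_smul_of_commute σ (∑ x ∈ C.toFinset, σ x) fun h => by
    rw [Finset.sum_mul, Finset.mul_sum]
    refine Finset.sum_nbij' (fun x => h⁻¹ * x * h) (fun x => h * x * h⁻¹) ?_ ?_ ?_ ?_ ?_
    · intro x hx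
      simp only [Finset.mem_coe, Set.mem_toFinset, hC, ConjClasses.mem_carrier_iff_mk_eq,
        ConjClasses.mk_eq_mk_iff_isConj] at hx ⊢
      exact (isConj_iff.2 ⟨h, by group⟩ : IsConj (h⁻¹ * x * h) x).trans hx
    · intro x hx
      simp only [Finset.mem_coe, Set.mem_toFinset, hC, ConjClasses.mem_carrier_iff_mk_eq,
        ConjClasses.mk_eq_mk_iff_isConj] at hx ⊢
      exact (isConj_iff.2 ⟨h, rfl⟩ : IsConj x (h * x * h⁻¹)).symm.trans hx
    · intro x _; group
    · intro x _; group
    · intro x _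
      rw [← map_mul, ← map_mul]
      congr 1; group
  have hU : (finrank ℂ U : ℂ) ≠ 0 := by exact_mod_cast (finrank_pos (R := ℂ) (M := U)).ne'
  have ht : w * finrank ℂ U = (Nat.card C : ℂ) * σ.character g := by
    have h1 := congrArg (LinearMap.trace ℂ U) hw
    rw [map_smul, LinearMap.trace_one, smul_eq_mul] at h1
    rw [← h1, map_sum, Finset.sum_congr rfl (fun x hx => ?_), Finset.sum_const, nsmul_eq_mul,
      Nat.card_eq_card_toFinset]
    obtain ⟨c, rfl⟩ := isConj_iff.1 (show IsConj g x by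
      rw [Set.mem_toFinset, hC, ConjClasses.mem_carrier_iff_mk_eq,
        ConjClasses.mk_eq_mk_iff_isConj] at hx
      exact hx.symm)
    exact Representation.char_conj σ g c
  rw [← ht, mul_div_cancel_right₀ _ hU]
  let L : MonoidAlgebra ℤ H →ₐ[ℤ] End ℂ U := MonoidAlgebra.lift ℤ (End ℂ U) H σ
  have hint : IsIntegral ℤ (∑ x ∈ C.toFinset, MonoidAlgebra.single x (1 : ℤ)) :=
    IsIntegral.of_finite ℤ _
  have h2 := hint.map L
  have h3 : L (∑ x ∈ C.toFinset, MonoidAlgebra.single x (1 : ℤ)) = algebraMap ℂ (End ℂ U) w := by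
    rw [Algebra.algebraMap_eq_smul_one, ← hw, map_sum]
    exact Finset.sum_congr rfl fun x _ => by simp [L]
  rw [h3] at h2
  exact (isIntegral_algebraMap_iff (fun a b hab => by
    rw [Algebra.algebraMap_eq_smul_one, Algebra.algebraMap_eq_smul_one] at hab
    exact smul_left_injective ℂ one_ne_zero hab)).1 h2

/-- If `Z` acts by scalars in a faithful irreducible representation then the degree divides the
index of `Z`. -/
theorem finrank_dvd_index (hf : Function.Injective σ) (Z : Subgroup H)
    (hZ : ∀ z ∈ Z, ∃ c : ℂ, σ z = c • 1) : finrank ℂ U ∣ Z.index := by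
  classical
  cases nonempty_fintype H
  haveI : Invertible (Nat.card H : ℂ) := invertibleOfNonzero (by simp [Nat.card_pos.ne'])
  have := IrrTools.apply_ne_zero_of_isIrreducible σ
  have hcomm : ∀ z ∈ Z, ∀ x, x * z = z * x := by
    intro z hz x
    obtain ⟨c, hc⟩ := hZ z hz
    apply hf
    rw [map_mul, map_mul, hc, mul_smul_comm, smul_mul_assoc, mul_one, one_mul]
  have : Z.Normal := ⟨fun z hz x => by rwa [hcomm z hz x, mul_inv_cancel_right]⟩
  set χ := σ.character with hχ
  have hscal : ∀ x, ∀ z ∈ Z, ∃ c : ℂ, c ≠ 0 ∧ χ (x * z) = c * χ x ∧ χ (x * z)⁻¹ = c⁻¹ * χ x⁻¹ ∧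
      (c = 1 → z = 1) := by
    intro x z hz
    obtain ⟨c, hc⟩ := hZ z hz
    have hne : σ z ≠ 0 := fun h0 => one_ne_zero (α := End ℂ U) (by
      rw [← map_one σ, ← inv_mul_cancel z, map_mul, h0, mul_zero])
    have hc0 : c ≠ 0 := fun h => hne (by rw [hc, h, zero_smul])
    have hci : σ z⁻¹ = c⁻¹ • 1 := by
      have h1 : σ z⁻¹ * (c • 1) = 1 := by rw [← hc, ← map_mul, inv_mul_cancel, map_one]
      rw [mul_smul_comm, mul_one] at h1
      rw [← h1, smul_smul, inv_mul_cancel₀ hc0, one_smul]
    refine ⟨c, hc0, ?_, ?_, fun h => hf (by rw [hc, h, one_smul, map_one])⟩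
    · rw [hχ, Representation.character, map_mul, hc, mul_smul_comm, mul_one, map_smul, smul_eq_mul]
      rfl
    · rw [hχ, Representation.character, mul_inv_rev, map_mul, hci, smul_mul_assoc, one_mul,
        map_smul, smul_eq_mul]
      rfl
  let h : H → ℂ := fun x => χ x * χ x⁻¹
  have hh : ∀ x, ∀ z ∈ Z, h (x * z) = h x := by
    intro x z hz
    obtain ⟨c, hc0, h1, h2, -⟩ := hscal x z hz
    simp only [h, h1, h2]
    field_simp
  let hq : H ⧸ Z → ℂ := Quotient.lift h fun a b hab => by
    have h1 := hh a _ (QuotientGroup.leftRel_apply.1 hab)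
    rwa [mul_inv_cancel_left, eq_comm] at h1
  have hqmk : ∀ x : H, hq (x : H ⧸ Z) = h x := fun x => rfl
  have hsum : ∑ x, h x = Nat.card H := by
    have ho := Representation.char_orthonormal σ σ
    rw [if_pos ⟨Representation.Equiv.refl σ⟩, inv_mul_eq_one₀ (by simp [Nat.card_pos.ne'])] at ho
    exact ho.symm
  have hfib : ∑ x, h x = (Nat.card Z : ℂ) * ∑ q : H ⧸ Z, hq q := by
    rw [← Finset.sum_fiberwise Finset.univ (fun x : H => (x : H ⧸ Z)) h, Finset.mul_sum]
    refine Finset.sum_congr rfl fun q _ => ?_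
    obtain ⟨a, rfl⟩ := QuotientGroup.mk_surjective q
    rw [Finset.sum_congr rfl (fun x hx => (show h x = hq (a : H ⧸ Z) by
      rw [← hqmk x]
      exact congrArg hq (Finset.mem_filter.1 hx).2)), Finset.sum_const, nsmul_eq_mul]
    congr 2
    rw [Nat.card_eq_fintype_card, ← Fintype.card_subtype]
    exact Fintype.card_congr
      { toFun := fun x => ⟨a⁻¹ * x.1, QuotientGroup.eq.1 x.2.symm⟩
        invFun := fun z => ⟨a * z, QuotientGroup.mk_mul_of_mem a z.2⟩
        left_inv := fun x => by simp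
        right_inv := fun z => by simp }
  have hidx : ∑ q : H ⧸ Z, hq q = (Z.index : ℂ) := by
    have h1 := hfib.symm.trans hsum
    rw [← Z.card_mul_index, Nat.cast_mul] at h1
    exact mul_left_cancel₀ (by simp [Nat.card_pos.ne']) h1
  have hconj : ∀ a b : H, h (b * a * b⁻¹) = h a := fun a b => by
    simp only [h, hχ, mul_inv_rev, inv_inv]
    rw [← mul_assoc b, Representation.char_conj, Representation.char_conj]
  have hcls : ∀ D : ConjClasses (H ⧸ Z), IsIntegral ℤ
      ((∑ q ∈ Finset.univ.filter (fun q => ConjClasses.mk q = D), hq q) / finrank ℂ U) := by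
    intro D
    obtain ⟨q₀, rfl⟩ := ConjClasses.mk_surjective D
    obtain ⟨a, rfl⟩ := QuotientGroup.mk_surjective q₀
    rw [Finset.sum_congr rfl (fun q hq' => (show hq q = h a by
      obtain ⟨c, hc⟩ := isConj_iff.1
        (ConjClasses.mk_eq_mk_iff_isConj.1 (Finset.mem_filter.1 hq').2.symm)
      obtain ⟨b, rfl⟩ := QuotientGroup.mk_surjective c
      rw [← hc, ← QuotientGroup.mk_mul, ← QuotientGroup.mk_inv, ← QuotientGroup.mk_mul, hqmk,
        hconj])), Finset.sum_const, nsmul_eq_mul]
    by_cases h0 : χ a = 0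
    · simp [h, h0, isIntegral_zero]
    have hcard : (Finset.univ.filter fun q : H ⧸ Z =>
        ConjClasses.mk q = ConjClasses.mk (a : H ⧸ Z)).card =
        Nat.card (ConjClasses.carrier (ConjClasses.mk a)) := by
      rw [Nat.card_eq_card_toFinset]
      rw [eq_comm]
      refine Finset.card_bij (fun x _ => (x : H ⧸ Z)) ?_ ?_ ?_
      · intro x hx
        rw [Set.mem_toFinset, ConjClasses.mem_carrier_iff_mk_eq,
          ConjClasses.mk_eq_mk_iff_isConj] at hx
        simpa [ConjClasses.mk_eq_mk_iff_isConj] using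
          (QuotientGroup.mk' Z).map_isConj hx
      · intro x hx y hy hxy
        rw [Set.mem_toFinset, ConjClasses.mem_carrier_iff_mk_eq,
          ConjClasses.mk_eq_mk_iff_isConj] at hx hy
        obtain ⟨c, -, h1, -, h3⟩ := hscal x _ (QuotientGroup.eq.1 hxy)
        rw [mul_inv_cancel_left] at h1
        have hxa : χ x = χ a := by
          obtain ⟨b, rfl⟩ := isConj_iff.1 hx.symm
          exact Representation.char_conj σ a b
        have hya : χ y = χ a := by
          obtain ⟨b, rfl⟩ := isConj_iff.1 hy.symm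
          exact Representation.char_conj σ a b
        rw [hxa, hya] at h1
        exact inv_mul_eq_one.1 (h3 (mul_eq_right₀ h0 |>.1 h1.symm))
      · intro q hq'
        obtain ⟨c, hc⟩ := isConj_iff.1
          (ConjClasses.mk_eq_mk_iff_isConj.1 (Finset.mem_filter.1 hq').2.symm)
        obtain ⟨b, rfl⟩ := QuotientGroup.mk_surjective c
        refine ⟨b * a * b⁻¹, ?_, ?_⟩
        · rw [Set.mem_toFinset, ConjClasses.mem_carrier_iff_mk_eq,
            ConjClasses.mk_eq_mk_iff_isConj]
          exact (isConj_iff.2 ⟨b, rfl⟩ : IsConj a (b * a * b⁻¹)).symm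
        · rw [← hc]; simp
    rw [hcard, show (Nat.card (ConjClasses.carrier (ConjClasses.mk a)) : ℂ) * h a / finrank ℂ U =
      ((Nat.card (ConjClasses.carrier (ConjClasses.mk a)) : ℂ) * χ a / finrank ℂ U) * χ a⁻¹ by
        simp only [h]; ring]
    exact (isIntegral_classSum σ a).mul (IrrTools.isIntegral_character σ a⁻¹)
  have hI : IsIntegral ℤ ((Z.index : ℂ) / finrank ℂ U) := by
    have : Finite (ConjClasses (H ⧸ Z)) := Finite.of_surjective _ ConjClasses.mk_surjective
    have := Fintype.ofFinite (ConjClasses (H ⧸ Z))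
    rw [← hidx, ← Finset.sum_fiberwise Finset.univ (ConjClasses.mk) hq, Finset.sum_div]
    exact IsIntegral.sum _ fun D _ => hcls D
  have hU : finrank ℂ U ≠ 0 := (finrank_pos (R := ℂ) (M := U)).ne'
  have hQ : IsIntegral ℤ ((Z.index : ℚ) / finrank ℂ U) := by
    rw [← isIntegral_algebraMap_iff (B := ℂ) (algebraMap ℚ ℂ).injective]
    simpa using hI
  obtain ⟨k, hk⟩ := IsIntegrallyClosed.isIntegral_iff.1 hQ
  refine Int.natCast_dvd_natCast.1 ⟨k, ?_⟩
  rw [eq_div_iff (by exact_mod_cast hU)] at hk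
  simp only [algebraMap_int_eq, eq_intCast] at hk
  have h4 : ((k * (finrank ℂ U : ℤ) : ℤ) : ℚ) = ((Z.index : ℤ) : ℚ) := by push_cast; exact hk
  rw [mul_comm]
  exact (Int.cast_injective h4).symm

end CfsgLib.CharDeep.DegreeIndex
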