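import Cfsg.Agent.Lib.CharDeep.ProjExt
import Cfsg.Agent.Lib.CharDeep.DegreeIndex

/-!
# The isotypic part of an irreducible representation over a normal subgroup
-/

namespace CfsgLib.CharDeep.Isotypic

open Module CfsgLib.CharDeep

section

variable {K : Type*} [Group K] {V W : Type*} [AddCommGroup V] [Module ℂ V] [AddCommGroup W]
  [Module ℂ W] [FiniteDimensional ℂ W] (ρ : Representation ℂ K W) [ρ.IsIrreducible]
  (σ : Representation ℂ K V)

/-- Linearly independent intertwiners out of an irreducible have independent ranges. -/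
theorem injective_of_linearIndependent {e : ℕ} (φ : Fin e → Representation.IntertwiningMap ρ σ)
    (hφ : LinearIndependent ℂ φ) :
    ∀ w : Fin e → W, ∑ i, φ i (w i) = 0 → w = 0 := by
  induction e with
  | zero => exact fun w _ => funext fun i => i.elim0
  | succ e ih =>
    rw [linearIndependent_fin_succ] at hφ
    obtain ⟨hli, hnot⟩ := hφ
    have ih' := ih (Fin.tail φ) hli
    intro w hw
    rw [Fin.sum_univ_succ] at hw
    let Φ : (Fin e → W) →ₗ[ℂ] V := ∑ i, (φ i.succ).toLinearMap ∘ₗ LinearMap.proj i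
    have hΦap : ∀ v, Φ v = ∑ i, φ i.succ (v i) := fun v => by simp [Φ]
    have hΦi : Function.Injective Φ := by
      rw [← LinearMap.ker_eq_bot, LinearMap.ker_eq_bot']
      intro v hv
      exact ih' v ((hΦap v).symm.trans hv)
    have hΦK : ∀ k v, Φ (fun i => ρ k (v i)) = σ k (Φ v) := fun k v => by
      rw [hΦap, hΦap, map_sum]
      exact Finset.sum_congr rfl fun i _ => LinearMap.congr_fun ((φ i.succ).isIntertwining' k) _
    by_cases h0 : w 0 = 0
    · rw [h0, map_zero, zero_add] at hw
      have := ih' (fun i => w i.succ) hw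
      exact funext fun i => Fin.cases h0 (fun j => congrFun this j) i
    exfalso
    have hinv : ∀ k, ∀ u ∈ (LinearMap.range Φ).comap (φ 0).toLinearMap,
        ρ k u ∈ (LinearMap.range Φ).comap (φ 0).toLinearMap := by
      intro k u hu
      rw [Submodule.mem_comap] at hu ⊢
      obtain ⟨v, hv⟩ := hu
      refine ⟨fun i => ρ k (v i), ?_⟩
      rw [hΦK, hv]
      exact (LinearMap.congr_fun ((φ 0).isIntertwining' k) u).symm
    have hmem : w 0 ∈ (LinearMap.range Φ).comap (φ 0).toLinearMap := by
      refine ⟨-fun i => w i.succ, ?_⟩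
      rw [map_neg, hΦap, neg_eq_iff_add_eq_zero, add_comm]
      exact hw
    rcases IrrTools.eq_bot_or_top_of_invariant ρ _ hinv with h | h
    · rw [h, Submodule.mem_bot] at hmem
      exact h0 hmem
    have hrange : ∀ u, ∃ v, Φ v = φ 0 u := fun u => by
      have : u ∈ (LinearMap.range Φ).comap (φ 0).toLinearMap := h ▸ Submodule.mem_top
      exact this
    choose ψ hψ using hrange
    let Ψ : W →ₗ[ℂ] (Fin e → W) :=
      { toFun := ψ
        map_add' := fun a b => hΦi (by rw [map_add, hψ, hψ, hψ, map_add])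
        map_smul' := fun c a => hΦi (by rw [map_smul, hψ, hψ, map_smul]; rfl) }
    have hscal : ∀ i, ∃ c : ℂ, LinearMap.proj i ∘ₗ Ψ = c • (1 : End ℂ W) := fun i =>
      IrrTools.exists_smul_of_commute ρ _ fun k => LinearMap.ext fun u => by
        have h1 : ψ (ρ k u) = fun j => ρ k (ψ u j) := hΦi (by
          rw [hψ, hΦK, hψ]
          exact LinearMap.congr_fun ((φ 0).isIntertwining' k) u)
        exact congrFun h1 i
    choose c hc using hscal
    have hφ0 : φ 0 = ∑ i, c i • φ i.succ := by
      refine Representation.IntertwiningMap.ext (LinearMap.ext fun u => ?_)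
      show φ 0 u = (∑ i, c i • φ i.succ) u
      rw [← hψ u, hΦap, Representation.IntertwiningMap.sum_apply]
      refine Finset.sum_congr rfl fun i _ => ?_
      have h1 : ψ u i = c i • u := LinearMap.congr_fun (hc i) u
      rw [h1, map_smul]
      rfl
    exact hnot (hφ0 ▸ Submodule.sum_mem _ fun i _ => Submodule.smul_mem _ _
      (Submodule.subset_span ⟨i, rfl⟩))

/-- The span of the ranges of a space of intertwiners. -/
noncomputable def rangeSpan (U : Submodule ℂ (Representation.IntertwiningMap ρ σ)) :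
    Submodule ℂ V :=
  ⨆ φ : U, LinearMap.range (φ : Representation.IntertwiningMap ρ σ).toLinearMap

omit [FiniteDimensional ℂ W] [ρ.IsIrreducible] in
theorem apply_mem_rangeSpan {U : Submodule ℂ (Representation.IntertwiningMap ρ σ)}
    {φ : Representation.IntertwiningMap ρ σ} (hφ : φ ∈ U) (w : W) : φ w ∈ rangeSpan ρ σ U :=
  Submodule.mem_iSup_of_mem (⟨φ, hφ⟩ : U) ⟨w, rfl⟩

omit [FiniteDimensional ℂ W] [ρ.IsIrreducible] in
theorem rangeSpan_le {U : Submodule ℂ (Representation.IntertwiningMap ρ σ)} {Y : Submodule ℂ V}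
    (h : ∀ φ ∈ U, ∀ w, (φ : Representation.IntertwiningMap ρ σ) w ∈ Y) : rangeSpan ρ σ U ≤ Y :=
  iSup_le fun φ => by rintro _ ⟨w, rfl⟩; exact h φ.1 φ.2 w

instance finiteDimensional_intertwiningMap [FiniteDimensional ℂ V] :
    FiniteDimensional ℂ (Representation.IntertwiningMap ρ σ) :=
  Module.Finite.of_injective
    ({ toFun := fun f => f.toLinearMap, map_add' := fun _ _ => rfl, map_smul' := fun _ _ => rfl } :
      Representation.IntertwiningMap ρ σ →ₗ[ℂ] (W →ₗ[ℂ] V))
    fun _ _ h => Representation.IntertwiningMap.ext h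

theorem finrank_rangeSpan [FiniteDimensional ℂ V]
    (U : Submodule ℂ (Representation.IntertwiningMap ρ σ)) :
    finrank ℂ (rangeSpan ρ σ U) = finrank ℂ U * finrank ℂ W := by
  let b := Module.finBasis ℂ U
  let φ : Fin (finrank ℂ U) → Representation.IntertwiningMap ρ σ := fun i => (b i : _)
  have hli : LinearIndependent ℂ φ := b.linearIndependent.map' U.subtype U.ker_subtype
  let Φ : (Fin (finrank ℂ U) → W) →ₗ[ℂ] V := ∑ i, (φ i).toLinearMap ∘ₗ LinearMap.proj i
  have hΦap : ∀ v, Φ v = ∑ i, φ i (v i) := fun v => by simp [Φ]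
  have hinj : Function.Injective Φ := by
    rw [← LinearMap.ker_eq_bot, LinearMap.ker_eq_bot']
    intro v hv
    exact injective_of_linearIndependent ρ σ φ hli v ((hΦap v).symm.trans hv)
  have hrange : LinearMap.range Φ = rangeSpan ρ σ U := by
    refine le_antisymm ?_ (rangeSpan_le ρ σ fun ψ hψ w => ?_)
    · rintro _ ⟨v, rfl⟩
      rw [hΦap]
      exact Submodule.sum_mem _ fun i _ => apply_mem_rangeSpan ρ σ (b i).2 _
    · refine ⟨fun i => b.repr ⟨ψ, hψ⟩ i • w, ?_⟩
      rw [hΦap]
      have h := congrArg U.subtype (b.sum_repr ⟨ψ, hψ⟩)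
      rw [map_sum] at h
      conv_rhs => rw [show ψ = U.subtype ⟨ψ, hψ⟩ from rfl, ← h,
        Representation.IntertwiningMap.sum_apply]
      exact Finset.sum_congr rfl fun i _ => by rw [map_smul]; rfl
  rw [← hrange, LinearMap.finrank_range_of_inj hinj, Module.finrank_pi_fintype]
  simp

end

variable {G : Type*} [Group G] [Finite G] {N : Subgroup G} [N.Normal] {V W : Type*}
  [AddCommGroup V] [Module ℂ V] [FiniteDimensional ℂ V] [AddCommGroup W] [Module ℂ W]
  [FiniteDimensional ℂ W] (ρ : Representation ℂ N W) [ρ.IsIrreducible]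
  (π : Representation ℂ G V)

/-- The inertia group of `ρ`. -/
def inertia : Subgroup G where
  carrier := {g | ∀ n : N, ρ.character (MulAut.conjNormal g n) = ρ.character n}
  one_mem' := fun n => by simp
  mul_mem' := fun {a b} ha hb n => by rw [map_mul, MulAut.mul_apply, ha, hb]
  inv_mem' := fun {a} ha n => by
    have h := ha (MulAut.conjNormal a⁻¹ n)
    rwa [← MulAut.mul_apply, ← map_mul, mul_inv_cancel, map_one, MulAut.one_apply, eq_comm] at h

omit [Finite G] [FiniteDimensional ℂ W] [ρ.IsIrreducible] in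
theorem le_inertia : N ≤ inertia ρ := fun m hm n => by
  have : MulAut.conjNormal m n = ⟨m, hm⟩ * n * (⟨m, hm⟩ : N)⁻¹ := Subtype.ext (by simp)
  rw [this, Representation.char_conj]

theorem range_proj : (ProjExt.proj ρ).range = inertia ρ := by
  refine le_antisymm ?_ fun g hg => ?_
  · rintro _ ⟨γ, rfl⟩
    exact ProjExt.character_conj_proj ρ γ
  · exact ProjExt.exists_lift ρ g hg

local notation "πN" => π.comp N.subtype

/-- The projection to the isotypic part. -/
noncomputable def isoProj [Fintype N] : End ℂ V :=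
  ((finrank ℂ W : ℂ) / Nat.card N) • ∑ n : N, ρ.character n⁻¹ • π (n : G)

theorem isoProj_apply [Fintype N] (x : G) (φ : Representation.IntertwiningMap ρ πN) (w : W) :
    (x ∈ inertia ρ → isoProj ρ π (π x (φ w)) = π x (φ w)) ∧
      (x ∉ inertia ρ → isoProj ρ π (π x (φ w)) = 0) := by
  have := ProjExt.twist_isIrreducible ρ x⁻¹
  have key : ∀ n : N, π (n : G) (π x (φ w)) = π x (φ (ProjExt.twist ρ x⁻¹ n w)) := fun n => by
    rw [show φ (ProjExt.twist ρ x⁻¹ n w) = π ((MulAut.conjNormal x⁻¹ n : N) : G) (φ w) from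
      LinearMap.congr_fun (φ.isIntertwining' (MulAut.conjNormal x⁻¹ n)) w,
      ← Module.End.mul_apply, ← Module.End.mul_apply, ← map_mul, ← map_mul]
    simp [mul_assoc]
  have hexp : isoProj ρ π (π x (φ w)) = ((finrank ℂ W : ℂ) / Nat.card N) •
      π x (φ ((∑ n : N, ρ.character n⁻¹ • ProjExt.twist ρ x⁻¹ n) w)) := by
    simp only [isoProj, LinearMap.smul_apply, LinearMap.sum_apply, key, map_sum, map_smul]
  constructor
  · intro hx
    have h : (ProjExt.twist ρ x⁻¹).character = ρ.character :=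
      funext ((inertia ρ).inv_mem hx)
    rw [hexp, (IrrTools.sum_character_inv_smul ρ (ProjExt.twist ρ x⁻¹)).1 h, LinearMap.smul_apply,
      Module.End.one_apply, map_smul, map_smul, smul_smul]
    have hW := IrrTools.apply_ne_zero_of_isIrreducible ρ
    rw [div_mul_div_cancel₀ (by exact_mod_cast Nat.card_pos.ne'),
      div_self (by exact_mod_cast (finrank_pos (R := ℂ) (M := W)).ne'), one_smul]
  · intro hx
    have h : (ProjExt.twist ρ x⁻¹).character ≠ ρ.character := fun h => hx (by
      have h1 : x⁻¹ ∈ inertia ρ := fun n => congrFun h n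
      simpa using (inertia ρ).inv_mem h1)
    rw [hexp, (IrrTools.sum_character_inv_smul ρ (ProjExt.twist ρ x⁻¹)).2 h, LinearMap.zero_apply,
      map_zero, map_zero, smul_zero]

omit [FiniteDimensional ℂ W] [ρ.IsIrreducible] [FiniteDimensional ℂ V] in
theorem intertwiner_conj_mem (γ : ProjExt.cover ρ) (φ : Representation.IntertwiningMap ρ πN)
    (n : N) :
    (π (ProjExt.proj ρ γ) * π ((MulAut.conjNormal (ProjExt.proj ρ γ)⁻¹ n : N) : G)) =
      π (n : G) * π (ProjExt.proj ρ γ) := by
  rw [← map_mul, ← map_mul]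
  simp [mul_assoc]

/-- The action of the cover on intertwiners. -/
noncomputable def coverAction : Representation ℂ (ProjExt.cover ρ)
    (Representation.IntertwiningMap ρ πN) where
  toFun γ :=
    { toFun := fun φ =>
        ⟨π (ProjExt.proj ρ γ) ∘ₗ φ.toLinearMap ∘ₗ (ProjExt.lin ρ γ⁻¹ : End ℂ W), fun n =>
          LinearMap.ext fun w => by
            have h1 : (ProjExt.lin ρ γ⁻¹ : End ℂ W) (ρ n w) =
                ρ (MulAut.conjNormal (ProjExt.proj ρ γ⁻¹) n) ((ProjExt.lin ρ γ⁻¹ : End ℂ W) w) :=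
              LinearMap.congr_fun (ProjExt.lin_mul ρ γ⁻¹ n) w
            simp only [LinearMap.coe_comp, Function.comp_apply, h1]
            rw [show φ.toLinearMap (ρ (MulAut.conjNormal (ProjExt.proj ρ γ⁻¹) n) _) = _ from
              LinearMap.congr_fun (φ.isIntertwining' _) _, map_inv (ProjExt.proj ρ) γ]
            exact LinearMap.congr_fun (intertwiner_conj_mem ρ π γ φ n) _⟩
      map_add' := fun a b => Representation.IntertwiningMap.ext (by
        simp [LinearMap.comp_add, LinearMap.add_comp])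
      map_smul' := fun c a => Representation.IntertwiningMap.ext (by
        simp [LinearMap.comp_smul, LinearMap.smul_comp]) }
  map_one' := LinearMap.ext fun φ => Representation.IntertwiningMap.ext (LinearMap.ext fun w => by
    simp)
  map_mul' a b := LinearMap.ext fun φ => Representation.IntertwiningMap.ext
    (LinearMap.ext fun w => by simp [mul_inv_rev])

theorem coverAction_apply (γ : ProjExt.cover ρ) (φ : Representation.IntertwiningMap ρ πN) (w : W) :
    (coverAction ρ π γ φ) w = π (ProjExt.proj ρ γ) (φ ((ProjExt.lin ρ γ⁻¹ : End ℂ W) w)) := rfl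

theorem rangeSpan_invariant (U : Submodule ℂ (Representation.IntertwiningMap ρ πN))
    (hU : ∀ γ, ∀ φ ∈ U, coverAction ρ π γ φ ∈ U) (g : G) (hg : g ∈ inertia ρ) (v : V)
    (hv : v ∈ rangeSpan ρ πN U) : π g v ∈ rangeSpan ρ πN U := by
  obtain ⟨γ, rfl⟩ := ProjExt.exists_lift ρ g hg
  suffices rangeSpan ρ πN U ≤ (rangeSpan ρ πN U).comap (π (ProjExt.proj ρ γ)) from this hv
  refine rangeSpan_le ρ πN fun φ hφ w => ?_
  have h1 : π (ProjExt.proj ρ γ) (φ w) =
      (coverAction ρ π γ φ) ((ProjExt.lin ρ γ : End ℂ W) w) := by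
    rw [coverAction_apply, ← Module.End.mul_apply (f := (ProjExt.lin ρ γ⁻¹ : End ℂ W)),
      ← Units.val_mul, ← map_mul, inv_mul_cancel, map_one, Units.val_one, Module.End.one_apply]
  rw [Submodule.mem_comap, h1]
  exact apply_mem_rangeSpan ρ πN (hU γ φ hφ) _

/-- An invariant space of intertwiners is everything, and the degree splits. -/
theorem eq_top_and_finrank [π.IsIrreducible]
    (U : Submodule ℂ (Representation.IntertwiningMap ρ πN))
    (hU : ∀ γ, ∀ φ ∈ U, coverAction ρ π γ φ ∈ U) (hne : U ≠ ⊥) :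
    U = ⊤ ∧ finrank ℂ V = (inertia ρ).index * finrank ℂ (Representation.IntertwiningMap ρ πN) *
      finrank ℂ W := by
  classical
  cases nonempty_fintype G
  have := IrrTools.apply_ne_zero_of_isIrreducible ρ
  set T := inertia ρ
  set Y := rangeSpan ρ πN U with hY
  set X := rangeSpan ρ πN ⊤ with hX
  let L : Submodule ℂ V → ((G ⧸ T) → V) →ₗ[ℂ] V := fun _ =>
    ∑ q : G ⧸ T, π q.out ∘ₗ LinearMap.proj q
  let LY : (G ⧸ T → Y) →ₗ[ℂ] V := ∑ q : G ⧸ T, π q.out ∘ₗ Y.subtype ∘ₗ LinearMap.proj q
  let LX : (G ⧸ T → X) →ₗ[ℂ] V := ∑ q : G ⧸ T, π q.out ∘ₗ X.subtype ∘ₗ LinearMap.proj q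
  have hLY : ∀ y, LY y = ∑ q, π q.out (y q : V) := fun y => by simp [LY]
  have hLX : ∀ y, LX y = ∑ q, π q.out (y q : V) := fun y => by simp [LX]
  have hgen : ∀ (g : G) (q : G ⧸ T) (v : V), v ∈ Y → π g (π q.out v) ∈ LinearMap.range LY := by
    intro g q v hv
    have hmem : ((g • q).out⁻¹ * (g * q.out)) ∈ T := by
      refine QuotientGroup.eq.1 ?_
      rw [QuotientGroup.out_eq', ← smul_eq_mul g q.out, ← MulAction.Quotient.smul_mk,
        QuotientGroup.out_eq']
    refine ⟨Pi.single (g • q) ⟨_, rangeSpan_invariant ρ π U hU _ hmem v hv⟩, ?_⟩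
    rw [hLY, Finset.sum_eq_single (g • q) (fun b _ hb => by simp [Pi.single_eq_of_ne hb])
      (by simp), Pi.single_eq_same]
    rw [← Module.End.mul_apply, ← map_mul, mul_inv_cancel_left, map_mul]
    rfl
  have hsurj : LinearMap.range LY = ⊤ := by
    refine (IrrTools.eq_bot_or_top_of_invariant π _ ?_).resolve_left ?_
    · rintro g _ ⟨y, rfl⟩
      rw [hLY, map_sum]
      exact Submodule.sum_mem _ fun q _ => hgen g q _ (y q).2
    · intro hbot
      apply hne
      refine (Submodule.eq_bot_iff _).2 fun φ hφ =>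
        Representation.IntertwiningMap.ext (LinearMap.ext fun w => ?_)
      set q : G ⧸ T := ((1 : G) : G ⧸ T)
      have h := hgen q.out⁻¹ q _ (apply_mem_rangeSpan ρ πN hφ w)
      rw [hbot, Submodule.mem_bot, ← Module.End.mul_apply, ← map_mul, inv_mul_cancel, map_one,
        Module.End.one_apply] at h
      exact h
  have hmemX : ∀ (z : G) (v : V), v ∈ X →
      (z ∈ T → isoProj ρ π (π z v) = π z v) ∧ (z ∉ T → isoProj ρ π (π z v) = 0) := by
    intro z v hv
    constructor
    · intro hz
      suffices X ≤ LinearMap.eqLocus (isoProj ρ π ∘ₗ π z) (π z) from this hv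
      exact rangeSpan_le ρ πN fun φ _ w => (isoProj_apply ρ π z φ w).1 hz
    · intro hz
      suffices X ≤ LinearMap.ker (isoProj ρ π ∘ₗ π z) from this hv
      exact rangeSpan_le ρ πN fun φ _ w => (isoProj_apply ρ π z φ w).2 hz
  have hinj : Function.Injective LX := by
    rw [← LinearMap.ker_eq_bot, LinearMap.ker_eq_bot']
    intro y hy
    funext q₀
    have h := congrArg (fun v => isoProj ρ π (π (q₀.out⁻¹) v)) ((hLX y).symm.trans hy)
    simp only [map_zero, map_sum] at h
    rw [Finset.sum_eq_single q₀ (fun q _ hq => ?_) (by simp)] at h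
    · rw [← Module.End.mul_apply (f := π q₀.out⁻¹), ← map_mul, inv_mul_cancel,
        (hmemX 1 _ (y q₀).2).1 T.one_mem, map_one, Module.End.one_apply] at h
      exact Subtype.ext h
    · rw [← Module.End.mul_apply (f := π q₀.out⁻¹), ← map_mul]
      refine (hmemX _ _ (y q).2).2 fun hm => hq ?_
      rw [← QuotientGroup.out_eq' q, ← QuotientGroup.out_eq' q₀]
      exact (QuotientGroup.eq.2 hm).symm
  have hcard : Fintype.card (G ⧸ T) = T.index := by
    rw [Subgroup.index, Nat.card_eq_fintype_card]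
  have h1 : finrank ℂ V ≤ T.index * (finrank ℂ U * finrank ℂ W) := by
    have := LinearMap.finrank_range_le LY
    rw [hsurj, finrank_top, Module.finrank_pi_fintype, Finset.sum_const, Finset.card_univ, hcard,
      smul_eq_mul, finrank_rangeSpan] at this
    exact this
  have h2 : T.index * (finrank ℂ (⊤ : Submodule ℂ (Representation.IntertwiningMap ρ πN)) *
      finrank ℂ W) ≤ finrank ℂ V := by
    have := LinearMap.finrank_le_finrank_of_injective hinj
    rw [Module.finrank_pi_fintype, Finset.sum_const, Finset.card_univ, hcard, smul_eq_mul,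
      finrank_rangeSpan] at this
    exact this
  rw [finrank_top] at h2
  have hpos : 0 < T.index := Nat.pos_of_ne_zero Subgroup.index_ne_zero_of_finite
  have hle := U.finrank_le
  have heq : finrank ℂ U = finrank ℂ (Representation.IntertwiningMap ρ πN) := by
    have h3 := Nat.le_of_mul_le_mul_left (h2.trans h1) hpos
    exact le_antisymm hle (Nat.le_of_mul_le_mul_right h3 finrank_pos)
  refine ⟨Submodule.eq_top_of_finrank_eq heq, ?_⟩
  rw [heq] at h1
  rw [mul_assoc]
  exact le_antisymm h1 h2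

/-- **Degrees over a normal subgroup.** -/
theorem dvd_and_div_dvd_index [π.IsIrreducible]
    (h : Nontrivial (Representation.IntertwiningMap ρ πN)) :
    finrank ℂ W ∣ finrank ℂ V ∧ finrank ℂ V / finrank ℂ W ∣ N.index := by
  classical
  have hW := IrrTools.apply_ne_zero_of_isIrreducible ρ
  obtain ⟨-, hV⟩ := eq_top_and_finrank ρ π ⊤ (fun _ _ _ => Submodule.mem_top) top_ne_bot
  let f : ProjExt.cover ρ →* (End ℂ (Representation.IntertwiningMap ρ πN))ˣ :=
    (coverAction ρ π).toHomUnits
  let τ : Representation ℂ f.range (Representation.IntertwiningMap ρ πN) :=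
    (Units.coeHom _).comp f.range.subtype
  have hτ : τ.IsIrreducible := IrrTools.isIrreducible_of_forall τ fun U hU => by
    by_cases hne : U = ⊥
    · exact Or.inl hne
    · exact Or.inr (eq_top_and_finrank ρ π U
        (fun γ φ hφ => hU ⟨f γ, γ, rfl⟩ φ hφ) hne).1
  have hinjτ : Function.Injective τ := fun a b hab => Subtype.ext (Units.ext hab)
  have hfin : Finite f.range := Finite.of_surjective _ f.rangeRestrict_surjective
  have hdeg := DegreeIndex.finrank_dvd_index τ hinjτ ((ProjExt.pre ρ).map f.rangeRestrict) (by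
    rintro _ ⟨γ, hγ, rfl⟩
    refine ⟨(ProjExt.scalar ρ ⟨γ, hγ⟩⁻¹ : ℂˣ), LinearMap.ext fun φ =>
      Representation.IntertwiningMap.ext (LinearMap.ext fun w => ?_)⟩
    set c := ProjExt.scalar ρ ⟨γ, hγ⟩⁻¹
    have h1 : (ProjExt.lin ρ γ⁻¹ : End ℂ W) = (c : ℂ) • ρ ⟨_, ((ProjExt.pre ρ).inv_mem hγ)⟩ :=
      ProjExt.scalar_spec ρ ⟨γ, hγ⟩⁻¹
    show (coverAction ρ π γ φ) w = (c : ℂ) • φ w
    rw [coverAction_apply, h1, LinearMap.smul_apply, map_smul, map_smul,
      show φ (ρ ⟨_, ((ProjExt.pre ρ).inv_mem hγ)⟩ w) = π _ (φ w) from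
        LinearMap.congr_fun (φ.isIntertwining' _) w,
      ← Module.End.mul_apply]
    show _ • (π (ProjExt.proj ρ γ) * π (ProjExt.proj ρ γ⁻¹)) (φ w) = _
    rw [← map_mul, map_inv, mul_inv_cancel, map_one, Module.End.one_apply])
  have hidx : finrank ℂ (Representation.IntertwiningMap ρ πN) ∣ N.relIndex (inertia ρ) := by
    refine hdeg.trans ((Subgroup.index_map_dvd _ f.rangeRestrict_surjective).trans ?_)
    rw [Subgroup.index_comap, range_proj]
  refine ⟨⟨_, by rw [hV, mul_comm]⟩, ?_⟩
  rw [hV, Nat.mul_div_cancel _ finrank_pos, ← Subgroup.relIndex_mul_index (le_inertia ρ), mul_comm]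
  exact mul_dvd_mul_right hidx _

end CfsgLib.CharDeep.Isotypic
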