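import Cfsg.Agent.Lib.Char.Orth
import Cfsg.Agent.Lib.Char.Induced
import Cfsg.Agent.Lib.CharDeep.Isotypic

/-!
# Clifford theory at the level of characters
-/

namespace CfsgLib.CharDeep.Clifford

open CfsgLib

section General

variable {G : Type*} [Group G]

theorem eq_zero_of_apply_one_eq_zero {θ : G → ℂ} (hθ : Cfsg.IsCharacter G θ) (h : θ 1 = 0) :
    θ = 0 := by
  obtain ⟨n, ρ, rfl⟩ := hθ
  rw [Representation.char_one, Module.finrank_fin_fun, Nat.cast_eq_zero] at h
  subst h
  funext g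
  show LinearMap.trace ℂ _ (ρ g) = 0
  rw [Subsingleton.elim (ρ g) 0, map_zero]

variable [Fintype G]

theorem isCharacter_sub_of_constituent {θ χ : G → ℂ} (hθ : Cfsg.IsCharacter G θ)
    (hχ : Cfsg.IsIrrCharacter G χ) (h : Cfsg.classInner θ χ ≠ 0) :
    Cfsg.IsCharacter G (θ - χ) := by
  refine Char.isCharacter_iff.2 ⟨(Char.classFunctions G).sub_mem
    (Char.IsCharacter.isClassFunction hθ) (Char.IsIrrCharacter.isClassFunction hχ),
    fun ψ hψ => ?_⟩
  obtain ⟨n, hn⟩ := Char.IsCharacter.classInner_nat hθ (Char.IsIrrCharacter.isCharacter hψ)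
  rw [Char.classInner_sub_left, hn]
  by_cases h' : χ = ψ
  · subst h'
    rw [Char.classInner_irr_self hχ]
    refine ⟨n - 1, ?_⟩
    rw [Nat.cast_sub, Nat.cast_one]
    rcases n with _ | n
    · exact absurd (hn.trans Nat.cast_zero) h
    · omega
  · exact ⟨n, by rw [Char.classInner_irr_ne hχ hψ h', sub_zero]⟩

theorem eq_of_constituent_of_apply_one_eq {θ χ : G → ℂ} (hθ : Cfsg.IsCharacter G θ)
    (hχ : Cfsg.IsIrrCharacter G χ) (h : Cfsg.classInner θ χ ≠ 0) (h1 : θ 1 = χ 1) : θ = χ :=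
  sub_eq_zero.1 (eq_zero_of_apply_one_eq_zero (isCharacter_sub_of_constituent hθ hχ h)
    (by rw [Pi.sub_apply, h1, sub_self]))

/-- A nonzero inner product of `θ` with a character passes through some constituent. -/
theorem exists_constituent {θ ψ : G → ℂ} (hθ : Cfsg.IsClassFunction G θ)
    (h : Cfsg.classInner θ ψ ≠ 0) : ∃ χ : Cfsg.IrrCharacter G,
      Cfsg.classInner θ χ ≠ 0 ∧ Cfsg.classInner (χ : G → ℂ) ψ ≠ 0 := by
  rw [Char.classInner_eq_sum_irr hθ] at h
  obtain ⟨χ, -, hχ⟩ := Finset.exists_ne_zero_of_sum_ne_zero h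
  exact ⟨χ, left_ne_zero_of_mul hχ, right_ne_zero_of_mul hχ⟩

/-- If `χ` is a constituent of `θ` and `φ` one of `χ` restricted along `f`, then `φ` is one of
`θ` restricted along `f`. -/
theorem classInner_ne_zero_trans {θ χ : G → ℂ} (hθ : Cfsg.IsCharacter G θ)
    (hχ : Cfsg.IsIrrCharacter G χ) (h : Cfsg.classInner θ χ ≠ 0) {K : Type*} [Group K] [Fintype K]
    (f : K →* G) {φ : K → ℂ} (hφ : Cfsg.IsCharacter K φ)
    (h' : Cfsg.classInner (χ ∘ f) φ ≠ 0) : Cfsg.classInner (θ ∘ f) φ ≠ 0 := by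
  obtain ⟨a, ha⟩ := Char.IsCharacter.classInner_nat
    (Char.IsCharacter.comp (Char.IsIrrCharacter.isCharacter hχ) f) hφ
  obtain ⟨b, hb⟩ := Char.IsCharacter.classInner_nat
    (Char.IsCharacter.comp (isCharacter_sub_of_constituent hθ hχ h) f) hφ
  have h1 : θ ∘ f = χ ∘ f + (θ - χ) ∘ f := funext fun k => by simp
  rw [h1, Char.classInner_add_left, ha, hb, ← Nat.cast_add, Nat.cast_ne_zero]
  rw [ha, Nat.cast_ne_zero] at h'
  omega

end General

section Normal

variable {G : Type*} [Group G] (N : Subgroup G) [hN : N.Normal]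

/-- The conjugate of a function on `N` by `g`. -/
noncomputable def conjFun (g : G) (θ : N → ℂ) : N → ℂ := θ ∘ (MulAut.conjNormal g : MulAut N)

theorem conjFun_apply (g : G) (θ : N → ℂ) (n : N) :
    conjFun N g θ n = θ ⟨g * n * g⁻¹, hN.conj_mem (n : G) n.2 g⟩ :=
  congrArg θ (Subtype.ext (by simp))

theorem isIrrCharacter_conjFun (g : G) {θ : N → ℂ} (hθ : Cfsg.IsIrrCharacter N θ) :
    Cfsg.IsIrrCharacter N (conjFun N g θ) :=
  Char.IsIrrCharacter.comp_surjective hθ (MulAut.conjNormal g : MulAut N).toMonoidHom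
    (MulAut.conjNormal g : MulAut N).surjective

variable [Fintype G] [Fintype N]

theorem classInner_restrict_conjFun (g : G) {χ : G → ℂ} (hχ : Cfsg.IsClassFunction G χ)
    (θ : N → ℂ) :
    Cfsg.classInner (fun n : N => χ n) (conjFun N g θ) =
      Cfsg.classInner (fun n : N => χ n) θ := by
  unfold Cfsg.classInner
  congr 1
  refine Fintype.sum_equiv (MulAut.conjNormal g : MulAut N).toEquiv _ _ fun n => ?_
  simp only [conjFun, Function.comp_apply, MulEquiv.toEquiv_eq_coe, EquivLike.coe_coe]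
  rw [MulAut.conjNormal_apply, hχ]

/-- Constituents of the restriction of an irreducible character are conjugate. -/
theorem exists_conj_of_constituent {χ : G → ℂ} (hχ : Cfsg.IsIrrCharacter G χ) {θ φ : N → ℂ}
    (hθ : Cfsg.IsIrrCharacter N θ) (hφ : Cfsg.IsIrrCharacter N φ)
    (h : Cfsg.classInner (fun n : N => χ n) θ ≠ 0)
    (h' : Cfsg.classInner (fun n : N => χ n) φ ≠ 0) : ∃ g : G, φ = conjFun N g θ := by
  have hχc := Char.IsIrrCharacter.isCharacter hχ
  have hθc := Char.IsIrrCharacter.isCharacter hθ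
  have hφc := Char.IsIrrCharacter.isCharacter hφ
  have hI : Cfsg.IsCharacter G (Cfsg.indFun N θ) := Char.IsCharacter.indFun N hθc
  have h1 : Cfsg.classInner (Cfsg.indFun N θ) χ ≠ 0 := by
    rw [Char.classInner_indFun N θ (Char.IsIrrCharacter.isClassFunction hχ),
      Char.IsCharacter.classInner_comm hθc (Char.IsCharacter.restrict hχc N)]
    exact h
  have h2 := classInner_ne_zero_trans hI hχ h1 N.subtype hφc h'
  have h3 : (Cfsg.indFun N θ) ∘ N.subtype =
      (Nat.card N : ℂ)⁻¹ • ∑ g : G, conjFun N g θ := by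
    funext n
    rw [Function.comp_apply, Pi.smul_apply, Finset.sum_apply, smul_eq_mul, Subgroup.coe_subtype,
      Char.indFun_apply_of_normal]
    simp only [conjFun_apply]
  rw [h3, Char.classInner_smul_left, Char.classInner_sum_left] at h2
  obtain ⟨g, -, hg⟩ := Finset.exists_ne_zero_of_sum_ne_zero (right_ne_zero_of_mul h2)
  refine ⟨g, ?_⟩
  by_contra hne
  exact hg (Char.classInner_irr_ne (isIrrCharacter_conjFun N g hθ) hφ (Ne.symm hne))

/-- The restriction of an irreducible character over an invariant `θ` is a multiple of `θ`. -/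
theorem restrict_eq_smul {χ : G → ℂ} (hχ : Cfsg.IsIrrCharacter G χ) {θ : N → ℂ}
    (hθ : Cfsg.IsIrrCharacter N θ) (h : Cfsg.classInner (fun n : N => χ n) θ ≠ 0)
    (hinv : ∀ (g : G) (n : N), θ ⟨g * n * g⁻¹, hN.conj_mem (n : G) n.2 g⟩ = θ n) :
    ∃ e : ℕ, e ≠ 0 ∧ Cfsg.classInner (fun n : N => χ n) θ = e ∧
      (fun n : N => χ n) = (e : ℂ) • θ := by
  classical
  have hχN := Char.IsCharacter.restrict (Char.IsIrrCharacter.isCharacter hχ) N
  obtain ⟨e, he⟩ := Char.IsCharacter.classInner_nat hχN (Char.IsIrrCharacter.isCharacter hθ)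
  refine ⟨e, fun h0 => h (by rw [he, h0, Nat.cast_zero]), he, ?_⟩
  rw [Char.IsClassFunction.eq_sum_irr (Char.IsCharacter.isClassFunction hχN)]
  rw [Finset.sum_eq_single (⟨θ, hθ⟩ : Cfsg.IrrCharacter N)]
  · rw [← he]
  · intro φ _ hne
    rw [show Cfsg.classInner (fun n : N => χ n) φ = 0 from ?_, zero_smul]
    by_contra h'
    obtain ⟨g, hg⟩ := exists_conj_of_constituent N hχ hθ φ.2 h h'
    refine hne (Subtype.ext ?_)
    rw [hg]
    funext n
    rw [conjFun_apply, hinv]
  · simp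

end Normal

/-- Clifford's degree formula. -/
theorem apply_one_eq {G : Type*} [Group G] [Fintype G] {N : Subgroup G} [hN : N.Normal] [Fintype N]
    {χ : G → ℂ} (hχ : Cfsg.IsIrrCharacter G χ) {θ : N → ℂ} (hθ : Cfsg.IsIrrCharacter N θ)
    (h : Cfsg.classInner (fun n : N => χ n) θ ≠ 0) (T : Subgroup G)
    (hT : ∀ g, g ∈ T ↔ ∀ n : N, θ ⟨g * n * g⁻¹, hN.conj_mem (n : G) n.2 g⟩ = θ n) :
    χ 1 = (T.index : ℂ) * Cfsg.classInner (fun n : N => χ n) θ * θ 1 := by
  obtain ⟨m, π, hπ, rfl⟩ := hχ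
  obtain ⟨k, ρ, hρ, rfl⟩ := hθ
  have hci : Cfsg.classInner (fun n : N => π.character n) ρ.character =
      (Module.finrank ℂ (Representation.IntertwiningMap ρ (π.comp N.subtype)) : ℂ) :=
    IrrTools.classInner_eq_finrank ρ (π.comp N.subtype)
  have hnt : Nontrivial (Representation.IntertwiningMap ρ (π.comp N.subtype)) := by
    by_contra h0
    rw [not_nontrivial_iff_subsingleton] at h0
    refine h (hci.trans ?_)
    rw [Module.finrank_zero_of_subsingleton, Nat.cast_zero]
  obtain ⟨-, hV⟩ := Isotypic.eq_top_and_finrank ρ π ⊤ (fun _ _ _ => Submodule.mem_top) top_ne_bot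
  have hTi : T = Isotypic.inertia ρ := SetLike.ext fun g => by
    rw [hT]
    refine forall_congr' fun n => Eq.congr (congrArg ρ.character (Subtype.ext ?_)) rfl
    simp
  rw [hci, Representation.char_one, Representation.char_one, hV, hTi]
  push_cast
  ring

end CfsgLib.CharDeep.Clifford
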