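import Cfsg.Agent.Lib.Char.Induced
import Mathlib.GroupTheory.Coset.Card
import Mathlib.GroupTheory.GroupAction.Quotient

/-!
# Permutation characters
-/

namespace CfsgLib.CharDeep.PermChar

open MulAction

variable {G : Type*} [Group G]

/-- The number of fixed cosets. -/
noncomputable def fixCount (H : Subgroup G) (g : G) : ℕ := Nat.card {q : G ⧸ H // g • q = q}

theorem smul_mk_eq_iff (H : Subgroup G) (g x : G) :
    g • (x : G ⧸ H) = x ↔ x⁻¹ * g * x ∈ H := by
  rw [eq_comm, MulAction.Quotient.smul_coe, QuotientGroup.eq, smul_eq_mul, ← mul_assoc]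

theorem indFun_one_eq [Fintype G] (H : Subgroup G) (g : G) :
    Cfsg.indFun H (fun _ => 1) g = (fixCount H g : ℂ) := by
  classical
  rw [Char.indFun_def]
  have h1 : ∀ x : G, Cfsg.extendByZero H (fun _ => (1 : ℂ)) (x⁻¹ * g * x) =
      if g • (x : G ⧸ H) = x then 1 else 0 := fun x => by
    split_ifs with h
    · rw [Char.extendByZero_apply_mem H _ ((smul_mk_eq_iff H g x).1 h)]
    · rw [Char.extendByZero_apply_notMem H _ (fun h' => h ((smul_mk_eq_iff H g x).2 h'))]
  rw [Finset.sum_congr rfl (fun x _ => h1 x), Finset.sum_boole, ← Fintype.card_subtype,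
    ← Nat.card_eq_fintype_card]
  have h2 : Nat.card {x : G // g • (x : G ⧸ H) = x} = Nat.card H * fixCount H g := by
    rw [fixCount, ← Nat.card_prod]
    exact Nat.card_congr
      (QuotientGroup.preimageMkEquivSubgroupProdSet H {q : G ⧸ H | g • q = q})
  rw [h2, Nat.cast_mul, inv_mul_cancel_left₀ (by simp [Nat.card_pos.ne'])]

theorem indFun_one_fun_eq [Fintype G] (H : Subgroup G) :
    Cfsg.indFun H (fun _ => 1) = fun g => (fixCount H g : ℂ) := funext (indFun_one_eq H)

/-- A finite `G`-set decomposes into coset spaces. -/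
theorem card_fixed_eq_sum {X : Type*} [MulAction G X] [Finite X]
    [Fintype (Quotient (orbitRel G X))] (rep : Quotient (orbitRel G X) → X)
    (hrep : ∀ ω, Quotient.mk'' (rep ω) = ω) (g : G) :
    Nat.card {x : X // g • x = x} = ∑ ω, fixCount (stabilizer G (rep ω)) g := by
  have : ∀ ω, Finite (G ⧸ stabilizer G (rep ω)) := fun ω =>
    Finite.of_injective _ (injective_ofQuotientStabilizer G (rep ω))
  unfold fixCount
  rw [← Nat.card_sigma]
  let f : (Σ ω, {q : G ⧸ stabilizer G (rep ω) // g • q = q}) → {x : X // g • x = x} := fun z =>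
    ⟨ofQuotientStabilizer G (rep z.1) z.2.1, by
      rw [← ofQuotientStabilizer_smul, z.2.2]⟩
  refine (Nat.card_congr (Equiv.ofBijective f ⟨?_, ?_⟩)).symm
  · rintro ⟨ω, q, hq⟩ ⟨ω', q', hq'⟩ h
    have h' : ofQuotientStabilizer G (rep ω) q = ofQuotientStabilizer G (rep ω') q' :=
      congrArg Subtype.val h
    obtain ⟨a, rfl⟩ := QuotientGroup.mk_surjective q
    obtain ⟨b, rfl⟩ := QuotientGroup.mk_surjective q'
    rw [ofQuotientStabilizer_mk, ofQuotientStabilizer_mk] at h'
    have hω : ω = ω' := by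
      rw [← hrep ω, ← hrep ω']
      exact Quotient.sound' ⟨a⁻¹ * b, by simp only [mul_smul, ← h', inv_smul_smul]⟩
    subst hω
    have hab := injective_ofQuotientStabilizer G (rep ω) (a₁ := (a : G ⧸ _)) (a₂ := (b : G ⧸ _))
      (by rw [ofQuotientStabilizer_mk, ofQuotientStabilizer_mk]; exact h')
    simp only [hab]
  · rintro ⟨x, hx⟩
    obtain ⟨a, ha⟩ : x ∈ orbit G (rep (Quotient.mk'' x)) := Quotient.exact' (hrep _).symm
    refine ⟨⟨Quotient.mk'' x, ((a : G) : G ⧸ _), ?_⟩, Subtype.ext ?_⟩
    · apply injective_ofQuotientStabilizer G (rep (Quotient.mk'' x))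
      rw [ofQuotientStabilizer_smul, ofQuotientStabilizer_mk]
      simp only at ha
      rw [ha]
      exact hx
    · exact ha

/-- Products of transitive permutation characters are sums of transitive ones. -/
theorem exists_mul_eq_sum [Finite G] [Fintype (Subgroup G)] (H K : Subgroup G) :
    ∃ a : Subgroup G → ℕ, (∀ U, a U ≠ 0 → U ≤ H) ∧
      ∀ g, fixCount H g * fixCount K g = ∑ U : Subgroup G, a U * fixCount U g := by
  classical
  let X := (G ⧸ H) × (G ⧸ K)
  have : Fintype (Quotient (orbitRel G X)) := Fintype.ofFinite _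
  let rep : Quotient (orbitRel G X) → X := fun ω => (Quotient.out ω).1.out⁻¹ • Quotient.out ω
  have hrep : ∀ ω, Quotient.mk'' (rep ω) = ω := fun ω => by
    refine Eq.trans (Quotient.sound' ?_) ω.out_eq'
    exact ⟨_, rfl⟩
  refine ⟨fun U => (Finset.univ.filter fun ω => stabilizer G (rep ω) = U).card, fun U hU => ?_,
    fun g => ?_⟩
  · obtain ⟨ω, hω⟩ := Finset.card_pos.1 (Nat.pos_of_ne_zero hU)
    rw [← (Finset.mem_filter.1 hω).2]
    intro s hs
    have h : (rep ω).1 = ((1 : G) : G ⧸ H) := by
      show (Quotient.out ω).1.out⁻¹ • (Quotient.out ω).1 = _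
      conv_lhs => arg 2; rw [← QuotientGroup.out_eq' (Quotient.out ω).1]
      rw [MulAction.Quotient.smul_coe, smul_eq_mul, inv_mul_cancel]
    have h1 := congrArg Prod.fst (mem_stabilizer_iff.1 hs)
    rw [Prod.smul_fst, h, smul_mk_eq_iff] at h1
    simpa using h1
  · have h1 : fixCount H g * fixCount K g = Nat.card {x : X // g • x = x} := by
      rw [fixCount, fixCount, ← Nat.card_prod]
      refine Nat.card_congr ((Equiv.subtypeProdEquivProd).symm.trans
        (Equiv.subtypeEquivRight fun x => ?_))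
      rw [Prod.ext_iff]
      rfl
    rw [h1, card_fixed_eq_sum rep hrep, ← Finset.sum_fiberwise Finset.univ
      (fun ω => stabilizer G (rep ω))]
    refine Finset.sum_congr rfl fun U _ => ?_
    rw [← smul_eq_mul, ← Finset.sum_const]
    exact Finset.sum_congr rfl fun ω hω => by rw [(Finset.mem_filter.1 hω).2]

end CfsgLib.CharDeep.PermChar
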