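import Cfsg.Agent.Lib.CharDeep.Solomon
import Cfsg.Agent.Lib.CharDeep.Clifford
import Cfsg.Agent.Lib.Char.Linear
import Cfsg.Agent.S0873
import Cfsg.Agent.S0854

/-!
# Brauer's induction theorem and characterisation of characters
-/

namespace CfsgLib.CharDeep.Brauer

open CfsgLib

universe u

variable {G : Type u} [Group G]

theorem isElementary_map {H : Type u} [Group H] {p : ℕ} (f : G →* H) (hf : Function.Bijective f)
    (h : Cfsg.IsElementary p G) : Cfsg.IsElementary p H := by
  obtain ⟨x, hx, hco, k, hk⟩ := h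
  refine ⟨f x, ?_, by rwa [orderOf_injective f hf.1 x], k, ?_⟩
  · rw [Subgroup.mem_center_iff] at hx ⊢
    intro g
    obtain ⟨a, rfl⟩ := hf.2 g
    rw [← map_mul, ← map_mul, hx a]
  · rw [← MonoidHom.map_zpowers, Subgroup.index_map_of_bijective hf, hk]

/-- Integral combinations of characters induced from `p`-elementary subgroups. -/
def span' (G : Type u) [Group G] [Fintype G] (p : ℕ) : AddSubgroup (G → ℂ) :=
  AddSubgroup.closure {f | ∃ (E : Subgroup G) (φ : E → ℂ),
    Cfsg.IsElementary p E ∧ Cfsg.IsCharacter E φ ∧ f = Cfsg.indFun E φ}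

variable [Fintype G]

theorem mem_span'_indFun {p : ℕ} {E : Subgroup G} {φ : E → ℂ} (hE : Cfsg.IsElementary p E)
    (hφ : Cfsg.IsCharacter E φ) : Cfsg.indFun E φ ∈ span' G p :=
  AddSubgroup.subset_closure ⟨E, φ, hE, hφ, rfl⟩

/-- Multiplication by a class function commutes with induction. -/
theorem indFun_mul {f : G → ℂ} (hf : Cfsg.IsClassFunction G f) (H : Subgroup G) (φ : H → ℂ) :
    f * Cfsg.indFun H φ = Cfsg.indFun H (fun h : H => f h * φ h) := by
  classical
  funext g
  rw [Pi.mul_apply, Char.indFun_def, Char.indFun_def, mul_left_comm, Finset.mul_sum]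
  congr 1
  refine Finset.sum_congr rfl fun x _ => ?_
  by_cases hx : x⁻¹ * g * x ∈ H
  · rw [Char.extendByZero_apply_mem H _ hx, Char.extendByZero_apply_mem H _ hx]
    have h1 := hf g x⁻¹
    rw [inv_inv] at h1
    exact (congrArg (fun z => z * φ ⟨x⁻¹ * g * x, hx⟩) h1).symm
  · rw [Char.extendByZero_apply_notMem H _ hx, Char.extendByZero_apply_notMem H _ hx, mul_zero]

theorem mul_mem_span' {p : ℕ} {χ f : G → ℂ} (hχ : Cfsg.IsCharacter G χ) (hf : f ∈ span' G p) :
    χ * f ∈ span' G p := by
  induction hf using AddSubgroup.closure_induction with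
  | mem a ha =>
    obtain ⟨E, φ, hE, hφ, rfl⟩ := ha
    rw [indFun_mul (Char.IsCharacter.isClassFunction hχ)]
    exact mem_span'_indFun hE (Char.IsCharacter.mul (Char.IsCharacter.restrict hχ E) hφ)
  | zero => rw [mul_zero]; exact AddSubgroup.zero_mem _
  | add x y _ _ hx hy => rw [mul_add]; exact AddSubgroup.add_mem _ hx hy
  | neg x _ hx => rw [mul_neg]; exact AddSubgroup.neg_mem _ hx

theorem indFun_mem_span' {p : ℕ} (K : Subgroup G) [Fintype K] {f : K → ℂ} (hf : f ∈ span' K p) :
    Cfsg.indFun K f ∈ span' G p := by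
  classical
  induction hf using AddSubgroup.closure_induction with
  | mem a ha =>
    obtain ⟨E, φ, hE, hφ, rfl⟩ := ha
    let E' : Subgroup G := E.map K.subtype
    have hle : E' ≤ K := Subgroup.map_subtype_le E
    have heq : E'.subgroupOf K = E := Subgroup.comap_map_eq_self_of_injective K.subtype_injective E
    let e : E ≃* E' := E.equivMapOfInjective K.subtype K.subtype_injective
    have hE' : Cfsg.IsElementary p E' := isElementary_map e.toMonoidHom e.bijective hE
    let θ : E' → ℂ := fun x => φ (e.symm x)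
    have hθ : Cfsg.IsCharacter E' θ := Char.IsCharacter.comp hφ e.symm.toMonoidHom
    have h1 := Char.indFun_indFun E' θ K hle
    have h2 : ∀ (S : Subgroup K), S = E → ∀ ψ : S → ℂ,
        (∀ (x : S) (h : (x : K) ∈ E), ψ x = φ ⟨(x : K), h⟩) →
          Cfsg.indFun S ψ = Cfsg.indFun E φ := by
      rintro S rfl ψ hψ
      exact congrArg _ (funext fun x => hψ x x.2)
    rw [h2 _ heq (fun x => θ ⟨(x : K), Subgroup.mem_subgroupOf.mp x.2⟩) fun x hx => ?_] at h1
    · rw [h1]; exact mem_span'_indFun hE' hθ
    · refine congrArg φ (e.injective ?_)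
      rw [MulEquiv.apply_symm_apply]
      exact Subtype.ext rfl
  | zero => rw [Char.indFun_zero]; exact AddSubgroup.zero_mem _
  | add x y _ _ hx hy => rw [Char.indFun_add]; exact AddSubgroup.add_mem _ hx hy
  | neg x _ hx => rw [Char.indFun_neg]; exact AddSubgroup.neg_mem _ hx

theorem isCharacter_mem_span' {p : ℕ} (h1 : (fun _ : G => (1 : ℂ)) ∈ span' G p) {χ : G → ℂ}
    (hχ : Cfsg.IsCharacter G χ) : χ ∈ span' G p := by
  have := mul_mem_span' hχ h1
  rwa [show χ * (fun _ => (1 : ℂ)) = χ from funext fun g => mul_one _] at this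

omit [Fintype G] in
theorem top_isElementary {p : ℕ} (C : Subgroup G) [Finite G]
    (hC : C ≤ Subgroup.center G) (hcyc : IsCyclic C) (hcop : Nat.Coprime (Nat.card C) p)
    (hidx : ∃ k : ℕ, C.index = p ^ k) : Cfsg.IsElementary p (⊤ : Subgroup G) := by
  have hg : Cfsg.IsElementary p G := by
    obtain ⟨⟨z, hz⟩, hgen⟩ := hcyc.exists_generator
    have hCz : Subgroup.zpowers z = C := by
      refine le_antisymm ((Subgroup.zpowers_le).2 hz) fun w hw => ?_
      obtain ⟨i, hi⟩ := hgen ⟨w, hw⟩
      exact ⟨i, congrArg Subtype.val hi⟩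
    exact ⟨z, hC hz, by rwa [← Nat.card_zpowers, hCz], by rwa [hCz]⟩
  exact isElementary_map (Subgroup.topEquiv (G := G)).symm.toMonoidHom
    (Subgroup.topEquiv (G := G)).symm.bijective hg

theorem indFun_top (φ : G → ℂ) (hφ : Cfsg.IsClassFunction G φ) :
    Cfsg.indFun (⊤ : Subgroup G) (fun x => φ x) = φ := by
  funext g
  rw [show g = ((⟨g, Subgroup.mem_top g⟩ : (⊤ : Subgroup G)) : G) from rfl,
    Char.indFun_apply_of_normal]
  rw [Finset.sum_congr rfl fun x _ => hφ g x]
  simp only [Finset.sum_const, Finset.card_univ, nsmul_eq_mul, ← Nat.card_eq_fintype_card,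
    Subgroup.card_top]
  rw [inv_mul_cancel_left₀ Char.card_ne_zero]

theorem one_mem_span'_of_hyper (n : ℕ) : ∀ (G : Type u) [Group G] [Fintype G] (p : ℕ)
    [Fact p.Prime] (C : Subgroup G), C.Normal → IsCyclic C → Nat.Coprime (Nat.card C) p →
    (∃ k : ℕ, C.index = p ^ k) → Nat.card G = n → (fun _ : G => (1 : ℂ)) ∈ span' G p := by
  induction n using Nat.strong_induction_on with
  | _ n ih =>
  intro G _ _ p _ C hC hcyc hcop hidx hn
  classical
  have hp : p.Prime := Fact.out
  obtain ⟨k, hk⟩ := hidx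
  obtain ⟨P⟩ : Nonempty (Sylow p G) := inferInstance
  have hCabs : ∀ a ∈ C, ∀ b ∈ C, a * b = b * a := fun a ha b hb =>
    congrArg Subtype.val ((IsCyclic.commGroup (α := C)).mul_comm ⟨a, ha⟩ ⟨b, hb⟩)
  have hCP : C ⊔ (P : Subgroup G) = ⊤ := by
    rw [← Subgroup.index_eq_one]
    have h1 : (C ⊔ (P : Subgroup G)).index ∣ p ^ k :=
      hk ▸ Subgroup.index_dvd_of_le le_sup_left
    obtain ⟨i, -, hi⟩ := (Nat.dvd_prime_pow hp).1 h1
    rcases i with _ | i
    · simpa using hi
    · exfalso
      refine P.not_dvd_index (Dvd.dvd.trans ?_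
        (Subgroup.index_dvd_of_le (le_sup_right (a := C))))
      rw [hi, pow_succ]
      exact dvd_mul_left _ _
  set Z := C ⊓ Subgroup.centralizer ((P : Subgroup G) : Set G) with hZdef
  have hZc : Z ≤ Subgroup.center G := by
    intro z hz
    rw [Subgroup.mem_center_iff]
    intro g
    have hle : (⊤ : Subgroup G) ≤ Subgroup.centralizer ({z} : Set G) := by
      rw [← hCP]
      refine sup_le (fun c hc => ?_) (fun u hu => ?_)
      · exact Subgroup.mem_centralizer_singleton_iff.2 (hCabs c hc z hz.1)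
      · exact Subgroup.mem_centralizer_singleton_iff.2
          (Subgroup.mem_centralizer_iff.1 hz.2 u hu)
    exact Subgroup.mem_centralizer_singleton_iff.1 (hle (Subgroup.mem_top g))
  set E := Z ⊔ (P : Subgroup G) with hEdef
  have hE : Cfsg.IsElementary p E := by
    have hZE : Z ≤ E := le_sup_left
    have hZc' : Z.subgroupOf E ≤ Subgroup.center E := fun z hz => Subgroup.mem_center_iff.2
      fun g => Subtype.ext (Subgroup.mem_center_iff.1 (hZc hz) g)
    have hcard : Nat.Coprime (Nat.card (Z.subgroupOf E)) p := by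
      rw [Nat.card_congr (Subgroup.subgroupOfEquivOfLe hZE).toEquiv]
      exact hcop.coprime_dvd_left (Subgroup.card_dvd_of_le inf_le_left)
    have hcycZ : IsCyclic (Z.subgroupOf E) := by
      have : IsCyclic Z := isCyclic_of_injective (Subgroup.inclusion (inf_le_left : Z ≤ C))
        (Subgroup.inclusion_injective _)
      exact isCyclic_of_surjective (Subgroup.subgroupOfEquivOfLe hZE).symm.toMonoidHom
        (Subgroup.subgroupOfEquivOfLe hZE).symm.surjective
    have hind : ∃ j, (Z.subgroupOf E).index = p ^ j := by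
      have hZn : (Z.subgroupOf E).Normal := ⟨fun z hz g => by
        rw [Subgroup.mem_center_iff.1 (hZc' hz) g, mul_inv_cancel_right]; exact hz⟩
      have h1 : (Z.subgroupOf E).index ∣ Nat.card (P : Subgroup G) := by
        show Z.relIndex E ∣ _
        rw [← Subgroup.relIndex_subgroupOf (le_refl E), hEdef,
          Subgroup.subgroupOf_sup le_sup_left le_sup_right, ← hEdef, sup_comm,
          Subgroup.relIndex_sup_right]
        refine (Subgroup.relIndex_dvd_card _ _).trans (dvd_of_eq ?_)
        exact Nat.card_congr (Subgroup.subgroupOfEquivOfLe (le_sup_right : _ ≤ E)).toEquiv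
      obtain ⟨j, hj⟩ := P.2.exists_card_eq
      rw [hj] at h1
      obtain ⟨i, -, hi⟩ := (Nat.dvd_prime_pow hp).1 h1
      exact ⟨i, hi⟩
    exact isElementary_map (Subgroup.topEquiv (G := E)).toMonoidHom
      (Subgroup.topEquiv (G := E)).bijective (top_isElementary _ hZc' hcycZ hcard hind)
  set ψ : G → ℂ := Cfsg.indFun E (fun _ => 1)
  have hψc : Cfsg.IsCharacter G ψ := Char.IsCharacter.indFun E Char.isCharacter_one
  have hψm : ψ ∈ span' G p := mem_span'_indFun hE Char.isCharacter_one
  have hψ1 : Cfsg.classInner ψ (fun _ => 1) = 1 := by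
    rw [Char.classInner_indFun E _ (Char.IsCharacter.isClassFunction Char.isCharacter_one)]
    exact Char.classInner_irr_self Char.isIrrCharacter_one
  have hrest : ∀ χ : Cfsg.IrrCharacter G, (χ : G → ℂ) ≠ (fun _ => 1) →
      Cfsg.classInner ψ χ ≠ 0 → (χ : G → ℂ) ∈ span' G p := by
    intro χ hχ1 hχψ
    have hχc := Char.isCharacter_irr χ
    -- a linear constituent on `C`
    obtain ⟨lam, hlam, -⟩ := Clifford.exists_constituent (G := C)
      (θ := fun c : C => (χ : G → ℂ) c) (ψ := fun c : C => (χ : G → ℂ) c)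
      (Char.IsCharacter.isClassFunction (Char.IsCharacter.restrict hχc C)) (by
        rw [Ne, Char.classInner_self_eq_zero]
        intro h
        exact Char.IsIrrCharacter.apply_one_ne_zero χ.2 (congrFun h 1))
    have hlamc := Char.isCharacter_irr lam
    have hlam1 : (lam : C → ℂ) 1 = 1 := Char.apply_one_eq_one_of_comm
      (fun a b => Subtype.ext (hCabs a a.2 b b.2)) lam.2
    by_cases hinv : ∀ (g : G) (c : C),
        (lam : C → ℂ) ⟨g * c * g⁻¹, hC.conj_mem c c.2 g⟩ = (lam : C → ℂ) c
    · exfalso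
      have hψlam : Cfsg.classInner (fun c : C => ψ c) lam ≠ 0 :=
        Clifford.classInner_ne_zero_trans hψc χ.2 hχψ C.subtype hlamc hlam
      obtain ⟨f, hf⟩ := Char.exists_hom_of_apply_one_eq_one hlamc hlam1
      have hf' : (lam : C → ℂ) = fun c => (f c : ℂ) := by
        first
          | exact hf
          | exact hf.symm
          | exact funext hf
          | exact funext fun c => (hf c).symm
      have hker : ∀ c : C, (c : G) ∈ Subgroup.centralizer ((P : Subgroup G) : Set G) →
          (lam : C → ℂ) c = 1 := by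
        intro z hz
        have hzc : (z : G) ∈ Subgroup.center G := hZc ⟨z.2, hz⟩
        have hzE : (z : G) ∈ E := le_sup_left (b := (P : Subgroup G)) ⟨z.2, hz⟩
        have hψz : ∀ c : C, ψ ((z : G) * c) = ψ c := by
          intro c
          show Cfsg.indFun E _ _ = Cfsg.indFun E _ _
          rw [Char.indFun_def, Char.indFun_def]
          congr 1
          refine Finset.sum_congr rfl fun x _ => ?_
          have hx : x⁻¹ * ((z : G) * c) * x = (z : G) * (x⁻¹ * c * x) := by
            rw [← mul_assoc x⁻¹, Subgroup.mem_center_iff.1 hzc x⁻¹]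
            simp [mul_assoc]
          rw [hx]
          by_cases hm : x⁻¹ * (c : G) * x ∈ E
          · rw [Char.extendByZero_apply_mem E _ (E.mul_mem hzE hm),
              Char.extendByZero_apply_mem E _ hm]
          · rw [Char.extendByZero_apply_notMem E _ hm,
              Char.extendByZero_apply_notMem E _ fun h' => hm ((E.mul_mem_cancel_left hzE).1 h')]
        have key : Cfsg.classInner (fun c : C => ψ c) lam =
            (starRingEnd ℂ) ((lam : C → ℂ) z) * Cfsg.classInner (fun c : C => ψ c) lam := by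
          unfold Cfsg.classInner
          rw [mul_left_comm, Finset.mul_sum _ _ ((starRingEnd ℂ) ((lam : C → ℂ) z)),
            ← Fintype.sum_equiv (Equiv.mulLeft z)
              (fun c => ψ ((z * c : C) : G) * (starRingEnd ℂ) ((lam : C → ℂ) (z * c)))
              (fun c => ψ (c : G) * (starRingEnd ℂ) ((lam : C → ℂ) c)) (fun c => rfl)]
          congr 1
          refine Finset.sum_congr rfl fun c _ => ?_
          rw [Subgroup.coe_mul, hψz, hf']
          simp only [map_mul, Units.val_mul]
          ring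
        have h1 := mul_right_cancel₀ hψlam ((one_mul _).trans key)
        rw [← Complex.conj_conj ((lam : C → ℂ) z), ← h1, map_one]
      have hlameq : (lam : C → ℂ) = fun _ => 1 :=
        Cfsg.Agent.S0873.result (hC := hC) p C P P.2 hcop hCP lam ⟨hlamc, hlam1⟩ hinv hker
      -- so `C` is in the kernel of `χ`
      obtain ⟨e, -, -, he⟩ := Clifford.restrict_eq_smul (hN := hC) C χ.2 lam.2 hlam hinv
      have hCker : ∀ c ∈ C, c ∈ Char.charKer hχc := by
        intro c hc
        rw [Char.mem_charKer]
        have h1 := congrFun he ⟨c, hc⟩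
        have h2 := congrFun he 1
        simp only [Pi.smul_apply, hlameq, OneMemClass.coe_one] at h1 h2
        exact h1.trans h2.symm
      have hχE : Cfsg.classInner (fun x : E => (χ : G → ℂ) x) (fun _ => 1) ≠ 0 := by
        rw [← Char.IsCharacter.classInner_comm Char.isCharacter_one
          (Char.IsCharacter.restrict hχc E),
          ← Char.classInner_indFun E _ (Char.IsIrrCharacter.isClassFunction χ.2)]
        exact hχψ
      refine hχE ?_
      have hsurj : ∀ g : G, ∃ (x : E) (c : C), g = x * c := by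
        intro g
        have hg : g ∈ ((P : Subgroup G) ⊔ C : Subgroup G) := by
          rw [sup_comm, hCP]; exact Subgroup.mem_top g
        have := hC
        rw [← SetLike.mem_coe, Subgroup.mul_normal, Set.mem_mul] at hg
        obtain ⟨u, hu, c, hc, rfl⟩ := hg
        exact ⟨⟨u, le_sup_right (a := Z) hu⟩, ⟨c, hc⟩, rfl⟩
      have hS : ∀ g : G, ∑ x : E, (χ : G → ℂ) ((x : G) * g) = ∑ x : E, (χ : G → ℂ) x := by
        intro g
        obtain ⟨y, c, rfl⟩ := hsurj g
        have h1 : ∀ x : E, (χ : G → ℂ) ((x : G) * ((y : G) * c)) = (χ : G → ℂ) ((x * y : E) : G) :=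
          fun x => by
            rw [← mul_assoc, Subgroup.coe_mul]
            rw [Char.IsClassFunction.mul_comm (Char.IsCharacter.isClassFunction hχc)]
            exact Char.IsCharacter.apply_mul_of_mem_ker hχc (hCker c c.2) _
        rw [Finset.sum_congr rfl fun x _ => h1 x]
        exact Fintype.sum_equiv (Equiv.mulRight y) _ _ fun x => rfl
      have hG0 : ∑ g : G, (χ : G → ℂ) g = 0 := by
        have h := Char.classInner_irr_ne χ.2 Char.isIrrCharacter_one hχ1
        simpa [Cfsg.classInner, Char.card_ne_zero] using h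
      have hE0 : (Nat.card G : ℂ) * ∑ x : E, (χ : G → ℂ) x = 0 := by
        rw [Nat.card_eq_fintype_card, ← nsmul_eq_mul, ← Finset.card_univ, ← Finset.sum_const,
          ← Finset.sum_congr rfl (fun g _ => hS g), Finset.sum_comm]
        refine Finset.sum_eq_zero fun x _ => ?_
        rw [← hG0]
        exact Fintype.sum_equiv (Equiv.mulLeft (x : G)) _ _ fun g => rfl
      simp only [Cfsg.classInner, map_one, mul_one,
        (mul_eq_zero.1 hE0).resolve_left Char.card_ne_zero, mul_zero]
    · -- induced from the inertia group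
      let T : Subgroup G :=
        { carrier := {g | ∀ c : C,
            (lam : C → ℂ) ⟨g * c * g⁻¹, hC.conj_mem c c.2 g⟩ = (lam : C → ℂ) c}
          one_mem' := fun c => congrArg (lam : C → ℂ) (Subtype.ext (by simp))
          mul_mem' := fun {a b} ha hb c => by
            have h := ha ⟨b * c * b⁻¹, hC.conj_mem c c.2 b⟩
            rw [← hb c, ← h]
            exact congrArg (lam : C → ℂ) (Subtype.ext (by simp [mul_assoc]))
          inv_mem' := fun {a} ha c => by
            have h := ha ⟨a⁻¹ * c * a⁻¹⁻¹, hC.conj_mem c c.2 a⁻¹⟩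
            rw [← h]
            exact congrArg (lam : C → ℂ) (Subtype.ext (by simp [mul_assoc])) }
      have hCT : C ≤ T := fun d hd c => by
        exact congrArg (lam : C → ℂ) (Subtype.ext
          (show d * c * d⁻¹ = c by rw [hCabs d hd c c.2, mul_inv_cancel_right]))
      have hT : T ≠ ⊤ := fun h => hinv fun g c =>
        (show g ∈ T from h ▸ Subgroup.mem_top g) c
      obtain ⟨η, hη, hind, -⟩ := Cfsg.Agent.S0854.result C (hN := hC) lam lam.2 T
        (fun g => Iff.rfl) hCT χ χ.2 hlam
      rw [← hind]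
      refine indFun_mem_span' T (isCharacter_mem_span' ?_ (Char.IsIrrCharacter.isCharacter hη))
      have hlt : Nat.card T < n := by
        rw [← hn]
        exact lt_of_le_of_ne (Subgroup.card_le_card_group T)
          fun h => hT (Subgroup.eq_top_of_card_eq T h)
      have := hC
      refine ih _ hlt T p (C.subgroupOf T) inferInstance ?_ ?_ ?_ rfl
      · exact isCyclic_of_surjective (Subgroup.subgroupOfEquivOfLe hCT).symm.toMonoidHom
          (Subgroup.subgroupOfEquivOfLe hCT).symm.surjective
      · rwa [Nat.card_congr (Subgroup.subgroupOfEquivOfLe hCT).toEquiv]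
      · have h1 : C.relIndex T ∣ p ^ k := hk ▸ Subgroup.relIndex_dvd_index_of_normal C T
        obtain ⟨i, -, hi⟩ := (Nat.dvd_prime_pow hp).1 h1
        exact ⟨i, hi⟩
  have hexp := Char.IsClassFunction.eq_sum_irr (Char.IsCharacter.isClassFunction hψc)
  rw [← Finset.add_sum_erase _ _
    (Finset.mem_univ (⟨fun _ => 1, Char.isIrrCharacter_one⟩ : Cfsg.IrrCharacter G)), hψ1,
    one_smul] at hexp
  rw [show (fun _ : G => (1 : ℂ)) = ψ - _ from eq_sub_of_add_eq hexp.symm]
  refine AddSubgroup.sub_mem _ hψm (AddSubgroup.sum_mem _ fun χ hχ => ?_)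
  obtain ⟨m, hm⟩ := Char.IsCharacter.classInner_nat hψc (Char.isCharacter_irr χ)
  rw [hm, Nat.cast_smul_eq_nsmul]
  by_cases hm0 : m = 0
  · simp [hm0]
  refine AddSubgroup.nsmul_mem _ (hrest χ (fun h => (Finset.mem_erase.1 hχ).1 (Subtype.ext h)) ?_) _
  rw [hm]; exact_mod_cast hm0

/-- **Brauer's induction theorem**, one prime at a time. -/
theorem exists_const_mem_span' (p : ℕ) [Fact p.Prime] :
    ∃ m : ℤ, ¬ (p : ℤ) ∣ m ∧ (fun _ : G => (m : ℂ)) ∈ span' G p := by
  classical
  obtain ⟨m, hm, hmem⟩ := Solomon.exists_const (G := G) p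
  refine ⟨m, hm, ?_⟩
  let φ : (G → ℤ) →+ (G → ℂ) :=
    { toFun := fun f g => (f g : ℂ), map_zero' := funext fun g => Int.cast_zero
      map_add' := fun a b => funext fun g => Int.cast_add _ _ }
  suffices h : Solomon.ring' G p ≤ (span' G p).comap φ from h hmem
  refine (AddSubgroup.closure_le _).2 ?_
  rintro _ ⟨H, ⟨C, hCH, hHN, hcyc, hcop, hidx⟩, rfl⟩
  show φ (Solomon.permFun H) ∈ span' G p
  rw [show φ (Solomon.permFun H) = Cfsg.indFun H (fun _ => 1) from funext fun g => by
    simp [φ, Solomon.permFun, PermChar.indFun_one_eq]]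
  refine indFun_mem_span' H (one_mem_span'_of_hyper _ H p (C.subgroupOf H)
    ((Subgroup.normal_subgroupOf_iff_le_normalizer hCH).2 hHN) ?_ ?_ hidx rfl)
  · exact isCyclic_of_surjective (Subgroup.subgroupOfEquivOfLe hCH).symm.toMonoidHom
      (Subgroup.subgroupOfEquivOfLe hCH).symm.surjective
  · rwa [Nat.card_congr (Subgroup.subgroupOfEquivOfLe hCH).toEquiv]

/-- Prime-wise criterion for generalized characters. -/
theorem exists_smul_isGeneralizedCharacter (p : ℕ) [Fact p.Prime] {f : G → ℂ}
    (hf : Cfsg.IsClassFunction G f)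
    (hres : ∀ E : Subgroup G, Cfsg.IsElementary p E →
      Cfsg.IsGeneralizedCharacter E (fun x : E => f x)) :
    ∃ m : ℤ, ¬ (p : ℤ) ∣ m ∧ Cfsg.IsGeneralizedCharacter G ((m : ℂ) • f) := by
  classical
  obtain ⟨m, hm, hmem⟩ := exists_const_mem_span' (G := G) p
  refine ⟨m, hm, ?_⟩
  have key : ∀ g ∈ span' G p, Cfsg.IsGeneralizedCharacter G (f * g) := by
    intro g hg
    induction hg using AddSubgroup.closure_induction with
    | mem a ha =>
      obtain ⟨E, φ, hE, hφ, rfl⟩ := ha
      rw [indFun_mul hf]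
      obtain ⟨a, b, ha, hb, hab⟩ := hres E hE
      have h1 : (fun x : E => f x * φ x) = a * φ - b * φ := funext fun x => by
        have := congrFun hab x
        simp only [Pi.sub_apply] at this
        simp only [Pi.sub_apply, Pi.mul_apply, this, sub_mul]
      rw [h1, Char.indFun_sub]
      exact ⟨_, _, Char.IsCharacter.indFun E (Char.IsCharacter.mul ha hφ),
        Char.IsCharacter.indFun E (Char.IsCharacter.mul hb hφ), rfl⟩
    | zero =>
      rw [mul_zero]
      exact ⟨0, 0, Char.isCharacter_zero, Char.isCharacter_zero, by simp⟩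
    | add x y _ _ hx hy =>
      obtain ⟨a, b, ha, hb, hab⟩ := hx
      obtain ⟨c, d, hc, hd, hcd⟩ := hy
      exact ⟨a + c, b + d, Char.IsCharacter.add ha hc, Char.IsCharacter.add hb hd,
        by rw [mul_add, hab, hcd]; abel⟩
    | neg x _ hx =>
      obtain ⟨a, b, ha, hb, hab⟩ := hx
      exact ⟨b, a, hb, ha, by rw [mul_neg, hab]; abel⟩
  have := key _ hmem
  rwa [show f * (fun _ : G => (m : ℂ)) = (m : ℂ) • f from funext fun g => mul_comm _ _] at this

/-- **Brauer's characterisation of generalized characters.** -/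
theorem isGeneralizedCharacter_of_elementary {f : G → ℂ} (hf : Cfsg.IsClassFunction G f)
    (hres : ∀ (p : ℕ), p.Prime → ∀ E : Subgroup G, Cfsg.IsElementary p E →
      Cfsg.IsGeneralizedCharacter E (fun x : E => f x)) : Cfsg.IsGeneralizedCharacter G f := by
  refine Char.isGeneralizedCharacter_iff.2 ⟨hf, fun χ hχ => ?_⟩
  let I : Ideal ℤ :=
    { carrier := {a | ∃ z : ℤ, (a : ℂ) * Cfsg.classInner f χ = z}
      add_mem' := by
        rintro a b ⟨u, hu⟩ ⟨v, hv⟩
        exact ⟨u + v, by push_cast; rw [add_mul, hu, hv]⟩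
      zero_mem' := ⟨0, by simp⟩
      smul_mem' := by
        rintro c a ⟨u, hu⟩
        exact ⟨c * u, by rw [smul_eq_mul]; push_cast; rw [mul_assoc, hu]⟩ }
  obtain ⟨m, hm⟩ := (inferInstance : I.IsPrincipal).principal
  have hu : IsUnit m := by
    rw [Int.isUnit_iff_natAbs_eq]
    by_contra h
    obtain ⟨p, hpp, hpd⟩ := Nat.exists_prime_and_dvd h
    have : Fact p.Prime := ⟨hpp⟩
    obtain ⟨a, ha, hga⟩ := exists_smul_isGeneralizedCharacter p hf (hres p hpp)
    obtain ⟨z, hz⟩ := (Char.isGeneralizedCharacter_iff.1 hga).2 χ hχ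
    rw [Char.classInner_smul_left] at hz
    have haI : a ∈ I := ⟨z, hz⟩
    rw [hm, Ideal.submodule_span_eq, Ideal.mem_span_singleton] at haI
    exact ha ((Int.natCast_dvd.2 hpd).trans haI)
  have h1 : (1 : ℤ) ∈ I := by
    rw [hm, Ideal.submodule_span_eq, Ideal.mem_span_singleton]
    exact hu.dvd
  obtain ⟨z, hz⟩ := h1
  exact ⟨z, by simpa using hz⟩

end CfsgLib.CharDeep.Brauer
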