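import Cfsg.Agent.Lib.CharDeep.CentralExt
import Cfsg.Agent.Lib.CharDeep.IrrTools
import Mathlib.GroupTheory.Index
import Mathlib.LinearAlgebra.Determinant

/-!
# Extending invariant irreducible representations of a normal subgroup

For an invariant irreducible `ρ` of a normal subgroup `N` of `G` the pairs `(g, S)` with `S`
of determinant one intertwining `ρ` and its conjugate by `g` form a finite group covering `G`.
Extending `ρ` amounts to extending one invariant linear character of the preimage of `N`.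
-/

namespace CfsgLib.CharDeep.ProjExt

open Module CfsgLib.CharDeep

variable {G : Type*} [Group G] {N : Subgroup G} [N.Normal] {W : Type*} [AddCommGroup W]
  [Module ℂ W] [FiniteDimensional ℂ W] (ρ : Representation ℂ N W)

/-- The character of `ρ` is invariant under conjugation by `G`. -/
def Invariant : Prop :=
  ∀ (g : G) (n : N), ρ.character (MulAut.conjNormal g n) = ρ.character n

/-- The conjugate of `ρ` by `g`. -/
noncomputable def twist (g : G) : Representation ℂ N W :=
  ρ.comp (MulAut.conjNormal g).toMonoidHom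

/-- The cover of `G` attached to `ρ`. -/
noncomputable def cover : Subgroup (G × (End ℂ W)ˣ) where
  carrier := {p | (∀ n : N, (p.2 : End ℂ W) * ρ n = ρ (MulAut.conjNormal p.1 n) * p.2) ∧
    LinearMap.det (p.2 : End ℂ W) = 1}
  one_mem' := ⟨fun n => by simp, by simp⟩
  mul_mem' := by
    rintro ⟨a, S⟩ ⟨b, T⟩ ⟨hS, hS'⟩ ⟨hT, hT'⟩
    refine ⟨fun n => ?_, by simp [hS', hT']⟩
    simp only [Prod.mk_mul_mk, Units.val_mul, map_mul, MulAut.mul_apply]
    rw [mul_assoc, hT n, ← mul_assoc, hS, mul_assoc]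
  inv_mem' := by
    rintro ⟨a, S⟩ ⟨hS, hS'⟩
    refine ⟨fun n => ?_, ?_⟩
    · have h := hS (MulAut.conjNormal a⁻¹ n)
      rw [← MulAut.mul_apply, ← map_mul, mul_inv_cancel, map_one, MulAut.one_apply] at h
      have h1 := Units.inv_mul_eq_iff_eq_mul S |>.2 h.symm
      simp only [Prod.inv_mk]
      rw [← h1]
      simp [mul_assoc]
    · have h : LinearMap.det ((S⁻¹ : (End ℂ W)ˣ) : End ℂ W) * LinearMap.det (S : End ℂ W) = 1 := by
        rw [← map_mul, Units.inv_mul, map_one]
      simpa [hS'] using h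

/-- The projection of the cover to `G`. -/
noncomputable def proj : cover ρ →* G := (MonoidHom.fst G (End ℂ W)ˣ).comp (cover ρ).subtype

/-- The linear part of an element of the cover. -/
noncomputable def lin : cover ρ →* (End ℂ W)ˣ :=
  (MonoidHom.snd G (End ℂ W)ˣ).comp (cover ρ).subtype

theorem lin_mul (γ : cover ρ) (n : N) :
    (lin ρ γ : End ℂ W) * ρ n = ρ (MulAut.conjNormal (proj ρ γ) n) * lin ρ γ := γ.2.1 n

theorem det_lin (γ : cover ρ) : LinearMap.det (lin ρ γ : End ℂ W) = 1 := γ.2.2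

theorem ext_iff' {γ δ : cover ρ} : γ = δ ↔ proj ρ γ = proj ρ δ ∧ lin ρ γ = lin ρ δ :=
  ⟨fun h => h ▸ ⟨rfl, rfl⟩, fun h => Subtype.ext (Prod.ext h.1 h.2)⟩

variable [ρ.IsIrreducible]

theorem twist_isIrreducible (g : G) : (twist ρ g).IsIrreducible := by
  have := IrrTools.apply_ne_zero_of_isIrreducible ρ
  refine IrrTools.isIrreducible_of_forall _ fun U hU =>
    IrrTools.eq_bot_or_top_of_invariant ρ U fun n u hu => ?_
  have h := hU ((MulAut.conjNormal g).symm n) u hu
  simpa [twist] using h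

variable [Finite G]

theorem exists_lift (g : G) (hg : ∀ n : N, ρ.character (MulAut.conjNormal g n) = ρ.character n) :
    ∃ γ : cover ρ, proj ρ γ = g := by
  have := twist_isIrreducible ρ g
  obtain ⟨φ⟩ := IrrTools.nonempty_equiv_of_character_eq ρ (twist ρ g) (funext hg)
  have := IrrTools.apply_ne_zero_of_isIrreducible ρ
  set S : End ℂ W := φ.toIntertwiningMap.toLinearMap with hS
  have hcomm : ∀ n : N, S * ρ n = ρ (MulAut.conjNormal g n) * S := fun n =>
    LinearMap.ext fun v => (LinearMap.congr_fun (φ.toIntertwiningMap.isIntertwining' n) v :)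
  have hU : IsUnit S := (Module.End.isUnit_iff S).2 φ.toLinearEquiv.bijective
  have hdet : LinearMap.det S ≠ 0 := (hU.map (LinearMap.det : End ℂ W →* ℂ)).ne_zero
  obtain ⟨z, hz⟩ := IsAlgClosed.exists_pow_nat_eq (LinearMap.det S)⁻¹ (finrank_pos (R := ℂ) (M := W))
  have hz0 : z ≠ 0 := by
    rintro rfl
    rw [zero_pow (finrank_pos (R := ℂ) (M := W)).ne'] at hz
    exact inv_ne_zero hdet hz.symm
  obtain ⟨u, hu⟩ : IsUnit (z • S) := by
    rw [Module.End.isUnit_iff]
    exact (smul_right_injective W hz0 |>.comp φ.toLinearEquiv.injective) |> fun h =>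
      ⟨h, LinearMap.injective_iff_surjective.1 h⟩
  refine ⟨⟨(g, u), fun n => ?_, ?_⟩, rfl⟩
  · show (u : End ℂ W) * ρ n = _
    rw [hu, smul_mul_assoc, hcomm, mul_smul_comm]
  · show LinearMap.det (u : End ℂ W) = 1
    rw [hu, LinearMap.det_smul, hz, inv_mul_cancel₀ hdet]

theorem proj_surjective (hinv : Invariant ρ) : Function.Surjective (proj ρ) :=
  fun g => exists_lift ρ g (hinv g)

omit [Finite G] [ρ.IsIrreducible] in
theorem character_conj_proj (γ : cover ρ) (n : N) :
    ρ.character (MulAut.conjNormal (proj ρ γ) n) = ρ.character n := by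
  have h := lin_mul ρ γ n
  have h1 : ρ (MulAut.conjNormal (proj ρ γ) n) =
      (lin ρ γ : End ℂ W) * ρ n * ((lin ρ γ)⁻¹ : (End ℂ W)ˣ) := by
    rw [h, mul_assoc, Units.mul_inv, mul_one]
  show LinearMap.trace ℂ W _ = LinearMap.trace ℂ W _
  rw [h1, LinearMap.trace_mul_comm, ← mul_assoc, Units.inv_mul, one_mul]

/-- Over `n ∈ N` the linear part is a scalar multiple of `ρ n`. -/
theorem exists_scalar (γ : cover ρ) (n : N) (h : proj ρ γ = n) :
    ∃! c : ℂˣ, (lin ρ γ : End ℂ W) = (c : ℂ) • ρ n := by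
  have := IrrTools.apply_ne_zero_of_isIrreducible ρ
  have key : ∀ m : N, MulAut.conjNormal (proj ρ γ) m = n * m * n⁻¹ := fun m =>
    Subtype.ext (by simp [h])
  obtain ⟨c, hc⟩ := IrrTools.exists_smul_of_commute ρ (ρ n⁻¹ * (lin ρ γ : End ℂ W)) fun m => by
    rw [mul_assoc, lin_mul, key, ← mul_assoc, ← map_mul, ← mul_assoc (ρ m), ← map_mul]
    congr 2; group
  have hS : (lin ρ γ : End ℂ W) = c • ρ n := by
    have h1 := congrArg (ρ n * ·) hc
    simpa [← mul_assoc, ← map_mul] using h1
  have hc0 : c ≠ 0 := by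
    rintro rfl
    rw [zero_smul] at hS
    exact (lin ρ γ).ne_zero hS
  have hn0 : ρ n ≠ 0 := by
    intro h0
    rw [h0, smul_zero] at hS
    exact (lin ρ γ).ne_zero hS
  refine ⟨Units.mk0 c hc0, hS, fun d hd => Units.ext ?_⟩
  exact smul_left_injective ℂ hn0 (hd.symm.trans hS)

instance cover_finite : Finite (cover ρ) := by
  classical
  have : Nontrivial W := IrrTools.apply_ne_zero_of_isIrreducible ρ
  have hd : finrank ℂ W ≠ 0 := (finrank_pos (R := ℂ) (M := W)).ne'
  have hker : Finite (proj ρ).ker := by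
    have hroots : Finite {z : ℂ // z ^ finrank ℂ W = 1} :=
      ((Polynomial.X ^ finrank ℂ W - Polynomial.C (1 : ℂ)).roots.toFinset.finite_toSet.subset
        fun z hz => by
          simp only [Finset.mem_coe, Multiset.mem_toFinset]
          rw [Polynomial.mem_roots (Polynomial.X_pow_sub_C_ne_zero (Nat.pos_of_ne_zero hd) 1)]
          simp [show z ^ finrank ℂ W = 1 from hz]).to_subtype
    have hval : ∀ γ : (proj ρ).ker, ∃ z : {z : ℂ // z ^ finrank ℂ W = 1},
        (lin ρ γ.1 : End ℂ W) = z.1 • 1 := by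
      intro γ
      obtain ⟨c, hc, -⟩ := exists_scalar ρ γ.1 1 ((MonoidHom.mem_ker.1 γ.2).trans N.coe_one.symm)
      rw [map_one] at hc
      refine ⟨⟨c, ?_⟩, hc⟩
      have h := det_lin ρ γ.1
      rw [hc, LinearMap.det_smul, map_one, mul_one] at h
      exact h
    choose z hz using hval
    refine Finite.of_injective z fun a b hab => Subtype.ext ((ext_iff' ρ).2 ⟨?_, Units.ext ?_⟩)
    · rw [MonoidHom.mem_ker.1 a.2, MonoidHom.mem_ker.1 b.2]
    · rw [hz, hz, hab]
  have : Finite (cover ρ ⧸ (proj ρ).ker) :=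
    Finite.of_equiv _ (QuotientGroup.quotientKerEquivRange (proj ρ)).toEquiv.symm
  exact Finite.of_equiv _ (Subgroup.groupEquivQuotientProdSubgroup (s := (proj ρ).ker)).symm

/-- The preimage of `N` in the cover. -/
noncomputable abbrev pre : Subgroup (cover ρ) := N.comap (proj ρ)

/-- The scalar attached to an element of the preimage of `N`. -/
noncomputable def scalarFun (γ : pre ρ) : ℂˣ :=
  (exists_scalar ρ γ.1 ⟨_, γ.2⟩ rfl).choose

theorem scalarFun_spec (γ : pre ρ) :
    (lin ρ γ.1 : End ℂ W) = (scalarFun ρ γ : ℂ) • ρ ⟨_, γ.2⟩ :=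
  (exists_scalar ρ γ.1 ⟨_, γ.2⟩ rfl).choose_spec.1

theorem scalarFun_eq (γ : pre ρ) {c : ℂˣ} (h : (lin ρ γ.1 : End ℂ W) = (c : ℂ) • ρ ⟨_, γ.2⟩) :
    scalarFun ρ γ = c :=
  ((exists_scalar ρ γ.1 ⟨_, γ.2⟩ rfl).choose_spec.2 c h).symm

/-- The scalar, as a homomorphism. -/
noncomputable def scalar : pre ρ →* ℂˣ :=
  MonoidHom.mk' (scalarFun ρ) fun a b => scalarFun_eq ρ _ <| by
    show (lin ρ (a.1 * b.1) : End ℂ W) = _
    rw [map_mul, Units.val_mul, scalarFun_spec, scalarFun_spec, smul_mul_smul_comm, ← map_mul,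
      Units.val_mul]
    congr 2

theorem scalar_spec (γ : pre ρ) : (lin ρ γ.1 : End ℂ W) = (scalar ρ γ : ℂ) • ρ ⟨_, γ.2⟩ :=
  scalarFun_spec ρ γ

theorem scalar_eq (γ : pre ρ) {c : ℂˣ} (h : (lin ρ γ.1 : End ℂ W) = (c : ℂ) • ρ ⟨_, γ.2⟩) :
    scalar ρ γ = c :=
  scalarFun_eq ρ γ h

theorem scalar_conj (γ : cover ρ) (δ : pre ρ) :
    scalar ρ ⟨γ * δ * γ⁻¹, Subgroup.Normal.conj_mem inferInstance δ.1 δ.2 γ⟩ = scalar ρ δ := by
  apply scalar_eq
  show (lin ρ (γ * δ.1 * γ⁻¹) : End ℂ W) = _
  rw [map_mul, map_mul, Units.val_mul, Units.val_mul, scalar_spec, mul_smul_comm, smul_mul_assoc,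
    lin_mul, mul_assoc, ← Units.val_mul, ← map_mul, mul_inv_cancel, map_one, Units.val_one, mul_one]
  congr 2

theorem pre_finiteIndex : (pre ρ).FiniteIndex := by
  refine ⟨?_⟩
  rw [Subgroup.index_comap]
  exact fun h => Subgroup.index_ne_zero_of_finite (H := N.subgroupOf (proj ρ).range) h

/-- An extension of the scalar character to the cover gives an extension of `ρ`. -/
theorem exists_extension (hinv : Invariant ρ) (r : cover ρ →* ℂˣ)
    (hr : ∀ γ : pre ρ, r γ = scalar ρ γ) :
    ∃ σ : Representation ℂ G W, ∀ n : N, σ n = ρ n := by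
  let Φ : cover ρ →* End ℂ W :=
    { toFun := fun γ => ((r γ)⁻¹ : ℂˣ).val • (lin ρ γ : End ℂ W)
      map_one' := by simp
      map_mul' := fun a b => by
        simp only [map_mul, mul_inv, Units.val_mul, smul_mul_smul_comm] }
  have hΦ : ∀ (γ : cover ρ) (n : N), proj ρ γ = n → Φ γ = ρ n := by
    intro γ n h
    have hmem : γ ∈ pre ρ := by
      show proj ρ γ ∈ N
      rw [h]; exact n.2
    have h1 := scalar_spec ρ ⟨γ, hmem⟩
    show ((r γ)⁻¹ : ℂˣ).val • (lin ρ γ : End ℂ W) = _
    rw [h1, hr ⟨γ, hmem⟩, smul_smul, Units.inv_mul, one_smul]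
    congr 1
    exact Subtype.ext h
  choose sec hsec using proj_surjective ρ hinv
  have hker : ∀ γ, proj ρ γ = 1 → Φ γ = 1 := fun γ h => by
    rw [hΦ γ 1 (by simpa using h), map_one]
  have hcongr : ∀ γ δ, proj ρ γ = proj ρ δ → Φ γ = Φ δ := fun γ δ h => by
    have h1 := hker (γ * δ⁻¹) (by rw [map_mul, map_inv, h, mul_inv_cancel])
    calc Φ γ = Φ (γ * δ⁻¹) * Φ δ := by rw [← map_mul, inv_mul_cancel_right]
      _ = Φ δ := by rw [h1, one_mul]
  refine ⟨{ toFun := fun g => Φ (sec g), map_one' := ?_, map_mul' := ?_ }, fun n => ?_⟩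
  · exact hker _ (hsec 1)
  · intro a b
    rw [← map_mul]
    exact hcongr _ _ (by simp [hsec])
  · exact hΦ _ n (hsec n)

/-- An invariant irreducible representation extends if the quotient is cyclic. -/
theorem exists_extension_of_zpowers (hinv : Invariant ρ) (x : G)
    (hx : ∀ g : G, ∃ (n : N) (i : ℤ), g = n * x ^ i) :
    ∃ σ : Representation ℂ G W, ∀ n : N, σ n = ρ n := by
  have := pre_finiteIndex ρ
  obtain ⟨y, hy⟩ := proj_surjective ρ hinv x
  obtain ⟨r, hr⟩ := CentralExt.exists_extension_of_zpowers (scalar ρ) (scalar_conj ρ) y fun γ => by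
    obtain ⟨n, i, h⟩ := hx (proj ρ γ)
    refine ⟨⟨γ * (y ^ i)⁻¹, ?_⟩, i, by simp⟩
    show proj ρ (γ * (y ^ i)⁻¹) ∈ N
    rw [map_mul, map_inv, map_zpow, hy, h]
    simp
  exact exists_extension ρ hinv r hr

/-- An invariant irreducible representation extends if, for every prime `p`, its character is the
restriction of a character of a subgroup of index prime to `p` containing `N`. -/
theorem exists_extension_of_sylow (hinv : Invariant ρ)
    (hp : ∀ p : ℕ, p.Prime → ∃ (H : Subgroup G) (hNH : N ≤ H) (m : ℕ)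
      (π : Representation ℂ H (Fin m → ℂ)), ¬ p ∣ H.index ∧
        ∀ n : N, π.character ⟨n, hNH n.2⟩ = ρ.character n) :
    ∃ σ : Representation ℂ G W, ∀ n : N, σ n = ρ n := by
  obtain ⟨r, hr⟩ := CentralExt.exists_extension (scalar ρ) (scalar_conj ρ) fun p hpp => by
    obtain ⟨H, hNH, m, π, hidx, hχ⟩ := hp p hpp
    obtain ⟨φ⟩ := IrrTools.nonempty_equiv_of_character_eq ρ (π.comp (Subgroup.inclusion hNH))
      (funext hχ)
    set e : W ≃ₗ[ℂ] (Fin m → ℂ) := φ.toLinearEquiv with he
    let τ : Representation ℂ H W :=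
      { toFun := fun h => e.symm.conj (π h)
        map_one' := by rw [map_one]; exact e.symm.conj_id
        map_mul' := fun a b => by rw [map_mul]; exact LinearEquiv.conj_comp e.symm (π b) (π a) }
    have hτ : ∀ n : N, τ ⟨n, hNH n.2⟩ = ρ n := fun n => by
      refine LinearMap.ext fun v => ?_
      show e.symm.conj (π ⟨n, hNH n.2⟩) v = _
      rw [LinearEquiv.conj_apply]
      simp only [LinearEquiv.symm_symm, LinearMap.coe_comp, LinearEquiv.coe_coe,
        Function.comp_apply]
      rw [LinearEquiv.symm_apply_eq]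
      exact (LinearMap.congr_fun (φ.toIntertwiningMap.isIntertwining' n) v).symm
    refine ⟨H.comap (proj ρ), fun γ hγ => hNH hγ, ?_, ?_⟩
    · rwa [Subgroup.index_comap_of_surjective _ (proj_surjective ρ hinv)]
    · have hsc : ∀ γ : H.comap (proj ρ), ∃! c : ℂˣ,
          (lin ρ γ.1 : End ℂ W) = (c : ℂ) • τ ⟨_, γ.2⟩ := by
        intro γ
        set h : H := ⟨_, γ.2⟩
        have hτinv : τ h⁻¹ * τ h = 1 := by rw [← map_mul, inv_mul_cancel, map_one]
        have hτinv' : τ h * τ h⁻¹ = 1 := by rw [← map_mul, mul_inv_cancel, map_one]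
        obtain ⟨c, hc⟩ := IrrTools.exists_smul_of_commute ρ (τ h⁻¹ * (lin ρ γ.1 : End ℂ W))
          fun n => by
            rw [mul_assoc, lin_mul, ← hτ, ← hτ n, ← mul_assoc, ← map_mul, ← mul_assoc, ← map_mul]
            congr 2
            exact Subtype.ext (by simp [h, mul_assoc])
        have hS : (lin ρ γ.1 : End ℂ W) = c • τ h := by
          have h1 := congrArg (τ h * ·) hc
          simpa [← mul_assoc, hτinv'] using h1
        have hc0 : c ≠ 0 := by
          rintro rfl
          rw [zero_smul] at hS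
          have := IrrTools.apply_ne_zero_of_isIrreducible ρ
          exact (lin ρ γ.1).ne_zero hS
        have hh0 : τ h ≠ 0 := by
          intro h0
          rw [h0, smul_zero] at hS
          have := IrrTools.apply_ne_zero_of_isIrreducible ρ
          exact (lin ρ γ.1).ne_zero hS
        exact ⟨Units.mk0 c hc0, hS, fun d hd =>
          Units.ext (smul_left_injective ℂ hh0 (hd.symm.trans hS))⟩
      choose f hf huniq using hsc
      refine ⟨MonoidHom.mk' f fun a b => (huniq (a * b) _ ?_).symm, fun δ hδ => ?_⟩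
      · show (lin ρ (a.1 * b.1) : End ℂ W) = _
        rw [map_mul, Units.val_mul, hf a, hf b, smul_mul_smul_comm, ← map_mul, Units.val_mul]
        congr 2
      · refine (huniq ⟨δ.1, hδ⟩ _ ?_).symm
        show (lin ρ δ.1 : End ℂ W) = _
        rw [scalar_spec, ← hτ]
  exact exists_extension ρ hinv r hr

omit [Finite G] in
/-- An extension of an irreducible representation affords an irreducible character extending its
character. -/
theorem exists_character_of_extension (σ : Representation ℂ G W) (hσ : ∀ n : N, σ n = ρ n) :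
    ∃ χ : G → ℂ, Cfsg.IsIrrCharacter G χ ∧ ∀ n : N, χ n = ρ.character n := by
  have := IrrTools.apply_ne_zero_of_isIrreducible ρ
  have : σ.IsIrreducible := IrrTools.isIrreducible_of_forall σ fun U hU =>
    IrrTools.eq_bot_or_top_of_invariant ρ U fun n u hu => hσ n ▸ hU n u hu
  exact ⟨σ.character, IrrTools.isIrrCharacter_character σ, fun n =>
    congrArg (LinearMap.trace ℂ W) (hσ n)⟩

end CfsgLib.CharDeep.ProjExt
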