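import Cfsg.Agent.Lib.CharDeep.ProjExt
import Cfsg.Prelude.Def_CharExt
import Mathlib.RingTheory.Coprime.Lemmas
import Mathlib.Tactic.Ring

/-!
# Extensions with prescribed determinant
-/

namespace CfsgLib.CharDeep.DetExt

open Module CfsgLib.CharDeep

section

variable {G : Type*} [Group G] [Finite G] {W : Type*} [AddCommGroup W] [Module ℂ W]
  [FiniteDimensional ℂ W]

/-- The determinantal character may be computed with any representation affording the character. -/
theorem detChar_character (σ : Representation ℂ G W) [σ.IsIrreducible] :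
    Cfsg.detChar σ.character = fun g => LinearMap.det (σ g) := by
  have h : Cfsg.IsCharacter G σ.character := by
    obtain ⟨n, π, -, hπ⟩ := IrrTools.isIrrCharacter_character σ
    exact ⟨n, π, hπ⟩
  unfold Cfsg.detChar
  rw [dif_pos h]
  have hspec := Classical.choose_spec (Classical.choose_spec h)
  obtain ⟨φ⟩ := IrrTools.nonempty_equiv_of_character_eq σ
    (Classical.choose (Classical.choose_spec h)) hspec
  funext g
  rw [← LinearMap.det_conj (σ g) φ.toLinearEquiv]
  congr 1
  refine LinearMap.ext fun v => ?_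
  have h1 := LinearMap.congr_fun (φ.toIntertwiningMap.isIntertwining' g) (φ.toLinearEquiv.symm v)
  simp only [LinearMap.coe_comp, LinearEquiv.coe_coe, Function.comp_apply]
  refine Eq.trans ?_ h1.symm
  show _ = (Classical.choose (Classical.choose_spec h)) g
    (φ.toLinearEquiv (φ.toLinearEquiv.symm v))
  rw [LinearEquiv.apply_symm_apply]

/-- The determinant of a representation, as a homomorphism to the units. -/
noncomputable def detHom (σ : Representation ℂ G W) : G →* ℂˣ :=
  MonoidHom.toHomUnits ((LinearMap.det : End ℂ W →* ℂ).comp σ)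

omit [Finite G] [FiniteDimensional ℂ W] in
theorem coe_detHom (σ : Representation ℂ G W) (g : G) :
    (detHom σ g : ℂ) = LinearMap.det (σ g) := rfl

/-- Transport a representation along a linear equivalence. -/
noncomputable def conjRep {W' : Type*} [AddCommGroup W'] [Module ℂ W'] (σ : Representation ℂ G W)
    (e : W ≃ₗ[ℂ] W') : Representation ℂ G W' where
  toFun g := e.conj (σ g)
  map_one' := by rw [map_one]; exact e.conj_id
  map_mul' a b := by rw [map_mul]; exact LinearEquiv.conj_comp e (σ b) (σ a)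

omit [Finite G] [FiniteDimensional ℂ W] in
theorem character_conjRep {W' : Type*} [AddCommGroup W'] [Module ℂ W'] [FiniteDimensional ℂ W']
    (σ : Representation ℂ G W) (e : W ≃ₗ[ℂ] W') : (conjRep σ e).character = σ.character :=
  funext fun g => LinearMap.trace_conj' (σ g) e

omit [Finite G] in
theorem detHom_conjRep {W' : Type*} [AddCommGroup W'] [Module ℂ W'] [FiniteDimensional ℂ W']
    (σ : Representation ℂ G W) (e : W ≃ₗ[ℂ] W') : detHom (conjRep σ e) = detHom σ :=
  MonoidHom.ext fun g => Units.ext (LinearMap.det_conj (σ g) e)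

/-- Multiply a representation by a linear character. -/
noncomputable def twistHom (σ : Representation ℂ G W) (β : G →* ℂˣ) : Representation ℂ G W where
  toFun g := (β g : ℂ) • σ g
  map_one' := by simp
  map_mul' a b := by simp only [map_mul, Units.val_mul, smul_mul_smul_comm]

end

variable {G : Type*} [Group G] [Finite G] {N : Subgroup G} [N.Normal] {W : Type*}
  [AddCommGroup W] [Module ℂ W] [FiniteDimensional ℂ W] (ρ : Representation ℂ N W)
  [ρ.IsIrreducible]

omit [FiniteDimensional ℂ W] [ρ.IsIrreducible] in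
theorem pow_index_eq_one (β : G →* ℂˣ) (h : ∀ n : N, β n = 1) (g : G) : β g ^ N.index = 1 := by
  rw [← map_pow]
  exact h ⟨_, N.pow_index_mem g⟩

omit [Finite G] in
theorem isIrreducible_of_extends (σ : Representation ℂ G W) (hσ : ∀ n : N, σ n = ρ n) :
    σ.IsIrreducible := by
  have := IrrTools.apply_ne_zero_of_isIrreducible ρ
  exact IrrTools.isIrreducible_of_forall σ fun U hU =>
    IrrTools.eq_bot_or_top_of_invariant ρ U fun n u hu => hσ n ▸ hU n u hu

/-- If the determinant extends and the degree is prime to the index, an invariant irreducible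
representation extends with that determinant. -/
theorem exists_extension_det (hinv : ProjExt.Invariant ρ) (hcop : N.index.Coprime (finrank ℂ W))
    (μ : G →* ℂˣ) (hμ : ∀ n : N, μ n = detHom ρ n) :
    ∃ σ : Representation ℂ G W, (∀ n : N, σ n = ρ n) ∧ detHom σ = μ := by
  set d := finrank ℂ W
  have := ProjExt.pre_finiteIndex ρ
  have hd : ∀ γ : ProjExt.pre ρ,
      ((μ.comp (ProjExt.proj ρ))⁻¹ : ProjExt.cover ρ →* ℂˣ) γ = ProjExt.scalar ρ γ ^ d := by
    intro γ
    have h1 := ProjExt.det_lin ρ γ.1
    rw [ProjExt.scalar_spec, LinearMap.det_smul] at h1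
    show (μ (ProjExt.proj ρ γ.1))⁻¹ = _
    rw [hμ ⟨_, γ.2⟩, inv_eq_iff_mul_eq_one, mul_comm]
    exact Units.ext h1
  have hidx : (ProjExt.pre ρ).index = N.index :=
    Subgroup.index_comap_of_surjective _ (ProjExt.proj_surjective ρ hinv)
  obtain ⟨a, b, hab⟩ := Nat.Coprime.isCoprime hcop
  let T := MonoidHom.transfer (ProjExt.scalar ρ)
  have hT : ∀ γ : ProjExt.pre ρ, T γ = ProjExt.scalar ρ γ ^ N.index := fun γ => by
    rw [← hidx]
    exact CentralExt.transfer_eq_pow_index le_rfl (ProjExt.scalar ρ) (ProjExt.scalar_conj ρ)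
      (ProjExt.scalar ρ) (fun n _ => rfl) γ
  let r : ProjExt.cover ρ →* ℂˣ :=
    ((zpowGroupHom a).comp T) * ((zpowGroupHom b).comp (μ.comp (ProjExt.proj ρ))⁻¹)
  obtain ⟨σ, hσ⟩ := ProjExt.exists_extension ρ hinv r fun γ => by
    show T γ ^ a * ((μ.comp (ProjExt.proj ρ))⁻¹ : ProjExt.cover ρ →* ℂˣ) γ ^ b = _
    rw [hT, hd, ← zpow_natCast, ← zpow_natCast, ← zpow_mul, ← zpow_mul, ← zpow_add,
      mul_comm (N.index : ℤ) a, mul_comm (d : ℤ) b, hab, zpow_one]
  let δ : G →* ℂˣ := μ * (detHom σ)⁻¹
  have hδ : ∀ n : N, δ n = 1 := fun n => by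
    show μ n * (detHom σ n)⁻¹ = 1
    rw [hμ, mul_inv_eq_one]
    exact Units.ext (by rw [coe_detHom, coe_detHom, hσ])
  let β : G →* ℂˣ := (zpowGroupHom b).comp δ
  refine ⟨twistHom σ β, fun n => ?_, MonoidHom.ext fun g => ?_⟩
  · show ((δ n ^ b : ℂˣ) : ℂ) • σ n = ρ n
    rw [hδ, one_zpow, Units.val_one, one_smul, hσ]
  · have h1 : δ g ^ N.index = 1 := pow_index_eq_one δ hδ g
    have h2 : (δ g ^ b) ^ d = δ g := by
      rw [← zpow_natCast, ← zpow_mul]
      conv_rhs => rw [← zpow_one (δ g), ← hab, zpow_add, mul_comm a, zpow_mul, zpow_natCast, h1,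
        one_zpow, one_mul]
    have h3 : detHom (twistHom σ β) g = β g ^ d * detHom σ g := Units.ext (by
      show LinearMap.det ((β g : ℂ) • σ g) = _
      rw [LinearMap.det_smul, Units.val_mul, Units.val_pow_eq_pow_val, coe_detHom])
    rw [h3]
    show (δ g ^ b) ^ d * detHom σ g = μ g
    rw [h2]
    exact inv_mul_cancel_right (μ g) (detHom σ g)

/-- Two extensions with the same determinant agree if the degree is prime to the index. -/
theorem character_eq_of_det_eq (hcop : N.index.Coprime (finrank ℂ W))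
    {W' : Type*} [AddCommGroup W'] [Module ℂ W'] [FiniteDimensional ℂ W']
    (σ : Representation ℂ G W) (hσ : ∀ n : N, σ n = ρ n) (σ' : Representation ℂ G W')
    (hσ' : ∀ n : N, σ'.character n = ρ.character n) (hdet : detHom σ' = detHom σ) :
    σ'.character = σ.character := by
  have hW := IrrTools.apply_ne_zero_of_isIrreducible ρ
  obtain ⟨φ⟩ := IrrTools.nonempty_equiv_of_character_eq ρ (σ'.comp N.subtype) (funext hσ')
  let τ := conjRep σ' φ.toLinearEquiv.symm
  have hτN : ∀ n : N, τ n = ρ n := fun n => LinearMap.ext fun w => by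
    show φ.toLinearEquiv.symm.conj (σ' n) w = _
    rw [LinearEquiv.conj_apply]
    simp only [LinearEquiv.symm_symm, LinearMap.coe_comp, LinearEquiv.coe_coe, Function.comp_apply]
    rw [LinearEquiv.symm_apply_eq]
    exact (LinearMap.congr_fun (φ.toIntertwiningMap.isIntertwining' n) w).symm
  rw [← character_conjRep σ' φ.toLinearEquiv.symm]
  rw [← detHom_conjRep σ' φ.toLinearEquiv.symm] at hdet
  show τ.character = σ.character
  have hτσ : ∀ g, ∃! c : ℂˣ, τ g = (c : ℂ) • σ g := by
    intro g
    obtain ⟨c, hc⟩ := IrrTools.exists_smul_of_commute ρ (σ g⁻¹ * τ g) fun n => by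
      have h1 : τ g * ρ n = ρ (MulAut.conjNormal g n) * τ g := by
        rw [← hτN, ← hτN, ← map_mul, ← map_mul]; simp
      have h2 : σ g⁻¹ * ρ (MulAut.conjNormal g n) = ρ n * σ g⁻¹ := by
        rw [← hσ, ← hσ, ← map_mul, ← map_mul]; simp [mul_assoc]
      rw [mul_assoc, h1, ← mul_assoc, h2, mul_assoc]
    have h3 : τ g = c • σ g := by
      have h4 := congrArg (σ g * ·) hc
      simpa [← mul_assoc, ← map_mul] using h4
    have hne : τ g ≠ 0 := fun h0 => one_ne_zero (α := End ℂ W) (by
      rw [← map_one τ, ← inv_mul_cancel g, map_mul, h0, mul_zero])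
    have hc0 : c ≠ 0 := fun h0 => hne (by rw [h3, h0, zero_smul])
    refine ⟨Units.mk0 c hc0, h3, fun e he => Units.ext ?_⟩
    exact smul_left_injective ℂ (fun h0 => hne (by rw [h3, h0, smul_zero])) (he.symm.trans h3)
  choose f hf huniq using hτσ
  let β : G →* ℂˣ := MonoidHom.mk' f fun a b => (huniq (a * b) _ (by
    show τ (a * b) = _
    rw [map_mul, hf a, hf b, smul_mul_smul_comm, ← map_mul, Units.val_mul])).symm
  have h1 : ∀ n : N, β n = 1 := fun n =>
    (huniq n 1 (show τ n = ((1 : ℂˣ) : ℂ) • σ n by rw [Units.val_one, one_smul, hσ, hτN])).symm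
  funext g
  have hpow : β g ^ finrank ℂ W = 1 := by
    have h := congrArg (fun u : G →* ℂˣ => ((u g : ℂˣ) : ℂ)) hdet
    simp only [coe_detHom] at h
    rw [show (conjRep σ' φ.toLinearEquiv.symm) g = τ g from rfl, hf g, LinearMap.det_smul] at h
    refine Units.ext ?_
    rw [Units.val_pow_eq_pow_val, Units.val_one]
    exact mul_eq_right₀ (detHom σ g).ne_zero |>.1 h
  have hb : β g = 1 := orderOf_eq_one_iff.1
    (Nat.eq_one_of_dvd_coprimes hcop (orderOf_dvd_of_pow_eq_one (pow_index_eq_one β h1 g))
      (orderOf_dvd_of_pow_eq_one hpow))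
  show LinearMap.trace ℂ W (τ g) = LinearMap.trace ℂ W (σ g)
  rw [hf g, show f g = 1 from hb, Units.val_one, one_smul]

end CfsgLib.CharDeep.DetExt
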