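import Mathlib.GroupTheory.Transfer
import Mathlib.GroupTheory.QuotientGroup.Basic
import Mathlib.RingTheory.Int.Basic
import Mathlib.FieldTheory.IsAlgClosed.Basic
import Mathlib.Analysis.Complex.Polynomial.Basic

/-!
# Extending invariant homomorphisms from a normal subgroup

An invariant homomorphism from a normal subgroup to a commutative group extends to the whole
group as soon as it extends to subgroups of coprime-to-`p` index for every prime `p`.
-/

namespace CfsgLib.CharDeep.CentralExt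

variable {G : Type*} [Group G] {M : Type*} [CommGroup M]

/-- `F` restricts to `f` on the normal subgroup. -/
def Extends {N : Subgroup G} (f : N →* M) {H : Subgroup G} (F : H →* M) : Prop :=
  ∀ (n : N) (hn : (n : G) ∈ H), F ⟨n, hn⟩ = f n

open MonoidHom in
/-- On a normal subgroup of `H` on which `φ` is invariant, the transfer is the index power. -/
theorem transfer_eq_pow_index {N H : Subgroup G} [hN : N.Normal] [H.FiniteIndex] (hNH : N ≤ H)
    (f : N →* M) (hinv : ∀ (g : G) (n : N), f ⟨g * n * g⁻¹, hN.conj_mem n n.2 g⟩ = f n)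
    (φ : H →* M) (hφ : Extends f φ) (n : N) :
    transfer φ (n : G) = f n ^ H.index := by
  classical
  have := H.fintypeQuotientOfFiniteIndex
  rw [transfer_eq_prod_quotient_orbitRel_zpowers_quot, H.index_eq_sum_minimalPeriod (n : G),
    ← Finset.prod_pow_eq_pow_sum]
  refine Finset.prod_congr rfl fun q _ => ?_
  set k := Function.minimalPeriod ((n : G) • ·) q.out
  set t := q.out.out
  have hmem : t⁻¹ * (n : G) ^ k * t ∈ N := by
    have h := hN.conj_mem _ (n ^ k).2 t⁻¹
    simpa using h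
  rw [hφ ⟨_, hmem⟩ _, ← map_pow]
  have h := hinv t⁻¹ (n ^ k)
  rw [← h]
  congr 1
  exact Subtype.ext (by simp [k, t])

/-- If, for every prime `p`, an invariant homomorphism on a normal subgroup extends to a subgroup
of index prime to `p`, then it extends to the whole group. -/
theorem exists_extension_of_pow_eq_one {N : Subgroup G} [hN : N.Normal] (f : N →* M)
    (hinv : ∀ (g : G) (n : N), f ⟨g * n * g⁻¹, hN.conj_mem n n.2 g⟩ = f n)
    (o : ℕ) (ho : ∀ n, f n ^ o = 1)
    (hp : ∀ p : ℕ, p.Prime → p ∣ o → ∃ H : Subgroup G, N ≤ H ∧ ¬ p ∣ H.index ∧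
      ∃ φ : H →* M, Extends f φ) :
    ∃ F : G →* M, ∀ n : N, F n = f n := by
  let I : Ideal ℤ :=
    { carrier := {a | ∃ F : G →* M, ∀ n : N, F n = f n ^ a}
      add_mem' := by
        rintro a b ⟨F, hF⟩ ⟨F', hF'⟩
        exact ⟨F * F', fun n => by simp [hF, hF', zpow_add]⟩
      zero_mem' := ⟨1, fun n => by simp⟩
      smul_mem' := by
        rintro c a ⟨F, hF⟩
        exact ⟨(zpowGroupHom c).comp F, fun n => by
          simp [hF, ← zpow_mul, mul_comm c a]⟩ }
  obtain ⟨m, hm⟩ := (inferInstance : I.IsPrincipal).principal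
  have hu : IsUnit m := by
    rw [Int.isUnit_iff_natAbs_eq]
    by_contra h
    obtain ⟨p, hpp, hpd⟩ := Nat.exists_prime_and_dvd h
    have hoI : (o : ℤ) ∈ I := ⟨1, fun n => by simp [ho n]⟩
    rw [hm, Ideal.submodule_span_eq, Ideal.mem_span_singleton] at hoI
    obtain ⟨H, hNH, hidx, φ, hφ⟩ := hp p hpp (Int.natCast_dvd_natCast.1
      ((Int.natCast_dvd.2 hpd).trans hoI))
    have : H.FiniteIndex := ⟨fun h0 => hidx (h0 ▸ dvd_zero p)⟩
    have hI : (H.index : ℤ) ∈ I :=
      ⟨MonoidHom.transfer φ, fun n => by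
        rw [transfer_eq_pow_index hNH f hinv φ hφ n, zpow_natCast]⟩
    rw [hm, Ideal.submodule_span_eq, Ideal.mem_span_singleton] at hI
    exact hidx (hpd.trans (Int.natAbs_dvd_natAbs.2 hI))
  have h1 : (1 : ℤ) ∈ I := by
    rw [hm, Ideal.submodule_span_eq, Ideal.mem_span_singleton]
    exact hu.dvd
  obtain ⟨F, hF⟩ := h1
  exact ⟨F, fun n => by simpa using hF n⟩

/-- The version of `exists_extension_of_pow_eq_one` without a bound on the order. -/
theorem exists_extension {N : Subgroup G} [hN : N.Normal] (f : N →* M)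
    (hinv : ∀ (g : G) (n : N), f ⟨g * n * g⁻¹, hN.conj_mem n n.2 g⟩ = f n)
    (hp : ∀ p : ℕ, p.Prime → ∃ H : Subgroup G, N ≤ H ∧ ¬ p ∣ H.index ∧
      ∃ φ : H →* M, Extends f φ) :
    ∃ F : G →* M, ∀ n : N, F n = f n :=
  exists_extension_of_pow_eq_one f hinv 0 (fun n => pow_zero _) fun p hpp _ => hp p hpp

/-- An invariant homomorphism into a divisible group extends when the quotient is cyclic. -/
theorem exists_extension_of_zpowers {N : Subgroup G} [hN : N.Normal] (f : N →* ℂˣ)
    (hinv : ∀ (g : G) (n : N), f ⟨g * n * g⁻¹, hN.conj_mem n n.2 g⟩ = f n)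
    [N.FiniteIndex] (x : G) (hx : ∀ g : G, ∃ (n : N) (i : ℤ), g = n * x ^ i) :
    ∃ F : G →* ℂˣ, ∀ n : N, F n = f n := by
  classical
  set k := orderOf (x : G ⧸ N) with hk
  have hkpos : 0 < k := orderOf_pos _
  have hxk : x ^ k ∈ N := by
    have h := pow_orderOf_eq_one (x : G ⧸ N)
    rwa [← QuotientGroup.mk_pow, QuotientGroup.eq_one_iff] at h
  obtain ⟨z, hz⟩ := IsAlgClosed.exists_pow_nat_eq ((f ⟨x ^ k, hxk⟩ : ℂˣ) : ℂ) hkpos
  have hz0 : z ≠ 0 := by
    rintro rfl
    rw [zero_pow hkpos.ne'] at hz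
    exact (f ⟨x ^ k, hxk⟩).ne_zero hz.symm
  set c : ℂˣ := Units.mk0 z hz0 with hcdef
  have hc : c ^ k = f ⟨x ^ k, hxk⟩ := Units.ext (by simpa [c] using hz)
  have key : ∀ (i : ℤ) (hi : x ^ i ∈ N), f ⟨x ^ i, hi⟩ = c ^ i := by
    intro i hi
    obtain ⟨j, rfl⟩ : (k : ℤ) ∣ i := by
      rw [hk, orderOf_dvd_iff_zpow_eq_one, ← QuotientGroup.mk_zpow, QuotientGroup.eq_one_iff]
      exact hi
    rw [show c ^ ((k : ℤ) * j) = (c ^ k) ^ j by rw [zpow_mul, zpow_natCast], hc, ← map_zpow]
    congr 1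
    exact Subtype.ext (by simp [zpow_mul])
  choose nf ifun hgx using hx
  let F : G → ℂˣ := fun g => f (nf g) * c ^ (ifun g)
  have hF : ∀ (g : G) (n : N) (i : ℤ), g = n * x ^ i → F g = f n * c ^ i := by
    intro g n i hg
    have h2 : x ^ (i - ifun g) = ((n⁻¹ * nf g : N) : G) := by
      have h3 := (hgx g).symm.trans hg
      have h4 : x ^ i = (n : G)⁻¹ * ((nf g : G) * x ^ ifun g) := by rw [h3]; group
      rw [zpow_sub, h4]
      simp only [Subgroup.coe_mul, Subgroup.coe_inv]
      group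
    have h5 := key (i - ifun g) (by rw [h2]; exact (n⁻¹ * nf g).2)
    have h6 : f (n⁻¹ * nf g) = c ^ (i - ifun g) := by
      rw [← h5]; congr 1; exact Subtype.ext h2.symm
    rw [map_mul, map_inv, inv_mul_eq_iff_eq_mul] at h6
    show f (nf g) * c ^ (ifun g) = _
    rw [h6, mul_assoc, ← zpow_add, sub_add_cancel]
  refine ⟨MonoidHom.mk' F fun a b => ?_, fun n => ?_⟩
  · rw [hF (a * b) (nf a * ⟨_, hN.conj_mem _ (nf b).2 (x ^ ifun a)⟩) (ifun a + ifun b) ?_,
      map_mul, hinv, zpow_add]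
    · show _ = f (nf a) * c ^ (ifun a) * (f (nf b) * c ^ (ifun b))
      rw [mul_mul_mul_comm]
    · conv_lhs => rw [hgx a, hgx b]
      simp only [Subgroup.coe_mul, zpow_add]
      group
  · show F n = f n
    rw [hF n n 0 (by simp)]
    simp

end CfsgLib.CharDeep.CentralExt
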