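import Mathlib.Algebra.BigOperators.Group.Finset.Basic
import Mathlib.Algebra.BigOperators.Ring.Finset
import Mathlib.Algebra.Order.BigOperators.Group.Finset
import Mathlib.Data.Fintype.Card
import Mathlib.GroupTheory.GroupAction.Defs

/-!
# Graded pieces with nilpotent neutral component

If products of pieces landing in the neutral grade kill `e` after `r` factors, a sum of homogeneous
pieces kills `e` after taking a power.
-/

set_option autoImplicit false

namespace CfsgLib.CharDeep.GradedNilpotent

open scoped Classical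

variable {R : Type*} [Ring R] {Γ : Type*} [Group Γ] [Fintype Γ]

/-- For each grade passed by a product of `m` homogeneous factors, a count of the neutral segments
following it. -/
def Profile (A : Γ → R → Prop) (S : R → Prop) (m : ℕ) (x : R) (g : Γ) : Prop :=
  ∃ n : Γ → ℕ, m + 1 ≤ ∑ γ, n γ ∧ ∀ γ, 0 < n γ → ∃ (h : R) (w : List R) (cur : R) (δ : Γ),
    w.length + 1 = n γ ∧ (∀ s ∈ w, S s) ∧ A δ cur ∧ γ * δ = g ∧ x = h * w.prod * cur

theorem profile_zero {A : Γ → R → Prop} {S : R → Prop} (h1 : A 1 1) :
    Profile A S 0 1 1 := by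
  refine ⟨fun γ => if γ = 1 then 1 else 0, by simp, fun γ hγ => ?_⟩
  have : γ = 1 := by
    by_contra h
    simp [h] at hγ
  subst this
  exact ⟨1, [], 1, 1, by simp, by simp, h1, by simp, by simp⟩

theorem profile_succ {A I : Γ → R → Prop} {S : R → Prop} (h1 : A 1 1)
    (hmul : ∀ δ ε x y, A δ x → I ε y → A (δ * ε) (x * y))
    (hseg : ∀ δ ε x y, A δ x → I ε y → δ * ε = 1 → S (x * y))
    {m : ℕ} {x : R} {g : Γ} (hx : Profile A S m x g) {q : Γ} {a : R} (ha : I q a) :
    Profile A S (m + 1) (x * a) (g * q) := by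
  obtain ⟨n, hn, hd⟩ := hx
  refine ⟨fun γ => n γ + if γ = g * q then 1 else 0, ?_, fun γ hγ => ?_⟩
  · rw [Finset.sum_add_distrib, Finset.sum_ite_eq', if_pos (Finset.mem_univ _)]
    omega
  by_cases h0 : n γ = 0
  · have e : γ = g * q := by
      by_contra h
      simp [h0, h] at hγ
    exact ⟨x * a, [], 1, 1, by simp only [h0, if_pos e]; simp, by simp, h1, by simp [e], by simp⟩
  obtain ⟨h, w, cur, δ, hl, hS, hA, hg, rfl⟩ := hd γ (Nat.pos_of_ne_zero h0)
  by_cases e : γ = g * q
  · have hδ : δ * q = 1 := by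
      rw [← hg, mul_assoc] at e
      exact left_eq_mul.1 e
    refine ⟨h, w ++ [cur * a], 1, 1, by simp [if_pos e]; omega, ?_, h1, by rw [mul_one, e], ?_⟩
    · intro s hs
      rcases List.mem_append.1 hs with hs | hs
      · exact hS s hs
      · rw [List.mem_singleton.1 hs]
        exact hseg δ q cur a hA ha hδ
    · simp [mul_assoc]
  · exact ⟨h, w, cur * a, δ * q, by simp [if_neg e, hl], hS, hmul δ q cur a hA ha,
      by rw [← mul_assoc, hg], by simp [mul_assoc]⟩

/-- A sum of homogeneous pieces kills `e` after taking a power. -/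
theorem exists_pow_mul_eq_zero {A I : Γ → R → Prop} {S : R → Prop} (h1 : A 1 1)
    (hmul : ∀ δ ε x y, A δ x → I ε y → A (δ * ε) (x * y))
    (hseg : ∀ δ ε x y, A δ x → I ε y → δ * ε = 1 → S (x * y))
    {e : R} (he : ∀ x, Commute e x) {r : ℕ}
    (hS : ∀ w : List R, w.length = r → (∀ s ∈ w, S s) → w.prod * e = 0)
    (a : Γ → R) (ha : ∀ q, I q (a q)) :
    ∃ L : ℕ, (∑ q, a q) ^ L * e = 0 := by
  refine ⟨r * Fintype.card Γ, ?_⟩
  set L := r * Fintype.card Γ
  have key : ∀ j m x g, m + j = L → Profile A S m x g → x * (∑ q, a q) ^ j * e = 0 := by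
    intro j
    induction j with
    | zero =>
      rintro m x g hm ⟨n, hn, hd⟩
      obtain ⟨γ, hγ⟩ : ∃ γ, r < n γ := by
        by_contra h
        push Not at h
        have : ∑ γ, n γ ≤ L := (Finset.sum_le_sum fun γ _ => h γ).trans (by simp [L, mul_comm])
        omega
      obtain ⟨h, w, cur, δ, hl, hw, -, -, rfl⟩ := hd γ (by omega)
      have h0 : (w.take r).prod * e = 0 :=
        hS _ (by rw [List.length_take]; omega) fun s hs => hw s (List.mem_of_mem_take hs)
      rw [pow_zero, mul_one, ← List.prod_take_mul_prod_drop (L := w) (i := r)]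
      calc h * ((w.take r).prod * (w.drop r).prod) * cur * e
          = h * ((w.take r).prod * ((w.drop r).prod * cur * e)) := by simp only [mul_assoc]
        _ = h * ((w.take r).prod * (e * ((w.drop r).prod * cur))) := by rw [(he _).eq]
        _ = 0 := by rw [← mul_assoc (w.take r).prod, h0]; simp
    | succ j ih =>
      intro m x g hm hx
      rw [pow_succ', Finset.sum_mul, Finset.mul_sum, Finset.sum_mul]
      refine Finset.sum_eq_zero fun q _ => ?_
      rw [← mul_assoc]
      exact ih (m + 1) (x * a q) (g * q) (by omega) (profile_succ h1 hmul hseg hx (ha q))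
  simpa using key L 0 1 1 (by simp) (profile_zero h1)

end CfsgLib.CharDeep.GradedNilpotent
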