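import Mathlib.GroupTheory.Nilpotent
import Mathlib.Data.Nat.ChineseRemainder
import Cfsg.Prelude.Def_Characters

/-!
# The π-part of an element as a homomorphism on finite nilpotent groups
-/

namespace CfsgLib.CharDeep.PartHom

variable {G : Type*} [Group G]

theorem isNilpotent_of_isElementary [Finite G] {p : ℕ} (hp : p.Prime)
    (h : Cfsg.IsElementary p G) : Group.IsNilpotent G := by
  have : Fact p.Prime := ⟨hp⟩
  obtain ⟨x, hx, -, k, hk⟩ := h
  have hle : Subgroup.zpowers x ≤ Subgroup.center G := Subgroup.zpowers_le.2 hx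
  have hn : (Subgroup.zpowers x).Normal := ⟨fun z hz g => by
    rw [Subgroup.mem_center_iff.1 (hle hz) g, mul_inv_cancel_right]; exact hz⟩
  have hP : IsPGroup p (G ⧸ Subgroup.zpowers x) :=
    IsPGroup.of_card (n := k) (by rw [← Subgroup.index_eq_card, hk])
  have := IsPGroup.isNilpotent hP
  exact Subgroup.isNilpotent_of_ker_le_center (QuotientGroup.mk' (Subgroup.zpowers x))
    ((QuotientGroup.ker_mk' _).trans_le hle)

theorem pow_eq_one_or_self {P : Type*} [Group P] [Finite P] {l : ℕ} (hl : l.Prime)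
    (hP : IsPGroup l P) {e : ℕ} (he : e * e ≡ e [MOD Nat.card P]) :
    (∀ z : P, z ^ e = 1) ∨ ∀ z : P, z ^ e = z := by
  rcases Nat.eq_zero_or_pos e with rfl | hepos
  · exact Or.inl fun z => pow_zero z
  obtain ⟨e, rfl⟩ := Nat.exists_eq_add_of_le' hepos
  have : Fact l.Prime := ⟨hl⟩
  obtain ⟨a, ha⟩ := hP.exists_card_eq
  have hd : l ^ a ∣ e * (e + 1) := by
    have := (Nat.modEq_iff_dvd' (Nat.le_mul_self _)).1 he.symm
    rwa [ha, show (e + 1) * (e + 1) - (e + 1) = e * (e + 1) by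
      rw [← Nat.sub_one_mul]; simp] at this
  by_cases h : l ∣ e + 1
  · refine Or.inl fun z => ?_
    have hco : Nat.Coprime (l ^ a) e := Nat.Coprime.pow_left _ (hl.coprime_iff_not_dvd.2
      fun h' => hl.not_dvd_one ((Nat.dvd_add_right h').1 h))
    exact orderOf_dvd_iff_pow_eq_one.1 ((ha ▸ orderOf_dvd_natCard z).trans
      (hco.dvd_of_dvd_mul_left hd))
  · refine Or.inr fun z => ?_
    have hco : Nat.Coprime (l ^ a) (e + 1) := Nat.Coprime.pow_left _ (hl.coprime_iff_not_dvd.2 h)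
    rw [pow_succ, orderOf_dvd_iff_pow_eq_one.1 ((ha ▸ orderOf_dvd_natCard z).trans
      (hco.dvd_of_dvd_mul_right hd)), one_mul]

/-- In a finite nilpotent group an idempotent power map is multiplicative. -/
theorem mul_pow_of_idem [Finite G] [Group.IsNilpotent G] {e : ℕ}
    (he : e * e ≡ e [MOD Nat.card G]) (x y : G) : (x * y) ^ e = x ^ e * y ^ e := by
  let φ := Sylow.directProductOfNormal (G := G) fun {p} _ P => inferInstance
  obtain ⟨a, rfl⟩ := φ.surjective x
  obtain ⟨b, rfl⟩ := φ.surjective y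
  rw [← map_mul, ← map_pow, ← map_pow, ← map_pow, ← map_mul]
  refine congrArg φ ?_
  funext p P
  have hl : (p : ℕ).Prime := Nat.prime_of_mem_primeFactors p.2
  simp only [Pi.pow_apply, Pi.mul_apply]
  rcases pow_eq_one_or_self hl P.isPGroup'
    (he.of_dvd (Subgroup.card_subgroup_dvd_card (P : Subgroup G))) with h | h
  · rw [h, h, h, one_mul]
  · rw [h, h, h]

/-- The idempotent power map of a finite nilpotent group. -/
def powHom [Finite G] [Group.IsNilpotent G] (e : ℕ) (he : e * e ≡ e [MOD Nat.card G]) : G →* G where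
  toFun x := x ^ e
  map_one' := one_pow e
  map_mul' := mul_pow_of_idem he

@[simp] theorem powHom_apply [Finite G] [Group.IsNilpotent G] (e : ℕ)
    (he : e * e ≡ e [MOD Nat.card G]) (x : G) : powHom e he x = x ^ e := rfl

/-- An exponent that is `1` modulo `n` and `0` modulo `m`. -/
theorem exists_exponent {m n : ℕ} (h : Nat.Coprime m n) :
    ∃ e : ℕ, e ≡ 0 [MOD m] ∧ e ≡ 1 [MOD n] ∧ e * e ≡ e [MOD m * n] := by
  obtain ⟨e, h0, h1⟩ := Nat.chineseRemainder h 0 1
  refine ⟨e, h0, h1, (Nat.modEq_and_modEq_iff_modEq_mul h).1 ⟨?_, ?_⟩⟩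
  · exact ((h0.mul h0).trans (by simp [Nat.ModEq])).trans h0.symm
  · exact ((h1.mul h1).trans (by simp [Nat.ModEq])).trans h1.symm

theorem pow_exponent_eq_self {e n : ℕ} (h1 : e ≡ 1 [MOD n]) {x : G} (hx : orderOf x ∣ n) :
    x ^ e = x := by
  conv_rhs => rw [← pow_one x]
  exact pow_eq_pow_iff_modEq.2 (h1.of_dvd hx)

theorem pow_exponent_eq_one {e m : ℕ} (h0 : e ≡ 0 [MOD m]) {x : G} (hx : orderOf x ∣ m) :
    x ^ e = 1 :=
  orderOf_dvd_iff_pow_eq_one.1 (hx.trans (Nat.modEq_zero_iff_dvd.1 h0))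

theorem orderOf_pow_exponent_dvd {e m n : ℕ} (hG : Nat.card G = m * n) (h0 : e ≡ 0 [MOD m])
    (x : G) : orderOf (x ^ e) ∣ n := by
  refine orderOf_dvd_of_pow_eq_one ?_
  rw [← pow_mul]
  refine orderOf_dvd_iff_pow_eq_one.1 ((orderOf_dvd_natCard x).trans ?_)
  rw [hG]
  exact mul_dvd_mul_right (Nat.modEq_zero_iff_dvd.1 h0) n

theorem orderOf_dvd_of_coprime {m n : ℕ} (hG : Nat.card G = m * n) {x : G}
    (hx : Nat.Coprime (orderOf x) m) : orderOf x ∣ n :=
  hx.dvd_of_dvd_mul_left (hG ▸ orderOf_dvd_natCard x)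

/-- A homomorphic image of an elementary group is elementary. -/
theorem isElementary_range {H : Type*} [Group H] {p : ℕ} (hp : p.Prime) {f : G →* H}
    (hf : Function.Surjective f) (h : Cfsg.IsElementary p G) : Cfsg.IsElementary p H := by
  obtain ⟨x, hx, hco, k, hk⟩ := h
  refine ⟨f x, ?_, hco.coprime_dvd_left (orderOf_map_dvd f x), ?_⟩
  · rw [Subgroup.mem_center_iff] at hx ⊢
    intro g
    obtain ⟨a, rfl⟩ := hf g
    rw [← map_mul, ← map_mul, hx a]
  · rw [← MonoidHom.map_zpowers]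
    obtain ⟨i, -, hi⟩ := (Nat.dvd_prime_pow hp).1 (hk ▸ Subgroup.index_map_dvd _ hf)
    exact ⟨i, hi⟩

theorem card_dvd_of_forall_orderOf [Finite G] {m n : ℕ} (hG : Nat.card G ∣ m * n)
    (hco : Nat.Coprime m n) (h : ∀ x : G, orderOf x ∣ n) : Nat.card G ∣ n := by
  refine Nat.Coprime.dvd_of_dvd_mul_left (Nat.coprime_of_dvd fun l hl h1 h2 => ?_) hG
  have : Fact l.Prime := ⟨hl⟩
  obtain ⟨x, hx⟩ := exists_prime_orderOf_dvd_card' l h1
  have h3 : l ∣ n := by rw [← hx]; exact h x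
  exact hl.not_dvd_one (hco ▸ Nat.dvd_gcd h2 h3)

end CfsgLib.CharDeep.PartHom
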