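import Cfsg.Agent.Lib.Char.CliffordCorr
import Cfsg.Agent.Lib.Char.CliffordAbelian
import Cfsg.Agent.Lib.Solvable.Basic

/-!
# Homogeneous restrictions, chief factors and induction from a supplement
-/

set_option autoImplicit false
set_option linter.unusedSectionVars false

open scoped ComplexConjugate Classical commutatorElement

namespace CfsgLib.CharDeep.Relative

open CfsgLib.Char

section General

variable {A : Type*} [Group A] [Fintype A]

theorem sum_mul_conj (f : A → ℂ) :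
    ∑ a, f a * conj (f a) = (Nat.card A : ℂ) * Cfsg.classInner f f := by
  rw [Cfsg.classInner, ← mul_assoc, mul_inv_cancel₀ CfsgLib.Char.card_ne_zero, one_mul]

theorem sum_subgroup (N : Subgroup A) [Fintype N] (F : A → ℂ) (h : ∀ a, a ∉ N → F a = 0) :
    ∑ n : N, F n = ∑ a, F a := by
  rw [← Finset.sum_subtype (Finset.univ.filter fun a : A => a ∈ N) (fun a => by simp) F]
  exact Finset.sum_filter_of_ne fun a _ hne => not_not.1 fun hn => hne (h a hn)

/-- An irreducible character vanishing off `N`. -/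
theorem norm_restrict_of_vanish {χ : A → ℂ} (hχ : Cfsg.IsIrrCharacter A χ) (N : Subgroup A)
    [Fintype N] (h : ∀ a, a ∉ N → χ a = 0) :
    (Nat.card N : ℂ) * Cfsg.classInner (fun n : N => χ n) (fun n : N => χ n) = Nat.card A := by
  rw [← sum_mul_conj, sum_subgroup N (fun a => χ a * conj (χ a)) (fun a ha => by
    rw [h a ha, zero_mul]), sum_mul_conj, classInner_irr_self hχ, mul_one]

/-- A character with irreducible restriction is irreducible. -/
theorem irr_of_comp_irr {B : Type*} [Group B] [Fintype B] (f : B →* A) {ξ : A → ℂ}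
    (hξ : Cfsg.IsCharacter A ξ) (h : Cfsg.IsIrrCharacter B (ξ ∘ f)) :
    Cfsg.IsIrrCharacter A ξ := by
  have h0 : ξ ≠ 0 := fun h0 => IsIrrCharacter.apply_one_ne_zero h (by simp [h0])
  obtain ⟨ψ, hψ, hne⟩ := IsCharacter.exists_constituent hξ h0
  have hψf := IsCharacter.comp (IsIrrCharacter.isCharacter hψ) f
  obtain ⟨μ, hμ, hμne⟩ := IsCharacter.exists_constituent hψf fun h0 =>
    IsIrrCharacter.apply_one_ne_zero hψ (by simpa using congrFun h0 1)
  have hμξ : (ξ ∘ f) = μ := by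
    by_contra hd
    exact Clifford.classInner_ne_zero_trans hξ hψ hne f (IsIrrCharacter.isCharacter hμ) hμne
      (classInner_irr_ne h hμ hd)
  obtain ⟨a, b, ha, hb, hab, heq⟩ := IsCharacter.constituent_degree_le hξ hψ hne
  obtain ⟨a', b', ha', hb', hab', -⟩ := IsCharacter.constituent_degree_le hψf hμ hμne
  rw [← hμξ] at ha'
  simp only [Function.comp_apply, map_one] at ha' hb'
  have e1 : b = a' := by exact_mod_cast hb.symm.trans ha'
  have e2 : a = b' := by exact_mod_cast ha.symm.trans hb'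
  rw [heq (by omega)]
  exact hψ

theorem eq_smul_of_degree {X : A → ℂ} (hX : Cfsg.IsCharacter A X) {ξ : A → ℂ}
    (hξ : Cfsg.IsIrrCharacter A ξ) {m : ℕ} (hm : Cfsg.classInner X ξ = m)
    (h1 : X 1 = (m : ℂ) * ξ 1) : X = (m : ℂ) • ξ := by
  obtain ⟨k, hk, hexp⟩ := IsCharacter.exists_multiplicity hX
  choose d hd hd' using fun φ : Cfsg.IrrCharacter A => IsIrrCharacter.apply_one_eq φ.2
  set φ₀ : Cfsg.IrrCharacter A := ⟨ξ, hξ⟩
  have hk0 : k φ₀ = m := by exact_mod_cast (hk φ₀).symm.trans hm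
  have hsum : ((∑ φ, k φ * d φ : ℕ) : ℂ) = ((m * d φ₀ : ℕ) : ℂ) := by
    push_cast
    rw [← hd' φ₀, ← h1, hexp]
    exact Finset.sum_congr rfl fun φ _ => by rw [hd' φ]
  have hsum' := Nat.cast_injective hsum
  rw [← Finset.add_sum_erase _ _ (Finset.mem_univ φ₀), hk0] at hsum'
  have hrest : ∑ φ ∈ Finset.univ.erase φ₀, k φ * d φ = 0 := by omega
  funext g
  rw [hexp, Finset.sum_eq_single φ₀ (fun φ _ hne => by
      have := Finset.sum_eq_zero_iff.mp hrest φ (Finset.mem_erase.mpr ⟨hne, Finset.mem_univ φ⟩)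
      rcases Nat.mul_eq_zero.mp this with h | h
      · simp [h]
      · exact absurd h (hd φ).ne')
    (fun h => absurd (Finset.mem_univ _) h), hk0]
  rfl

theorem classInner_smul_self {θ : A → ℂ} (hθ : Cfsg.IsIrrCharacter A θ) (e : ℕ) :
    Cfsg.classInner ((e : ℂ) • θ) ((e : ℂ) • θ) = (e : ℂ) * (e : ℂ) := by
  rw [classInner_smul_left, classInner_smul_right, classInner_irr_self hθ]
  simp

/-- Degrees over a normal subgroup, at the level of characters. -/
theorem degree_ratio_dvd {χ : A → ℂ} (hχ : Cfsg.IsIrrCharacter A χ) (N : Subgroup A) [N.Normal]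
    [Fintype N] {θ : N → ℂ} (hθ : Cfsg.IsIrrCharacter N θ)
    (h : Cfsg.classInner (fun n : N => χ n) θ ≠ 0) :
    ∃ d : ℕ, χ 1 = (d : ℂ) * θ 1 ∧ d ∣ N.index := by
  obtain ⟨m, π, hπ, rfl⟩ := hχ
  obtain ⟨k, ρ, hρ, rfl⟩ := hθ
  have hnt : Nontrivial (Representation.IntertwiningMap ρ (π.comp N.subtype)) := by
    by_contra h0
    rw [not_nontrivial_iff_subsingleton] at h0
    refine h ((IrrTools.classInner_eq_finrank ρ (π.comp N.subtype)).trans ?_)
    rw [Module.finrank_zero_of_subsingleton, Nat.cast_zero]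
  obtain ⟨hd, hdiv⟩ := Isotypic.dvd_and_div_dvd_index ρ π hnt
  refine ⟨_, ?_, hdiv⟩
  rw [Representation.char_one, Representation.char_one, ← Nat.cast_mul, Nat.div_mul_cancel hd]

/-- With abelian quotient, a character whose support generates restricts irreducibly. -/
theorem irr_restrict_of_generates {χ : A → ℂ} (hχ : Cfsg.IsIrrCharacter A χ) (N : Subgroup A)
    [N.Normal] [Fintype N] (hab : ∀ a b : A ⧸ N, a * b = b * a)
    (hgen : ∀ U : Subgroup A, N ≤ U → (∀ a, χ a ≠ 0 → a ∈ U) → U = ⊤) :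
    Cfsg.IsIrrCharacter N fun n : N => χ n := by
  haveI : Fintype (A ⧸ N →* ℂˣ) := by
    haveI : Finite (A ⧸ N →* ℂˣ) := Finite.of_equiv _ homEquivLinear.symm
    exact Fintype.ofFinite _
  refine IsCharacter.isIrrCharacter_of_norm_one
    (IsCharacter.restrict (IsIrrCharacter.isCharacter hχ) N) ?_
  have hf : ∀ f : A ⧸ N →* ℂˣ,
      Cfsg.classInner (fun g => χ g * (f (g : A ⧸ N) : ℂ)) χ = if f = 1 then 1 else 0 := by
    intro f
    by_cases hf1 : f = 1
    · subst hf1
      rw [if_pos rfl]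
      simp only [MonoidHom.one_apply, Units.val_one, mul_one]
      exact classInner_irr_self hχ
    · rw [if_neg hf1]
      refine classInner_irr_ne (IsIrrCharacter.mul_hom hχ (f.comp (QuotientGroup.mk' N))) hχ
        fun he => hf1 ?_
      have hU := hgen (f.comp (QuotientGroup.mk' N)).ker (fun n hn => by
        rw [MonoidHom.mem_ker, MonoidHom.comp_apply,
          show QuotientGroup.mk' N n = 1 from (QuotientGroup.eq_one_iff n).2 hn, map_one])
        (fun a ha => by
          have h1 := congrFun he a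
          rw [MonoidHom.mem_ker]
          exact Units.ext ((mul_eq_left₀ ha).1 h1))
      refine MonoidHom.ext fun q => ?_
      obtain ⟨g, rfl⟩ := QuotientGroup.mk'_surjective N q
      exact MonoidHom.mem_ker.1 (hU ▸ Subgroup.mem_top g :
        g ∈ (f.comp (QuotientGroup.mk' N)).ker)
  have hsum : ∀ q : A ⧸ N, ∑ f : A ⧸ N →* ℂˣ, (f q : ℂ)
      = if q = 1 then (N.index : ℂ) else 0 := by
    intro q
    rw [Subgroup.index_eq_card]
    by_cases hq : q = 1
    · rw [if_pos hq]
      have hcard : Nat.card (A ⧸ N →* ℂˣ) = Nat.card (A ⧸ N) := by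
        rw [Nat.card_congr homEquivLinear, card_linear,
          show commutator (A ⧸ N) = ⊥ from (commutator_eq_bot_iff_center_eq_top _).2
            ((Subgroup.eq_top_iff' _).2 fun a => Subgroup.mem_center_iff.2 fun b => hab b a),
          Subgroup.index_bot]
      simp only [hq, map_one, Units.val_one, Finset.sum_const, nsmul_eq_mul, mul_one,
        Finset.card_univ]
      rw [← hcard, Nat.card_eq_fintype_card]
    · rw [if_neg hq]
      letI : Fintype (A ⧸ N) := Fintype.ofFinite _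
      obtain ⟨f₀, hf₀⟩ : ∃ f₀ : A ⧸ N →* ℂˣ, f₀ q ≠ 1 := by
        by_contra hcon
        push Not at hcon
        refine hq (eq_one_of_forall_irr fun ψ => ?_)
        obtain ⟨f, hfe⟩ := exists_hom_of_apply_one_eq_one (isCharacter_irr ψ)
          (apply_one_eq_one_of_comm hab ψ.2)
        simp only [hfe, hcon f, map_one]
      have h : (f₀ q : ℂ) * ∑ f : A ⧸ N →* ℂˣ, (f q : ℂ) = ∑ f : A ⧸ N →* ℂˣ, (f q : ℂ) := by
        rw [Finset.mul_sum]
        exact Fintype.sum_equiv (Equiv.mulLeft f₀) _ _ fun f => by simp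
      refine (mul_eq_zero.1 (show ((f₀ q : ℂ) - 1) * ∑ f : A ⧸ N →* ℂˣ, (f q : ℂ) = 0 by
        rw [sub_mul, h, one_mul, sub_self])).resolve_left fun h1 => hf₀ (Units.ext ?_)
      exact sub_eq_zero.1 h1
  have h1 : ∑ f : A ⧸ N →* ℂˣ, Cfsg.classInner (fun g => χ g * (f (g : A ⧸ N) : ℂ)) χ = 1 := by
    rw [Finset.sum_congr rfl fun f _ => hf f, Finset.sum_ite_eq' Finset.univ 1 fun _ => (1 : ℂ),
      if_pos (Finset.mem_univ _)]
  simp only [Cfsg.classInner] at h1 ⊢
  rw [← Finset.mul_sum, Finset.sum_comm] at h1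
  have h2 : ∀ g : A, ∑ f : A ⧸ N →* ℂˣ, χ g * (f (g : A ⧸ N) : ℂ) * conj (χ g)
      = if g ∈ N then (N.index : ℂ) * (χ g * conj (χ g)) else 0 := by
    intro g
    rw [← Finset.sum_mul, ← Finset.mul_sum, hsum]
    by_cases hg : g ∈ N
    · rw [if_pos hg, if_pos ((QuotientGroup.eq_one_iff g).2 hg)]; ring
    · rw [if_neg hg, if_neg fun h => hg ((QuotientGroup.eq_one_iff g).1 h)]; ring
  rw [Finset.sum_congr rfl fun g _ => h2 g, ← Finset.sum_filter,
    Finset.sum_subtype _ (p := fun x : A => x ∈ N) (fun x => by simp), ← Finset.mul_sum,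
    ← Subgroup.index_mul_card N] at h1
  refine Eq.trans ?_ h1
  have hI : (N.index : ℂ) ≠ 0 := Nat.cast_ne_zero.2 Subgroup.index_ne_zero_of_finite
  push_cast
  field_simp

end General

section Homogeneous

variable {G : Type*} [Group G] [Fintype G]

/-- The restriction to `N` is a multiple of one irreducible character. -/
def Homogeneous (χ : G → ℂ) (N : Subgroup G) : Prop :=
  ∃ (φ : N → ℂ) (e : ℕ), Cfsg.IsIrrCharacter N φ ∧ (fun n : N => χ n) = (e : ℂ) • φ

theorem mult_ne_zero {χ : G → ℂ} (hχ : Cfsg.IsIrrCharacter G χ) {N : Subgroup G}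
    {φ : N → ℂ} {e : ℕ} (he : (fun n : N => χ n) = (e : ℂ) • φ) : e ≠ 0 := fun h0 => by
  refine IsIrrCharacter.apply_one_ne_zero hχ ?_
  have := congrFun he 1
  simpa [h0] using this

theorem invariant_of_homogeneous {χ : G → ℂ} (hχ : Cfsg.IsIrrCharacter G χ) {N : Subgroup G}
    [hN : N.Normal] {φ : N → ℂ} {e : ℕ} (he : (fun n : N => χ n) = (e : ℂ) • φ) (g : G) (n : N) :
    φ ⟨g * n * g⁻¹, hN.conj_mem (n : G) n.2 g⟩ = φ n := by
  have h1 := congrFun he ⟨g * n * g⁻¹, hN.conj_mem (n : G) n.2 g⟩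
  have h2 := congrFun he n
  simp only [Pi.smul_apply, smul_eq_mul] at h1 h2
  rw [IsIrrCharacter.isClassFunction hχ, h2] at h1
  exact (mul_left_cancel₀ (Nat.cast_ne_zero.2 (mult_ne_zero hχ he)) h1).symm

/-- An inhomogeneous restriction gives induction from a proper subgroup. -/
theorem exists_induced_of_not_homogeneous {χ : G → ℂ} (hχ : Cfsg.IsIrrCharacter G χ)
    (N : Subgroup G) [hN : N.Normal] (h : ¬ Homogeneous χ N) :
    ∃ (T : Subgroup G) (ψ : T → ℂ), N ≤ T ∧ T ≠ ⊤ ∧ Cfsg.IsIrrCharacter T ψ ∧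
      Cfsg.indFun T ψ = χ := by
  obtain ⟨θ, hθ, hne⟩ := IsCharacter.exists_constituent
    (IsCharacter.restrict (IsIrrCharacter.isCharacter hχ) N) fun h0 =>
      IsIrrCharacter.apply_one_ne_zero hχ (by simpa using congrFun h0 1)
  have hNT : N ≤ stab θ := le_stab (IsIrrCharacter.isClassFunction hθ)
  refine ⟨stab θ, ?_⟩
  obtain ⟨ψ, hψ, -, he⟩ := exists_eq_indFun_inertia hNT hθ (isInertia_stab θ) hχ hne
  refine ⟨ψ, hNT, fun htop => h ?_, hψ, he.symm⟩
  obtain ⟨e, -, -, hres⟩ := Clifford.restrict_eq_smul N hχ hθ hne fun g n =>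
    congrFun (mem_stab.1 (htop ▸ Subgroup.mem_top g : g ∈ stab θ)) n
  exact ⟨θ, e, hθ, hres⟩

/-- A proper normal subgroup has a chief factor above it. -/
theorem exists_chief {L U : Subgroup G} [L.Normal] [U.Normal] (h : L < U) :
    ∃ K : Subgroup G, K.Normal ∧ L < K ∧ K ≤ U ∧
      ∀ M : Subgroup G, M.Normal → L ≤ M → M ≤ K → M = L ∨ M = K := by
  obtain ⟨K, hle, ⟨hKn, hLK⟩, hmin⟩ := Finite.exists_le_minimal
    (p := fun K : Subgroup G => K.Normal ∧ L < K) ⟨inferInstance, h⟩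
  refine ⟨K, hKn, hLK, hle, fun M hM hLM hMK => ?_⟩
  rcases hLM.eq_or_lt with he | hlt
  · exact Or.inl he.symm
  · exact Or.inr (le_antisymm hMK (hmin ⟨hM, hlt⟩ hMK))

/-- A chief factor below which the quotient is solvable is an abelian group of prime power order. -/
theorem chief_solvable {L K : Subgroup G} [L.Normal] [K.Normal] (hsolv : Group.IsSolvable (G ⧸ L))
    (hLK : L < K) (hchief : ∀ M : Subgroup G, M.Normal → L ≤ M → M ≤ K → M = L ∨ M = K) :
    ⁅K, K⁆ ≤ L ∧ ∃ p n : ℕ, p.Prime ∧ L.relIndex K = p ^ n := by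
  set N := K.map (QuotientGroup.mk' L) with hN
  haveI : N.Normal := Subgroup.Normal.map inferInstance _ (QuotientGroup.mk'_surjective L)
  have hne : N ≠ ⊥ := fun h0 => hLK.not_ge (by
    rwa [hN, Subgroup.map_eq_bot_iff, QuotientGroup.ker_mk'] at h0)
  obtain ⟨hc, p, hp, -, hpg⟩ := CfsgLib.Solvable.Basic.minimal_normal_solvable N hne fun M hM hMN => by
    have h1 : L ≤ M.comap (QuotientGroup.mk' L) := fun x hx => by
      rw [Subgroup.mem_comap, show QuotientGroup.mk' L x = 1 from (QuotientGroup.eq_one_iff x).2 hx]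
      exact one_mem M
    have h2 : M.comap (QuotientGroup.mk' L) ≤ K := by
      refine (Subgroup.comap_mono hMN).trans (le_of_eq ?_)
      rw [hN, Subgroup.comap_map_eq, QuotientGroup.ker_mk', sup_eq_left.2 hLK.le]
    have hback := Subgroup.map_comap_eq_self_of_surjective (QuotientGroup.mk'_surjective L) M
    rcases hchief _ (hM.comap _) h1 h2 with h | h
    · exact Or.inl (by rw [← hback, h, QuotientGroup.map_mk'_self])
    · exact Or.inr (by rw [← hback, h])
  refine ⟨?_, ?_⟩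
  · rw [Subgroup.commutator_le]
    intro a ha b hb
    rw [← QuotientGroup.eq_one_iff]
    show QuotientGroup.mk' L ⁅a, b⁆ = 1
    rw [map_commutatorElement, commutatorElement_eq_one_iff_mul_comm]
    exact CfsgLib.Solvable.Basic.isMulCommutative_subgroup_iff.1 hc _ ⟨a, ha, rfl⟩ _ ⟨b, hb, rfl⟩
  · haveI := Fact.mk hp
    obtain ⟨n, hn⟩ := IsPGroup.iff_card.1 hpg
    refine ⟨p, n, hp, ?_⟩
    rw [← hn, hN, ← Subgroup.relIndex_ker, QuotientGroup.ker_mk']

/-- A chief factor with abelian quotient below an invariant character: homogeneous case. -/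
theorem chief_homogeneous {K L : Subgroup G} [hK : K.Normal] [hL : L.Normal] [Fintype K] [Fintype L]
    (hLK : L ≤ K) (hchief : ∀ M : Subgroup G, M.Normal → L ≤ M → M ≤ K → M = L ∨ M = K)
    (hab : ⁅K, K⁆ ≤ L) {ϑ : K → ℂ} (hϑ : Cfsg.IsIrrCharacter K ϑ)
    (hinv : ∀ (g : G) (n : K), ϑ ⟨g * n * g⁻¹, hK.conj_mem (n : G) n.2 g⟩ = ϑ n)
    {φ : L → ℂ} (hφ : Cfsg.IsIrrCharacter L φ) {e : ℕ}
    (he : (fun x : L => ϑ ⟨(x : G), hLK x.2⟩) = (e : ℂ) • φ) :
    e = 1 ∨ e ^ 2 = L.relIndex K := by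
  haveI : Fintype (L.subgroupOf K) := Fintype.ofFinite _
  let ε : L.subgroupOf K ≃* L := Subgroup.subgroupOfEquivOfLe hLK
  have hres : (fun x : L.subgroupOf K => ϑ x) = (e : ℂ) • (φ ∘ ε) := funext fun x => congrFun he (ε x)
  have hφ' : Cfsg.IsIrrCharacter (L.subgroupOf K) (φ ∘ ε) := IsIrrCharacter.comp_equiv hφ ε
  set S : Set G := {g | ∃ hg : g ∈ K, ϑ ⟨g, hg⟩ ≠ 0}
  have hUn : (Subgroup.closure ((L : Set G) ∪ S)).Normal := by
    refine ⟨fun u hu g => ?_⟩
    have h1 : (Subgroup.closure ((L : Set G) ∪ S)).map (MulAut.conj g).toMonoidHom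
        ≤ Subgroup.closure ((L : Set G) ∪ S) := by
      rw [MonoidHom.map_closure]
      refine Subgroup.closure_mono ?_
      rintro _ ⟨x, hx, rfl⟩
      rcases hx with hx | ⟨hxK, hx⟩
      · exact Or.inl (hL.conj_mem x hx g)
      · exact Or.inr ⟨hK.conj_mem x hxK g, by
          show ϑ ⟨g * x * g⁻¹, _⟩ ≠ 0
          rwa [hinv g ⟨x, hxK⟩]⟩
    exact h1 ⟨u, hu, rfl⟩
  rcases hchief _ hUn (Set.subset_union_left.trans Subgroup.subset_closure)
      ((Subgroup.closure_le _).2 (Set.union_subset hLK fun g hg => hg.1)) with hU | hU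
  · right
    have h1 := norm_restrict_of_vanish hϑ (L.subgroupOf K) fun k hk => by
      by_contra hne
      refine hk ?_
      show (k : G) ∈ L
      rw [← hU]
      exact Subgroup.subset_closure (Or.inr ⟨k.2, hne⟩)
    rw [hres, classInner_smul_self hφ', ← Subgroup.index_mul_card (L.subgroupOf K),
      Nat.cast_mul, mul_comm _ (Nat.card (L.subgroupOf K) : ℂ)] at h1
    have h2 := mul_left_cancel₀ CfsgLib.Char.card_ne_zero h1
    rw [Subgroup.relIndex, sq]
    exact_mod_cast h2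
  · left
    have hirr : Cfsg.IsIrrCharacter (L.subgroupOf K) (fun x : L.subgroupOf K => ϑ x) := by
      refine irr_restrict_of_generates hϑ (L.subgroupOf K) ?_ fun V hLV hV => ?_
      · intro a b
        obtain ⟨a, rfl⟩ := QuotientGroup.mk'_surjective _ a
        obtain ⟨b, rfl⟩ := QuotientGroup.mk'_surjective _ b
        rw [← commutatorElement_eq_one_iff_mul_comm, ← map_commutatorElement]
        refine (QuotientGroup.eq_one_iff _).2 ?_
        exact hab (Subgroup.commutator_mem_commutator a.2 b.2)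
      · refine (Subgroup.eq_top_iff' V).2 fun k => ?_
        have h1 : Subgroup.closure ((L : Set G) ∪ S) ≤ V.map K.subtype := by
          refine (Subgroup.closure_le _).2 ?_
          rintro g (hg | ⟨hgK, hg⟩)
          · exact ⟨⟨g, hLK hg⟩, hLV hg, rfl⟩
          · exact ⟨⟨g, hgK⟩, hV _ hg, rfl⟩
        obtain ⟨v, hv, hve⟩ := h1 (hU.symm ▸ k.2 : (k : G) ∈ Subgroup.closure ((L : Set G) ∪ S))
        rwa [← show v = k from Subtype.ext hve]
    have h1 := classInner_irr_self hirr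
    rw [hres, classInner_smul_self hφ'] at h1
    have h2 : e * e = 1 := by exact_mod_cast h1
    exact Nat.eq_one_of_mul_eq_one_right h2

end Homogeneous

section Mackey

variable {G : Type*} [Group G] [Fintype G]

/-- Induction from a supplement, restricted to a normal subgroup. -/
theorem indFun_restrict_of_sup {H M : Subgroup G} [M.Normal] [Fintype M]
    (hsup : M ⊔ H = ⊤) {ϑ : H → ℂ} (hϑ : Cfsg.IsClassFunction H ϑ) :
    (fun m : M => Cfsg.indFun H ϑ m) = Cfsg.indFun (H.subgroupOf M)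
      fun j : H.subgroupOf M => ϑ ⟨((j : M) : G), j.2⟩ := by
  funext g
  set J := H.subgroupOf M
  set F : G → ℂ := fun x => Cfsg.extendByZero H ϑ (x⁻¹ * (g : G) * x) with hF
  have hFH : ∀ (x : G) (h : H), F (x * h) = F x := by
    intro x h
    simp only [hF, show (x * (h : G))⁻¹ * (g : G) * (x * h)
      = (h : G)⁻¹ * (x⁻¹ * (g : G) * x) * h by simp [mul_assoc]]
    by_cases hy : x⁻¹ * (g : G) * x ∈ H
    · rw [extendByZero_apply_mem H ϑ hy, extendByZero_apply_mem H ϑ
        (H.mul_mem (H.mul_mem (H.inv_mem h.2) hy) h.2)]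
      rw [← hϑ ⟨_, hy⟩ h⁻¹]
      exact congrArg ϑ (Subtype.ext (by simp))
    · rw [extendByZero_apply_notMem H ϑ hy, extendByZero_apply_notMem H ϑ fun hc => hy (by
        simpa [mul_assoc] using H.mul_mem (H.mul_mem h.2 hc) (H.inv_mem h.2))]
  have hsurj : ∀ x : G, ∃ p : M × H, (p.1 : G) * p.2 = x := fun x => by
    obtain ⟨m, hm, h, hh, rfl⟩ := Subgroup.mem_sup_of_normal_left.1 (hsup ▸ Subgroup.mem_top x)
    exact ⟨(⟨m, hm⟩, ⟨h, hh⟩), rfl⟩
  choose sec hsec using hsurj
  let π : G × J ≃ M × H :=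
    { toFun := fun q => ((sec q.1).1 * (q.2 : M),
        (⟨((q.2 : M) : G), q.2.2⟩ : H)⁻¹ * (sec q.1).2)
      invFun := fun p => ((p.1 : G) * p.2, ⟨(sec ((p.1 : G) * p.2)).1⁻¹ * p.1, by
        have := hsec ((p.1 : G) * p.2)
        show ((((sec ((p.1 : G) * p.2)).1⁻¹ * p.1 : M)) : G) ∈ H
        rw [show ((((sec ((p.1 : G) * p.2)).1⁻¹ * p.1 : M)) : G)
            = (((sec ((p.1 : G) * p.2)).2 : H) : G) * ((p.2 : H) : G)⁻¹ by
          rw [eq_mul_inv_iff_mul_eq, Subgroup.coe_mul, Subgroup.coe_inv, mul_assoc,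
            inv_mul_eq_iff_eq_mul, this]]
        exact H.mul_mem (SetLike.coe_mem _) (H.inv_mem p.2.2)⟩)
      left_inv := fun ⟨x, j⟩ => by
        have e : (((sec x).1 * (j : M) : M) : G)
            * (((⟨((j : M) : G), j.2⟩ : H)⁻¹ * (sec x).2 : H) : G) = x := by
          simp only [Subgroup.coe_mul, Subgroup.coe_inv]
          rw [mul_assoc, mul_inv_cancel_left, hsec]
        refine Prod.ext e (Subtype.ext ?_)
        show (sec _).1⁻¹ * ((sec x).1 * (j : M)) = (j : M)
        rw [e, inv_mul_cancel_left]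
      right_inv := fun ⟨m, h⟩ => by
        refine Prod.ext (by simp) (Subtype.ext ?_)
        have h1 := hsec ((m : G) * h)
        simp only [Subgroup.coe_mul, Subgroup.coe_inv, mul_inv_rev, inv_inv]
        rw [mul_assoc, h1, inv_mul_cancel_left] }
  have hπ : ∀ q : G × J, ((π q).1 : G) * (π q).2 = q.1 := fun q => by
    show (((sec q.1).1 * (q.2 : M) : M) : G)
      * (((⟨((q.2 : M) : G), q.2.2⟩ : H)⁻¹ * (sec q.1).2 : H) : G) = q.1
    simp only [Subgroup.coe_mul, Subgroup.coe_inv]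
    rw [mul_assoc, mul_inv_cancel_left, hsec]
  have key : ∑ q : G × J, F q.1 = ∑ p : M × H, F p.1 :=
    Fintype.sum_equiv π _ _ fun q => by rw [← hFH ((π q).1 : G) (π q).2, hπ]
  simp only [Fintype.sum_prod_type, Finset.sum_const, Finset.card_univ, nsmul_eq_mul,
    ← Finset.mul_sum, ← Nat.card_eq_fintype_card] at key
  rw [indFun_def, indFun_def]
  have hM : ∀ x : M, Cfsg.extendByZero J (fun j : J => ϑ ⟨((j : M) : G), j.2⟩) (x⁻¹ * g * x)
      = F x := fun x => by
    by_cases hx : x⁻¹ * g * x ∈ J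
    · rw [extendByZero_apply_mem J _ hx]
      exact (extendByZero_apply_mem H ϑ (g := (x : G)⁻¹ * (g : G) * x) hx).symm
    · rw [extendByZero_apply_notMem J _ hx]
      exact (extendByZero_apply_notMem H ϑ (g := (x : G)⁻¹ * (g : G) * x) hx).symm
  rw [Finset.sum_congr rfl fun x _ => hM x]
  have hH : (Nat.card H : ℂ) ≠ 0 := CfsgLib.Char.card_ne_zero
  have hJ : (Nat.card J : ℂ) ≠ 0 := CfsgLib.Char.card_ne_zero
  field_simp
  rw [hF] at key ⊢
  linear_combination key

end Mackey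

end CfsgLib.CharDeep.Relative
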