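import Cfsg.Agent.Lib.DegreeTools.PDegree
import Cfsg.Agent.Lib.Fusion.PSolvable
import Cfsg.Agent.Lib.Derangements.Basic
import Cfsg.Agent.Lib.Char.Linear
import Cfsg.Agent.Lib.Char.Constituent
import Cfsg.Agent.S0854

/-!
# The converse of Itô's theorem for `p`-solvable groups
-/

namespace CfsgLib.CharDeep.ItoMichler

open CfsgLib CfsgLib.Char

variable {G : Type*} [Group G] [Finite G] {p : ℕ}

/-- Some irreducible character lies over a given one of a subgroup. -/
theorem exists_over [Fintype G] (N : Subgroup G) [Fintype N] (θ : Cfsg.IrrCharacter N) :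
    ∃ χ : Cfsg.IrrCharacter G, Cfsg.classInner (fun n : N => (χ : G → ℂ) n) (θ : N → ℂ) ≠ 0 := by
  have hθc := Char.isCharacter_irr θ
  obtain ⟨χ, hχ, hχne⟩ := Char.IsCharacter.exists_constituent
    (Char.IsCharacter.indFun N hθc) (fun h0 => by
      have := congrFun h0 1
      rw [Char.indFun_one, Pi.zero_apply, mul_eq_zero] at this
      rcases this with h1 | h1
      · exact Subgroup.index_ne_zero_of_finite (Nat.cast_eq_zero.1 h1)
      · exact Char.IsIrrCharacter.apply_one_ne_zero θ.2 h1)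
  refine ⟨⟨χ, hχ⟩, ?_⟩
  rw [Char.classInner_indFun N _ (Char.IsIrrCharacter.isClassFunction hχ),
    Char.IsCharacter.classInner_comm hθc
      (Char.IsCharacter.restrict (Char.IsIrrCharacter.isCharacter hχ) N)] at hχne
  exact hχne

/-- Degrees of characters of a normal subgroup divide degrees lying over them. -/
theorem not_dvd_deg_normal (N : Subgroup G) [N.Normal]
    (h : ∀ χ : Cfsg.IrrCharacter G, ¬ p ∣ Cfsg.charDegree (χ : G → ℂ))
    (θ : Cfsg.IrrCharacter N) : ¬ p ∣ Cfsg.charDegree (θ : N → ℂ) := by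
  classical
  cases nonempty_fintype G
  obtain ⟨χ, hχ⟩ := exists_over N θ
  have hd := (Cfsg.Agent.S0887.result N (χ : G → ℂ) χ.2 (θ : N → ℂ) θ.2 hχ
    (Cfsg.charDegree (χ : G → ℂ)) (Cfsg.charDegree (θ : N → ℂ)) (DegreeTools.deg_cast χ).symm
    (DegreeTools.deg_cast θ).symm).1
  exact fun hp => h χ (hp.trans hd)

/-- A normal Sylow subgroup is abelian when all degrees are prime to `p`. -/
theorem comm_of_normal [Fact p.Prime] (P : Sylow p G) [(P : Subgroup G).Normal]
    (h : ∀ χ : Cfsg.IrrCharacter G, ¬ p ∣ Cfsg.charDegree (χ : G → ℂ)) :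
    ∀ a b : (P : Subgroup G), a * b = b * a := by
  classical
  cases nonempty_fintype G
  refine Char.comm_iff_forall_linear.2 fun θ => ?_
  obtain ⟨m, hm, hmd⟩ := Char.IsIrrCharacter.apply_one_dvd_card θ.2
  obtain ⟨a, ha⟩ := P.2.exists_card_eq
  rw [ha] at hmd
  obtain ⟨i, -, hi⟩ := (Nat.dvd_prime_pow Fact.out).1 hmd
  rcases i with _ | i
  · rw [hm, hi, pow_zero, Nat.cast_one]
  · exfalso
    refine not_dvd_deg_normal (P : Subgroup G) h θ ?_
    have h1 : (Cfsg.charDegree θ.1 : ℂ) = (m : ℂ) := by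
      rw [DegreeTools.deg_cast, hm]
    rw [Nat.cast_injective h1, hi, pow_succ]
    exact dvd_mul_left p _

/-- If all degrees are prime to `p` and `N P` is normal for a normal `p'`-subgroup `N`, then `P`
centralizes `N`. -/
theorem centralizes [Fact p.Prime] (P : Sylow p G) (N : Subgroup G) [N.Normal]
    (hN : (Nat.card N).Coprime p) [hM : ((P : Subgroup G) ⊔ N).Normal]
    (h : ∀ χ : Cfsg.IrrCharacter G, ¬ p ∣ Cfsg.charDegree (χ : G → ℂ))
    {x : G} (hx : x ∈ (P : Subgroup G)) {n : G} (hn : n ∈ N) : x * n = n * x := by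
  classical
  cases nonempty_fintype G
  have hp : p.Prime := Fact.out
  set M := (P : Subgroup G) ⊔ N
  have hfix : ∀ θ : Cfsg.IrrCharacter N, ∀ y ∈ (P : Subgroup G), ∀ m : N,
      (θ : N → ℂ) ⟨y * m * y⁻¹, Subgroup.Normal.conj_mem inferInstance (m : G) m.2 y⟩ =
        (θ : N → ℂ) m := by
    intro θ
    let T : Subgroup G :=
      { carrier := {g | ∀ m : N, (θ : N → ℂ)
          ⟨g * m * g⁻¹, Subgroup.Normal.conj_mem inferInstance (m : G) m.2 g⟩ = (θ : N → ℂ) m}
        one_mem' := fun m => congrArg (θ : N → ℂ) (Subtype.ext (by simp))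
        mul_mem' := fun {a b} ha hb m => by
          have h := ha ⟨b * m * b⁻¹, Subgroup.Normal.conj_mem inferInstance (m : G) m.2 b⟩
          rw [← hb m, ← h]
          exact congrArg (θ : N → ℂ) (Subtype.ext (by simp [mul_assoc]))
        inv_mem' := fun {a} ha m => by
          have h := ha ⟨a⁻¹ * m * a⁻¹⁻¹, Subgroup.Normal.conj_mem inferInstance (m : G) m.2 a⁻¹⟩
          rw [← h]
          exact congrArg (θ : N → ℂ) (Subtype.ext (by simp [mul_assoc])) }
    have hNT : N ≤ T := fun d hd m =>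
      Char.IsIrrCharacter.isClassFunction θ.2 m ⟨d, hd⟩
    obtain ⟨χ, hχ⟩ := exists_over N θ
    obtain ⟨η, hη, hind, -⟩ := Cfsg.Agent.S0854.result N (hN := inferInstance) (θ : N → ℂ) θ.2 T
      (fun g => Iff.rfl) hNT χ χ.2 hχ
    have hTd : ¬ p ∣ T.index := by
      intro hd
      refine h χ (hd.trans ⟨Cfsg.charDegree η, ?_⟩)
      have h1 : (Cfsg.charDegree (χ : G → ℂ) : ℂ) = ((T.index * Cfsg.charDegree η : ℕ) : ℂ) := by
        rw [DegreeTools.deg_cast, Nat.cast_mul,
          DegreeTools.charDegree_cast (Char.IsIrrCharacter.isCharacter hη), ← hind, Char.indFun_one]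
      exact_mod_cast h1
    have hrel : T.relIndex M = 1 := by
      have e1 : (T ⊓ M).index = T.relIndex M * M.index := by
        rw [← Subgroup.inf_relIndex_right, Subgroup.relIndex_mul_index inf_le_right]
      have e2 : (T ⊓ M).index = M.relIndex T * T.index := by
        rw [← Subgroup.inf_relIndex_left, Subgroup.relIndex_mul_index inf_le_left]
      obtain ⟨a, ha⟩ := P.2.exists_card_eq
      have h2 : T.relIndex M ∣ p ^ a :=
        (Subgroup.relIndex_dvd_of_le_left M hNT).trans (by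
          rw [Subgroup.relIndex_sup_right, ← ha]
          exact Subgroup.relIndex_dvd_card _ _)
      obtain ⟨i, -, hi⟩ := (Nat.dvd_prime_pow hp).1 h2
      rcases i with _ | i
      · rw [hi, pow_zero]
      · exfalso
        have hMi : ¬ p ∣ M.index := fun hd =>
          P.not_dvd_index (hd.trans (Subgroup.index_dvd_of_le le_sup_left))
        have h3 : p ∣ M.relIndex T * T.index := by
          rw [← e2, e1, hi, pow_succ]
          exact Dvd.dvd.mul_right (dvd_mul_left p _) _
        rcases hp.dvd_mul.1 h3 with h4 | h4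
        · exact hMi (h4.trans (Subgroup.relIndex_dvd_index_of_normal M T))
        · exact hTd h4
    exact fun y hy m => (Subgroup.relIndex_eq_one.1 hrel (le_sup_left (b := N) hy)) m
  let C : Subgroup N := (Subgroup.centralizer ((P : Subgroup G) : Set G)).subgroupOf N
  by_cases hC : C = ⊤
  · have : (⟨n, hn⟩ : N) ∈ C := hC ▸ Subgroup.mem_top _
    exact Subgroup.mem_centralizer_iff.1 this x hx
  · exfalso
    obtain ⟨m, hm⟩ := CfsgLib.Derangements.Basic.exists_notMem_conj hC
    letI : MulAction (P : Subgroup G) {k : N // IsConj k m} :=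
      { smul := fun y k => ⟨⟨(y : G) * k.1 * (y : G)⁻¹,
          Subgroup.Normal.conj_mem inferInstance (k.1 : G) k.1.2 y⟩,
          (Char.isConj_iff_forall_irr.2 fun θ => hfix θ y y.2 k.1).trans k.2⟩
        one_smul := fun k => Subtype.ext (Subtype.ext (by
          show ((1 : (P : Subgroup G)) : G) * k.1 * ((1 : (P : Subgroup G)) : G)⁻¹ = k.1
          simp))
        mul_smul := fun a b k => Subtype.ext (Subtype.ext (by
          show ((a * b : (P : Subgroup G)) : G) * k.1 * ((a * b : (P : Subgroup G)) : G)⁻¹ =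
            (a : G) * ((b : G) * k.1 * (b : G)⁻¹) * (a : G)⁻¹
          rw [Subgroup.coe_mul]; group)) }
    have hcard : Nat.card {k : N // IsConj k m} ∣ Nat.card N :=
      Dvd.intro _ (Char.card_conjugates_mul m)
    have hnd : ¬ p ∣ Nat.card {k : N // IsConj k m} := fun hd =>
      (hp.coprime_iff_not_dvd.1 hN.symm) (hd.trans hcard)
    obtain ⟨k, hk⟩ := P.2.nonempty_fixed_point_of_prime_not_dvd_card _ hnd
    obtain ⟨g, hg⟩ := isConj_iff.1 k.2.symm
    refine hm g ?_
    rw [hg]
    refine Subgroup.mem_centralizer_iff.2 fun y hy => ?_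
    exact mul_inv_eq_iff_eq_mul.1 (congrArg (fun t : {k : N // IsConj k m} => ((t.1 : N) : G))
      (hk ⟨y, hy⟩))

/-- The converse of Itô's theorem for `p`-solvable groups. -/
theorem normal_sylow_of_degrees (p : ℕ) [Fact p.Prime] : ∀ (n : ℕ) {G : Type*} [Group G] [Finite G],
    Nat.card G = n → Cfsg.IsPSolvable p G → ∀ P : Sylow p G,
    (∀ χ : Cfsg.IrrCharacter G, ¬ p ∣ Cfsg.charDegree (χ : G → ℂ)) → (P : Subgroup G).Normal := by
  intro n
  induction n using Nat.strong_induction_on with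
  | _ n ih =>
  intro G _ _ hn hG P h
  rcases subsingleton_or_nontrivial G with hs | hs
  · exact ⟨fun x hx g => by rwa [Subsingleton.elim (g * x * g⁻¹) x]⟩
  obtain ⟨N, hNn, -, hne, hN⟩ := CfsgLib.Fusion.PSolvable.exists_minimal_dichotomy hG
    (K := ⊤) top_ne_bot
  have hlt : Nat.card (G ⧸ N) < n := by
    rw [← hn, ← Subgroup.index_eq_card, ← Subgroup.index_mul_card N]
    exact lt_mul_of_one_lt_right (Nat.pos_of_ne_zero Subgroup.index_ne_zero_of_finite)
      (N.one_lt_card_iff_ne_bot.2 hne)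
  have hQ := ih _ hlt (G := G ⧸ N) rfl (CfsgLib.Fusion.PSolvable.psolvable_quotient hG N)
    (P.mapSurjective (QuotientGroup.mk'_surjective N)) fun ψ => by
      have h1 := h ⟨(ψ : G ⧸ N → ℂ) ∘ QuotientGroup.mk' N,
        Char.IsIrrCharacter.comp_surjective ψ.2 _ (QuotientGroup.mk'_surjective N)⟩
      simpa [Cfsg.charDegree] using h1
  have hM : ((P : Subgroup G) ⊔ N).Normal := by
    have := hQ.comap (QuotientGroup.mk' N)
    rwa [Sylow.coe_mapSurjective, Subgroup.comap_map_eq, QuotientGroup.ker_mk'] at this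
  rcases hN with hN | hN
  · have hPN : (P : Subgroup G) ⊔ N = P :=
      P.3 (IsPGroup.to_sup_of_normal_right P.2 hN) le_sup_left
    rwa [hPN] at hM
  · have hc := fun {x : G} (hx : x ∈ (P : Subgroup G)) {m : G} (hm : m ∈ N) =>
      centralizes P N hN h hx hm
    refine ⟨fun x hx g => ?_⟩
    have hM' : g * x * g⁻¹ ∈ (P : Subgroup G) ⊔ N := hM.conj_mem x (le_sup_left (b := N) hx) g
    rw [← SetLike.mem_coe, Subgroup.mul_normal, Set.mem_mul] at hM'
    obtain ⟨u, hu, m, hm, hum⟩ := hM'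
    obtain ⟨k, hk⟩ := IsPGroup.iff_orderOf.1 P.2 ⟨x, hx⟩
    obtain ⟨l, hl⟩ := IsPGroup.iff_orderOf.1 P.2 ⟨u, hu⟩
    rw [Subgroup.orderOf_mk] at hk hl
    have h1 : (g * x * g⁻¹) ^ p ^ (k + l) = 1 := by
      rw [conj_pow, pow_add, pow_mul, ← hk, pow_orderOf_eq_one, one_pow, mul_one, mul_inv_cancel]
    rw [← hum, Commute.mul_pow (hc hu hm),
      show u ^ p ^ (k + l) = 1 by rw [pow_add, mul_comm, pow_mul, ← hl, pow_orderOf_eq_one, one_pow],
      one_mul] at h1
    have hm1 : m = 1 := orderOf_eq_one_iff.1 (Nat.eq_one_of_dvd_coprimes (hN.pow_right (k + l))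
      (Subgroup.orderOf_dvd_natCard N hm) (orderOf_dvd_of_pow_eq_one h1))
    rw [← hum, hm1, mul_one]
    exact hu

end CfsgLib.CharDeep.ItoMichler
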