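import Cfsg.Agent.Lib.CharDeep.SmallCommute
import Cfsg.Agent.Lib.Char.Basic
import Mathlib.GroupTheory.Subgroup.Simple
import Mathlib.RingTheory.RootsOfUnity.Complex
import Mathlib.Analysis.Complex.Trigonometric
import Mathlib.Analysis.SpecialFunctions.Trigonometric.Bounds

/-!
# Blichfeldt's theorem on eigenvalues within sixty degrees of one of them

An irreducible finite unitary simple group has no non-trivial element `x` with an eigenvalue `μ`
from which all eigenvalues have distance less than one: if `W` is the `μ`-eigenspace, then every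
conjugate of `x` maps `W` to itself.  With the pigeonhole principle this bounds the order of an
element of prime order with few eigenvalues.
-/

set_option autoImplicit false

open scoped InnerProductSpace ComplexConjugate
open Module

namespace CfsgLib.CharDeep.BlichfeldtSixty

universe u v

variable {G : Type u} [Group G] {V : Type v} [NormedAddCommGroup V] [InnerProductSpace ℂ V]
  [FiniteDimensional ℂ V] (ρ : Representation ℂ G V)

omit [FiniteDimensional ℂ V] in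
theorem rho_mul (a b : G) (v : V) : ρ (a * b) v = ρ a (ρ b v) := by
  rw [map_mul, Module.End.mul_apply]

omit [FiniteDimensional ℂ V] in
theorem rho_inv_self (a : G) (v : V) : ρ a (ρ a⁻¹ v) = v := by
  rw [← rho_mul, mul_inv_cancel, map_one, Module.End.one_apply]

omit [FiniteDimensional ℂ V] in
theorem rho_self_inv (a : G) (v : V) : ρ a⁻¹ (ρ a v) = v := by
  rw [← rho_mul, inv_mul_cancel, map_one, Module.End.one_apply]

variable (hU : ∀ g v w, ⟪ρ g v, ρ g w⟫_ℂ = ⟪v, w⟫_ℂ)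
include hU

omit [FiniteDimensional ℂ V] in
theorem norm_rho (g : G) (v : V) : ‖ρ g v‖ = ‖v‖ := by
  rw [norm_eq_sqrt_re_inner (𝕜 := ℂ), norm_eq_sqrt_re_inner (𝕜 := ℂ), hU]

/-- Every conjugate of `x` stabilises the `μ`-eigenspace of `x`. -/
theorem conj_mem_eigenspace [Finite G] {x : G} {μ : ℂ} (hμ : ‖μ‖ = 1) {r : ℝ} (hr0 : 0 ≤ r)
    (hr1 : r < 1) (hnear : ∀ v, ‖ρ x v - μ • v‖ ≤ r * ‖v‖) (g : G) (w : V)
    (hw : ρ x w = μ • w) : ρ x (ρ (g * x * g⁻¹) w) = μ • ρ (g * x * g⁻¹) w := by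
  classical
  have hμ0 : μ ≠ 0 := fun h => by simp [h] at hμ
  -- conjugates are near `μ` too
  have hnearc : ∀ (g : G) (v : V), ‖ρ (g * x * g⁻¹) v - μ • v‖ ≤ r * ‖v‖ := by
    intro g v
    have e : ρ (g * x * g⁻¹) v - μ • v = ρ g (ρ x (ρ g⁻¹ v) - μ • ρ g⁻¹ v) := by
      rw [map_sub, map_smul, rho_inv_self, rho_mul, rho_mul]
    rw [e, norm_rho ρ hU]
    calc _ ≤ r * ‖ρ g⁻¹ v‖ := hnear _
      _ = r * ‖v‖ := by rw [norm_rho ρ hU]
  let z : ℕ → G := fun k => Nat.rec (g * x * g⁻¹) (fun _ y => y * x * y⁻¹) k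
  have hzs : ∀ k, z (k + 1) = z k * x * (z k)⁻¹ := fun _ => rfl
  have hzc : ∀ k, ∃ c, z k = c * x * c⁻¹ := fun k => by
    cases k with
    | zero => exact ⟨g, rfl⟩
    | succ k => exact ⟨z k, rfl⟩
  -- contraction
  have hcontr : ∀ k, ∀ u, ρ x u = μ • u → ‖ρ (z k) u - μ • u‖ ≤ r ^ k * (2 * ‖u‖) := by
    intro k
    induction k with
    | zero =>
      intro u _
      rw [pow_zero, one_mul]
      refine (norm_sub_le _ _).trans ?_
      rw [norm_rho ρ hU, norm_smul, hμ, one_mul]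
      linarith
    | succ k ih =>
      intro u hu
      have e : ρ (z (k + 1)) u - μ • u = ρ (z k) (ρ x (ρ (z k)⁻¹ u) - μ • ρ (z k)⁻¹ u) := by
        rw [map_sub, map_smul, rho_inv_self, hzs, rho_mul, rho_mul]
      have e2 : ρ x (ρ (z k)⁻¹ u) - μ • ρ (z k)⁻¹ u =
          ρ x (ρ (z k)⁻¹ u - μ⁻¹ • u) - μ • (ρ (z k)⁻¹ u - μ⁻¹ • u) := by
        rw [map_sub, map_smul, hu, smul_sub, smul_smul, smul_smul, mul_inv_cancel₀ hμ0,
          inv_mul_cancel₀ hμ0, sub_sub_sub_cancel_right]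
      have e3 : ‖ρ (z k)⁻¹ u - μ⁻¹ • u‖ = ‖ρ (z k) u - μ • u‖ := by
        calc ‖ρ (z k)⁻¹ u - μ⁻¹ • u‖ = ‖μ • ρ (z k) (ρ (z k)⁻¹ u - μ⁻¹ • u)‖ := by
              rw [norm_smul, hμ, one_mul, norm_rho ρ hU]
          _ = ‖μ • u - ρ (z k) u‖ := by
              rw [map_sub, map_smul, rho_inv_self, smul_sub, smul_smul, mul_inv_cancel₀ hμ0,
                one_smul]
          _ = _ := norm_sub_rev _ _
      rw [e, norm_rho ρ hU, e2]
      refine (hnear _).trans ?_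
      rw [e3, pow_succ', mul_assoc]
      exact mul_le_mul_of_nonneg_left (ih u hu) hr0
  -- some term of the sequence acts as `μ` on the eigenspace
  obtain ⟨K, hK⟩ : ∃ K, ∀ u, ρ x u = μ • u → ρ (z K) u = μ • u := by
    have hex : ∀ a : G, ∃ δ : ℝ, 0 < δ ∧ ((∀ u, ρ x u = μ • u → ρ a u = μ • u) ∨
        ∃ u, ρ x u = μ • u ∧ δ * (2 * ‖u‖) < ‖ρ a u - μ • u‖) := by
      intro a
      by_cases ha : ∀ u, ρ x u = μ • u → ρ a u = μ • u
      · exact ⟨1, one_pos, Or.inl ha⟩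
      · push Not at ha
        obtain ⟨u, hu, hne⟩ := ha
        have h0 : 0 < ‖ρ a u - μ • u‖ := norm_pos_iff.2 (sub_ne_zero.2 hne)
        have h1 : 0 < ‖u‖ := norm_pos_iff.2 fun h => hne (by simp [h])
        refine ⟨‖ρ a u - μ • u‖ / (4 * ‖u‖), div_pos h0 (by linarith), Or.inr ⟨u, hu, ?_⟩⟩
        rw [div_mul_eq_mul_div, div_lt_iff₀ (by linarith)]
        nlinarith
    choose δ hδ0 hδ using hex
    obtain ⟨a0, ha0⟩ := Finite.exists_min δ
    obtain ⟨K, hK⟩ := exists_pow_lt_of_lt_one (hδ0 a0) hr1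
    refine ⟨K, (hδ (z K)).resolve_right ?_⟩
    rintro ⟨u, hu, hlt⟩
    have h1 := hcontr K u hu
    have h2 := ha0 (z K)
    nlinarith [norm_nonneg u]
  -- descending
  have hdesc : ∀ k, (∀ u, ρ x u = μ • u → ρ x (ρ (z (k + 1)) u) = μ • ρ (z (k + 1)) u) →
      ∀ u, ρ x u = μ • u → ρ x (ρ (z k) u) = μ • ρ (z k) u := by
    intro k hk
    -- `x` maps `(z k)⁻¹ W` to itself
    have hW' : ∀ v, ρ x (ρ (z k) v) = μ • ρ (z k) v →
        ρ x (ρ (z k) (ρ x v)) = μ • ρ (z k) (ρ x v) := by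
      intro v hv
      have h := hk _ hv
      have e : ρ (z (k + 1)) (ρ (z k) v) = ρ (z k) (ρ x v) := by
        rw [hzs, rho_mul, rho_mul, rho_self_inv]
      rwa [e] at h
    -- elements of `(z k)⁻¹ W` lie in `W`
    have hsub : ∀ v, ρ x (ρ (z k) v) = μ • ρ (z k) v → ρ x v = μ • v := by
      intro v hv
      by_contra hne
      set b := ρ x v - μ • v with hb
      have hb0 : b ≠ 0 := sub_ne_zero.2 hne
      have hbW : ρ x (ρ (z k) b) = μ • ρ (z k) b := by
        rw [hb, map_sub, map_smul, map_sub, hW' v hv, map_smul, hv, smul_sub]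
      have horth : ⟪ρ (z k) b, b⟫_ℂ = 0 := by
        set u := ρ (z k) b
        have h1 : ⟪u, ρ x v⟫_ℂ = μ * ⟪u, v⟫_ℂ := by
          have h2 := hU x u v
          rw [hbW, inner_smul_left] at h2
          rw [← h2, ← mul_assoc, Complex.mul_conj', hμ]
          simp
        rw [hb, inner_sub_right, h1, inner_smul_right, sub_self]
      obtain ⟨c, hc⟩ := hzc k
      have h1 := hnearc c b
      rw [← hc] at h1
      have h2 : ‖ρ (z k) b - μ • b‖ ^ 2 = ‖b‖ ^ 2 + ‖b‖ ^ 2 := by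
        rw [norm_sub_sq (𝕜 := ℂ), inner_smul_right, horth, norm_rho ρ hU, norm_smul, hμ, one_mul]
        simp
      have h3 : 0 < ‖b‖ := norm_pos_iff.2 hb0
      have h4 : ‖ρ (z k) b - μ • b‖ < ‖b‖ := lt_of_le_of_lt h1 (by nlinarith)
      nlinarith [norm_nonneg (ρ (z k) b - μ • b)]
    -- so the two spaces agree
    let W : Submodule ℂ V := Module.End.eigenspace (ρ x) μ
    have hle : W.comap (ρ (z k)) ≤ W := fun v hv =>
      Module.End.mem_eigenspace_iff.2 (hsub v (Module.End.mem_eigenspace_iff.1 hv))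
    let e : V ≃ₗ[ℂ] V :=
      LinearEquiv.ofLinear (ρ (z k)) (ρ (z k)⁻¹) (by ext v; exact rho_inv_self ρ _ v)
        (by ext v; exact rho_self_inv ρ _ v)
    have heq : W.comap (ρ (z k)) = W := by
      refine Submodule.eq_of_le_of_finrank_le hle ?_
      have hco : W.comap (ρ (z k)) = W.map (e.symm : V →ₗ[ℂ] V) :=
        (Submodule.map_equiv_eq_comap_symm e.symm W).symm
      rw [hco, LinearEquiv.finrank_map_eq]
    intro u hu
    have hmem : u ∈ W.comap (ρ (z k)) := by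
      rw [heq]; exact Module.End.mem_eigenspace_iff.2 hu
    exact Module.End.mem_eigenspace_iff.1 hmem
  have hall : ∀ j, j ≤ K → ∀ u, ρ x u = μ • u → ρ x (ρ (z (K - j)) u) = μ • ρ (z (K - j)) u := by
    intro j
    induction j with
    | zero => intro _ u hu; rw [Nat.sub_zero, hK u hu, map_smul, hu]
    | succ j ih =>
      intro hj
      refine hdesc (K - (j + 1)) ?_
      have := ih (by omega)
      rwa [show K - (j + 1) + 1 = K - j by omega]
  have := hall K le_rfl w hw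
  rwa [Nat.sub_self] at this

/-- Blichfeldt's theorem for simple groups. -/
theorem not_near [Finite G] [IsSimpleGroup G] (hnc : ∃ a b : G, a * b ≠ b * a)
    (hinj : Function.Injective ρ)
    (hirr : ∀ U : Submodule ℂ V, (∀ g, ∀ v ∈ U, ρ g v ∈ U) → U = ⊥ ∨ U = ⊤)
    {x : G} (hx : x ≠ 1) {μ : ℂ} (hμ : ‖μ‖ = 1) {r : ℝ} (hr0 : 0 ≤ r) (hr1 : r < 1)
    (hnear : ∀ v, ‖ρ x v - μ • v‖ ≤ r * ‖v‖) {v₀ : V} (hv0 : v₀ ≠ 0) (hev : ρ x v₀ = μ • v₀) :
    False := by
  let W : Submodule ℂ V := Module.End.eigenspace (ρ x) μ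
  have hmem : ∀ {v}, v ∈ W ↔ ρ x v = μ • v := Module.End.mem_eigenspace_iff
  let S : Submonoid G :=
    { carrier := {g | ∀ v ∈ W, ρ g v ∈ W}
      one_mem' := fun v hv => by rw [map_one]; exact hv
      mul_mem' := fun {a b} ha hb v hv => by rw [rho_mul]; exact ha _ (hb _ hv) }
  let H : Subgroup G :=
    { S with
      inv_mem' := fun {a} ha => by
        have h : a⁻¹ = a ^ (orderOf a - 1) := by
          rw [inv_eq_iff_mul_eq_one, ← pow_succ', Nat.sub_add_cancel (orderOf_pos a),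
            pow_orderOf_eq_one]
        rw [h]
        exact S.pow_mem ha _ }
  have hH : ⊤ ≤ H := by
    rw [← (Subgroup.normalClosure_normal (s := ({x} : Set G))).eq_bot_or_eq_top.resolve_left
      fun h => hx (Subgroup.mem_bot.1 (h ▸ Subgroup.subset_normalClosure rfl)),
      Subgroup.normalClosure, Subgroup.closure_le]
    intro y hy v hv
    rw [Group.mem_conjugatesOfSet_iff] at hy
    obtain ⟨x', rfl, hc⟩ := hy
    obtain ⟨g, rfl⟩ := isConj_iff.1 hc
    exact hmem.2 (conj_mem_eigenspace ρ hU hμ hr0 hr1 hnear g v (hmem.1 hv))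
  rcases hirr W (fun g v hv => hH (Subgroup.mem_top g) v hv) with h | h
  · have h2 : v₀ ∈ W := hmem.2 hev
    rw [h] at h2
    exact hv0 ((Submodule.mem_bot ℂ).1 h2)
  · have hsc : ∀ v, ρ x v = μ • v := fun v => hmem.1 (h ▸ Submodule.mem_top)
    have hcen : x ∈ Subgroup.center G := Subgroup.mem_center_iff.2 fun g =>
      hinj (LinearMap.ext fun v => by rw [rho_mul, rho_mul, hsc, hsc, map_smul])
    rcases (inferInstance : (Subgroup.center G).Normal).eq_bot_or_eq_top with hb | ht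
    · exact hx (Subgroup.mem_bot.1 (hb ▸ hcen))
    · obtain ⟨a, b, hab⟩ := hnc
      exact hab ((Subgroup.mem_center_iff.1 (ht ▸ Subgroup.mem_top b) a))

omit hU in
theorem norm_root_sub_one_lt {p : ℕ} (hp : 0 < p) {ζ : ℂ}
    (hζ : ζ = Complex.exp (2 * Real.pi * Complex.I / p)) {s : ℤ} (hs : 6 * |s| < p) :
    ‖ζ ^ s - 1‖ < 1 := by
  have hpR : (0 : ℝ) < p := by exact_mod_cast hp
  have e : ζ ^ s = Complex.exp (Complex.I * (((2 * Real.pi * s / p : ℝ)) : ℂ)) := by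
    rw [hζ, ← Complex.exp_int_mul]
    congr 1
    push_cast
    ring
  rw [e, Complex.norm_exp_I_mul_ofReal_sub_one, Real.norm_eq_abs, abs_mul, abs_two]
  have hb : |2 * Real.pi * (s : ℝ) / p / 2| < Real.pi / 6 := by
    have h6 : 6 * |(s : ℝ)| < p := by exact_mod_cast hs
    rw [show 2 * Real.pi * (s : ℝ) / p / 2 = Real.pi * (s : ℝ) / p by ring, abs_div, abs_mul,
      abs_of_pos Real.pi_pos, abs_of_pos hpR, div_lt_iff₀ hpR]
    nlinarith [Real.pi_pos]
  have h1 := abs_lt.1 hb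
  have h2 : Real.sin (2 * Real.pi * (s : ℝ) / p / 2) < 1 / 2 := by
    rw [← Real.sin_pi_div_six]
    exact Real.sin_lt_sin_of_lt_of_le_pi_div_two (by linarith [Real.pi_pos]) (by linarith [Real.pi_pos]) h1.2
  have h3 : -(1 / 2) < Real.sin (2 * Real.pi * (s : ℝ) / p / 2) := by
    rw [← Real.sin_pi_div_six, ← Real.sin_neg]
    exact Real.sin_lt_sin_of_lt_of_le_pi_div_two (by linarith [Real.pi_pos]) (by linarith [Real.pi_pos]) h1.1
  have := abs_lt.2 ⟨h3, h2⟩
  linarith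

omit hU in
/-- Dirichlet's box principle with six boxes. -/
theorem exists_multiplier {p d : ℕ} (J : Finset ℕ) {j₀ : ℕ} (hj₀ : j₀ ∈ J) (hJ : J.card ≤ d)
    (hpd : 6 ^ (d - 1) < p) :
    ∃ t : ℕ, 0 < t ∧ t < p ∧
      ∀ j ∈ J, ∃ s : ℤ, 6 * |s| < p ∧ (p : ℤ) ∣ ((j : ℤ) - j₀) * t - s := by
  classical
  have hp : (0 : ℤ) < p := by
    have : 0 < p := lt_of_le_of_lt (Nat.zero_le _) hpd
    exact_mod_cast this
  let res : ℕ → ℕ → ℤ := fun k j => (((j : ℤ) - j₀) * k) % p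
  have hres : ∀ k j, 0 ≤ res k j ∧ res k j < p := fun k j =>
    ⟨Int.emod_nonneg _ hp.ne', Int.emod_lt_of_pos _ hp⟩
  let box : ℕ → (↥(J.erase j₀) → Fin 6) := fun k j => ⟨(6 * res k j.1 / p).toNat, by
    have h1 : 6 * res k j.1 / p < 6 := Int.ediv_lt_of_lt_mul hp (by linarith [(hres k j.1).2])
    omega⟩
  have hlt : Fintype.card (↥(J.erase j₀) → Fin 6) < Fintype.card (Fin p) := by
    rw [Fintype.card_fun, Fintype.card_fin, Fintype.card_fin, Fintype.card_coe,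
      Finset.card_erase_of_mem hj₀]
    exact lt_of_le_of_lt (Nat.pow_le_pow_right (by norm_num) (by omega)) hpd
  obtain ⟨a, b, hab, he⟩ := Fintype.exists_ne_map_eq_of_card_lt (fun k : Fin p => box k) hlt
  wlog hle : (a : ℕ) < b generalizing a b
  · exact this b a hab.symm he.symm
      (lt_of_le_of_ne (not_lt.1 hle) fun h => hab (Fin.ext h.symm))
  refine ⟨(b : ℕ) - a, by omega, by omega, fun j hj => ?_⟩
  rcases eq_or_ne j j₀ with rfl | hne
  · exact ⟨0, by simpa using hp, by simp⟩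
  refine ⟨res b j - res a j, ?_, ?_⟩
  · have h1 := congrArg Fin.val (congrFun he ⟨j, Finset.mem_erase.2 ⟨hne, hj⟩⟩)
    simp only [box] at h1
    have hq : ∀ k, 0 ≤ 6 * res k j / (p : ℤ) := fun k =>
      Int.ediv_nonneg (by linarith [(hres k j).1]) hp.le
    have h2 : 6 * res a j / (p : ℤ) = 6 * res b j / (p : ℤ) := by
      have := hq a; have := hq b; omega
    have ha := Int.mul_ediv_add_emod (6 * res a j) p
    have hb := Int.mul_ediv_add_emod (6 * res b j) p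
    have := Int.emod_nonneg (6 * res a j) hp.ne'
    have := Int.emod_nonneg (6 * res b j) hp.ne'
    have := Int.emod_lt_of_pos (6 * res a j) hp
    have := Int.emod_lt_of_pos (6 * res b j) hp
    rw [h2] at ha
    have h3 : |6 * (res b j - res a j)| < p := abs_lt.2 ⟨by linarith, by linarith⟩
    rwa [abs_mul, show |(6 : ℤ)| = 6 from rfl] at h3
  · rw [Nat.cast_sub hle.le]
    obtain ⟨u, hu⟩ := Int.dvd_self_sub_emod (x := ((j : ℤ) - j₀) * (b : ℕ)) (m := (p : ℤ))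
    obtain ⟨v, hv⟩ := Int.dvd_self_sub_emod (x := ((j : ℤ) - j₀) * (a : ℕ)) (m := (p : ℤ))
    exact ⟨u - v, by simp only [res]; linear_combination hu - hv⟩

/-- An element of prime order `p` with at most `d` eigenvalues, `6 ^ (d - 1) < p`, is impossible. -/
theorem false_of_few_eigenvalues [Finite G] [IsSimpleGroup G] (hnc : ∃ a b : G, a * b ≠ b * a)
    (hinj : Function.Injective ρ)
    (hirr : ∀ U : Submodule ℂ V, (∀ g, ∀ v ∈ U, ρ g v ∈ U) → U = ⊥ ∨ U = ⊤)
    {p d : ℕ} (hp : p.Prime) {x : G} (hx : orderOf x = p) {ζ : ℂ}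
    (hζ : ζ = Complex.exp (2 * Real.pi * Complex.I / p)) (J : Finset ℕ) (hJd : J.card ≤ d)
    (hpd : 6 ^ (d - 1) < p) {P : ℕ → V →ₗ[ℂ] V}
    (heig : ∀ j ∈ J, ∀ v, ρ x (P j v) = ζ ^ j • P j v)
    (hsum : ∀ v, v = ∑ j ∈ J, P j v) (hJp : ∀ j ∈ J, j < p)
    {j₀ : ℕ} (hj₀ : j₀ ∈ J) (hne : P j₀ ≠ 0) : False := by
  classical
  obtain ⟨t, ht0, htp, ht⟩ := exists_multiplier J hj₀ hJd hpd
  have hprim : IsPrimitiveRoot ζ p := hζ ▸ Complex.isPrimitiveRoot_exp p hp.ne_zero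
  have hζ0 : ζ ≠ 0 := hprim.ne_zero hp.ne_zero
  have hζn : ‖ζ‖ = 1 := Complex.norm_eq_one_of_pow_eq_one hprim.pow_eq_one hp.ne_zero
  set μ := (ζ ^ j₀) ^ t with hμ
  have hμn : ‖μ‖ = 1 := by rw [hμ, norm_pow, norm_pow, hζn, one_pow, one_pow]
  have heigt : ∀ (k : ℕ), ∀ j ∈ J, ∀ v, ρ (x ^ k) (P j v) = (ζ ^ j) ^ k • P j v := by
    intro k j hj v
    induction k with
    | zero => simp
    | succ k ih => rw [pow_succ', rho_mul, ih, map_smul, heig j hj, smul_smul, ← pow_succ]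
  -- the eigenvalues of `x ^ t` are near `μ`
  have hlt : ∀ j ∈ J, ‖(ζ ^ j) ^ t - μ‖ < 1 := by
    intro j hj
    obtain ⟨s, hs, k, hk⟩ := ht j hj
    have e : (ζ ^ j) ^ t = μ * ζ ^ s := by
      rw [hμ, ← pow_mul, ← pow_mul, ← zpow_natCast ζ (j * t), ← zpow_natCast ζ (j₀ * t),
        ← zpow_add₀ hζ0]
      have h1 : ((j * t : ℕ) : ℤ) = ((j₀ * t : ℕ) : ℤ) + s + (p : ℤ) * k := by
        push_cast; linear_combination hk
      rw [h1, zpow_add₀ hζ0 (((j₀ * t : ℕ) : ℤ) + s), zpow_mul, zpow_natCast ζ p,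
        hprim.pow_eq_one, one_zpow, mul_one]
    rw [e, show μ * ζ ^ s - μ = μ * (ζ ^ s - 1) by ring, norm_mul, hμn, one_mul]
    exact norm_root_sub_one_lt hp.pos hζ hs
  set r : ℝ := J.sup' ⟨j₀, hj₀⟩ fun j => ‖(ζ ^ j) ^ t - μ‖ with hr
  have hr1 : r < 1 := (Finset.sup'_lt_iff _).2 hlt
  have hrle : ∀ j ∈ J, ‖(ζ ^ j) ^ t - μ‖ ≤ r := fun j hj =>
    Finset.le_sup' (fun j => ‖(ζ ^ j) ^ t - μ‖) hj
  have hr0 : 0 ≤ r := le_trans (norm_nonneg _) (hrle j₀ hj₀)
  -- orthogonality of the components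
  have horth : ∀ i ∈ J, ∀ j ∈ J, i ≠ j → ∀ v w, ⟪P i v, P j w⟫_ℂ = 0 := by
    intro i hi j hj hij v w
    have h1 := hU x (P i v) (P j w)
    rw [heig i hi, heig j hj, inner_smul_left, inner_smul_right, ← mul_assoc] at h1
    by_contra hne'
    have h2 : conj (ζ ^ i) * ζ ^ j = 1 := mul_right_cancel₀ hne' (by rw [h1, one_mul])
    have h3 : ζ ^ i * conj (ζ ^ i) = 1 := by rw [Complex.mul_conj', norm_pow, hζn]; simp
    have h4 : ζ ^ i = ζ ^ j :=
      calc ζ ^ i = ζ ^ i * (conj (ζ ^ i) * ζ ^ j) := by rw [h2, mul_one]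
        _ = ζ ^ j := by rw [← mul_assoc, h3, one_mul]
    exact hij (hprim.pow_inj (hJp i hi) (hJp j hj) h4)
  have hpyth : ∀ c : ℕ → ℂ, ∀ v, ‖∑ j ∈ J, c j • P j v‖ ^ 2 = ∑ j ∈ J, ‖c j • P j v‖ ^ 2 := by
    intro c v
    have h : ∀ S : Finset ℕ, S ⊆ J →
        ‖∑ j ∈ S, c j • P j v‖ ^ 2 = ∑ j ∈ S, ‖c j • P j v‖ ^ 2 := by
      intro S
      induction S using Finset.induction_on with
      | empty => simp
      | insert a S ha ih =>
        intro hS
        rw [Finset.insert_subset_iff] at hS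
        rw [Finset.sum_insert ha, Finset.sum_insert ha]
        have h0 : ⟪c a • P a v, ∑ j ∈ S, c j • P j v⟫_ℂ = 0 := by
          rw [inner_sum]
          refine Finset.sum_eq_zero fun j hj => ?_
          rw [inner_smul_left, inner_smul_right,
            horth a hS.1 j (hS.2 hj) (fun e => ha (e ▸ hj)), mul_zero, mul_zero]
        rw [sq, norm_add_sq_eq_norm_sq_add_norm_sq_of_inner_eq_zero _ _ h0, ← sq, ← sq, ih hS.2]
    exact h J subset_rfl
  have hnear : ∀ v, ‖ρ (x ^ t) v - μ • v‖ ≤ r * ‖v‖ := by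
    intro v
    have e : ρ (x ^ t) v - μ • v = ∑ j ∈ J, ((ζ ^ j) ^ t - μ) • P j v := by
      conv_lhs => rw [hsum v]
      rw [map_sum, Finset.smul_sum, ← Finset.sum_sub_distrib]
      exact Finset.sum_congr rfl fun j hj => by rw [heigt t j hj, sub_smul]
    have e2 : ‖v‖ ^ 2 = ∑ j ∈ J, ‖P j v‖ ^ 2 := by
      conv_lhs => rw [hsum v]
      simpa using hpyth (fun _ => 1) v
    refine (pow_le_pow_iff_left₀ (norm_nonneg _) (mul_nonneg hr0 (norm_nonneg _))
      two_ne_zero).1 ?_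
    rw [mul_pow, e, hpyth, e2, Finset.mul_sum]
    refine Finset.sum_le_sum fun j hj => ?_
    rw [norm_smul, mul_pow]
    exact mul_le_mul_of_nonneg_right (pow_le_pow_left₀ (norm_nonneg _) (hrle j hj) 2) (sq_nonneg _)
  obtain ⟨v, hv⟩ : ∃ v, P j₀ v ≠ 0 := by
    by_contra h
    push Not at h
    exact hne (LinearMap.ext h)
  refine not_near ρ hU hnc hinj hirr (x := x ^ t) ?_ hμn hr0 hr1 hnear hv (heigt t j₀ hj₀ v)
  exact pow_ne_one_of_lt_orderOf (by omega) (hx ▸ htp)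

end CfsgLib.CharDeep.BlichfeldtSixty
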