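import Cfsg.Agent.Lib.CharDeep.DetExt
import Cfsg.Agent.Lib.Char.Constituent
import Cfsg.Agent.Lib.Fusion.Basic
import Cfsg.Agent.Lib.Blocks.BrauerMap
import Cfsg.Agent.Lib.Blocks.Eigen
import Cfsg.Agent.Lib.DegreeTools.Basic
import Cfsg.Agent.S0887

/-!
# Thompson's congruence and normal `p`-complement criterion
-/

namespace CfsgLib.CharDeep.Thompson

open Module CfsgLib CfsgLib.CharDeep
open scoped ComplexConjugate

variable {G : Type*} [Group G]

/-- The determinantal order through any representation affording the character. -/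
theorem detOrder_eq [Finite G] {W : Type*} [AddCommGroup W] [Module ℂ W] [FiniteDimensional ℂ W]
    (σ : Representation ℂ G W) [σ.IsIrreducible] :
    Cfsg.detOrder σ.character = orderOf (DetExt.detHom σ) := by
  let ι : (G →* ℂˣ) →* (G → ℂ) :=
    { toFun := fun f g => (f g : ℂ), map_one' := funext fun g => by simp
      map_mul' := fun f f' => funext fun g => by simp }
  rw [Cfsg.detOrder, DetExt.detChar_character σ]
  exact orderOf_injective ι (fun f f' h => MonoidHom.ext fun g => Units.ext (congrFun h g))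
    (DetExt.detHom σ)

/-- The good characters: degree and determinantal order prime to `p`. -/
def Good (p : ℕ) (χ : Cfsg.IrrCharacter G) : Prop :=
  ¬ p ∣ Cfsg.charDegree (χ : G → ℂ) ∧ ¬ p ∣ Cfsg.detOrder (χ : G → ℂ)

variable [Fintype G] {p : ℕ}

theorem pow_ordCompl_hom (p : ℕ) [Fact p.Prime] (f : (Cfsg.pResidual p G) →* ℂˣ)
    (x : Cfsg.pResidual p G) : f x ^ (Nat.card G / p ^ (Nat.card G).factorization p) = 1 := by
  set n' := Nat.card G / p ^ (Nat.card G).factorization p
  obtain ⟨x, hx⟩ := x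
  suffices h : ∀ hx : x ∈ Cfsg.pResidual p G, f ⟨x, hx⟩ ^ n' = 1 from h hx
  induction hx using Subgroup.closure_induction with
  | mem y hy =>
    intro hy'
    rw [← map_pow, show (⟨y, hy'⟩ : Cfsg.pResidual p G) ^ n' = 1 from Subtype.ext ?_, map_one]
    show y ^ n' = 1
    refine orderOf_dvd_iff_pow_eq_one.1 ?_
    have h1 : orderOf y ∣ p ^ (Nat.card G).factorization p * n' := by
      rw [Nat.ordProj_mul_ordCompl_eq_self]; exact orderOf_dvd_natCard y
    exact (Nat.Coprime.pow_right _ (show Nat.Coprime (orderOf y) p from hy)).dvd_of_dvd_mul_left h1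
  | one => intro h; rw [show (⟨1, h⟩ : Cfsg.pResidual p G) = 1 from rfl, map_one, one_pow]
  | mul a b ha hb iha ihb =>
    intro h
    rw [show (⟨a * b, h⟩ : Cfsg.pResidual p G) = ⟨a, ha⟩ * ⟨b, hb⟩ from rfl, map_mul, mul_pow,
      iha ha, ihb hb, one_mul]
  | inv a ha iha =>
    intro h
    rw [show (⟨a⁻¹, h⟩ : Cfsg.pResidual p G) = ⟨a, ha⟩⁻¹ from rfl, map_inv, inv_pow, iha ha,
      inv_one]

theorem not_dvd_ordCompl (G : Type*) [Group G] [Finite G] (p : ℕ) [Fact p.Prime] :
    ¬ p ∣ Nat.card G / p ^ (Nat.card G).factorization p :=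
  Nat.not_dvd_ordCompl Fact.out Nat.card_pos.ne'

variable (G) in
/-- The restriction map from good characters onto invariant characters of `O^p` of degree prime to
`p` is a degree-preserving bijection. -/
theorem exists_equiv (p : ℕ) [Fact p.Prime] [hN : (Cfsg.pResidual p G).Normal] :
    ∃ e : {χ : Cfsg.IrrCharacter G // Good p χ} ≃
      {θ : Cfsg.IrrCharacter (Cfsg.pResidual p G) //
        (∀ (g : G) (n : Cfsg.pResidual p G), (θ : Cfsg.pResidual p G → ℂ)
          ⟨g * n * g⁻¹, hN.conj_mem n n.2 g⟩ = (θ : Cfsg.pResidual p G → ℂ) n) ∧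
        ¬ p ∣ Cfsg.charDegree (θ : Cfsg.pResidual p G → ℂ)},
      ∀ χ, Cfsg.charDegree ((χ.1 : Cfsg.IrrCharacter G) : G → ℂ) =
        Cfsg.charDegree ((e χ).1 : Cfsg.pResidual p G → ℂ) := by
  classical
  have hp : p.Prime := Fact.out
  obtain ⟨k, hk⟩ := CfsgLib.Fusion.Basic.exists_index_pResidual (G := G) (p := p)
  set N := Cfsg.pResidual p G
  haveI := Fintype.ofFinite N
  -- restriction
  have hres : ∀ χ : Cfsg.IrrCharacter G, ¬ p ∣ Cfsg.charDegree (χ : G → ℂ) →
      Cfsg.IsIrrCharacter N (fun n : N => (χ : G → ℂ) n) := by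
    intro χ hχ
    have hc := Char.IsCharacter.restrict (Char.isCharacter_irr χ) N
    obtain ⟨θ, hθ, hθne⟩ := Char.IsCharacter.exists_constituent hc fun h =>
      Char.IsIrrCharacter.apply_one_ne_zero χ.2 (congrFun h 1)
    obtain ⟨a, b, ha, hb, -, heq⟩ := Char.IsCharacter.constituent_degree_le hc hθ hθne
    have hbd : b = Cfsg.charDegree (χ : G → ℂ) := by
      have := DegreeTools.deg_cast χ
      rw [show (χ : G → ℂ) 1 = (b : ℂ) from hb] at this
      exact_mod_cast this.symm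
    obtain ⟨hab, hdiv⟩ := Cfsg.Agent.S0887.result N (χ : G → ℂ) χ.2 θ hθ hθne b a hb ha
    rw [hk] at hdiv
    obtain ⟨i, -, hi⟩ := (Nat.dvd_prime_pow hp).1 hdiv
    have hab' : a = b := by
      rcases i with _ | i
      · have := Nat.div_mul_cancel hab
        rw [hi, pow_zero, one_mul] at this
        exact this
      · exfalso
        refine hχ (hbd ▸ ?_)
        rw [← Nat.div_mul_cancel hab, hi, pow_succ]
        exact Dvd.dvd.mul_right (dvd_mul_left p _) a
    have : (fun n : N => (χ : G → ℂ) n) = θ := heq hab'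
    rw [this]; exact hθ
  let f : {χ : Cfsg.IrrCharacter G // Good p χ} →
      {θ : Cfsg.IrrCharacter N //
        (∀ (g : G) (n : N), (θ : N → ℂ) ⟨g * n * g⁻¹, hN.conj_mem n n.2 g⟩ = (θ : N → ℂ) n) ∧
        ¬ p ∣ Cfsg.charDegree (θ : N → ℂ)} := fun χ =>
    ⟨⟨fun n : N => (χ.1 : G → ℂ) n, hres χ.1 χ.2.1⟩,
      fun g n => Char.IsIrrCharacter.isClassFunction χ.1.2 (n : G) g, χ.2.1⟩
  have hinj : Function.Injective f := by
    intro χ χ' h
    have hres' : ∀ n : N, (χ.1 : G → ℂ) n = (χ'.1 : G → ℂ) n := fun n =>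
      congrFun (congrArg (fun θ => ((θ : {θ : Cfsg.IrrCharacter N // _}).1 : N → ℂ)) h) n
    obtain ⟨dθ, ρ, hρ, hρc⟩ := hres χ.1 χ.2.1
    have : ρ.IsIrreducible := hρ
    obtain ⟨d, σ, hσ, hσc⟩ := χ.1.2
    have : σ.IsIrreducible := hσ
    obtain ⟨d', σ', hσ', hσc'⟩ := χ'.1.2
    have : σ'.IsIrreducible := hσ'
    have h1 : ∀ n : N, σ.character n = ρ.character n := fun n => by rw [hσc, hρc]
    have h1' : ∀ n : N, σ'.character n = ρ.character n := fun n => by
      rw [hσc', hρc]; exact (hres' n).symm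
    have hdet : ∀ (m : ℕ) (τ : Representation ℂ G (Fin m → ℂ)),
        (∀ n : N, τ.character n = ρ.character n) →
          ∀ n : N, DetExt.detHom τ n = DetExt.detHom ρ n := by
      intro m τ hτ n
      obtain ⟨φ⟩ := IrrTools.nonempty_equiv_of_character_eq ρ (τ.comp N.subtype) (funext hτ)
      refine Units.ext ?_
      rw [DetExt.coe_detHom, DetExt.coe_detHom, ← LinearMap.det_conj (ρ n) φ.toLinearEquiv]
      congr 1
      refine LinearMap.ext fun v => ?_
      have h2 := LinearMap.congr_fun (φ.toIntertwiningMap.isIntertwining' n)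
        (φ.toLinearEquiv.symm v)
      simp only [LinearMap.coe_comp, LinearEquiv.coe_coe, Function.comp_apply] at h2 ⊢
      refine Eq.trans ?_ h2.symm
      show τ (n : G) v = (τ.comp N.subtype) n (φ.toLinearEquiv (φ.toLinearEquiv.symm v))
      rw [LinearEquiv.apply_symm_apply]
      rfl
    have hμ : DetExt.detHom σ' = DetExt.detHom σ := by
      refine MonoidHom.ext fun g => ?_
      set δ := DetExt.detHom σ' * (DetExt.detHom σ)⁻¹ with hδdef
      have hδN : ∀ n : N, δ n = 1 := fun n => by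
        rw [hδdef, MonoidHom.mul_apply, MonoidHom.inv_apply, hdet _ σ' h1', hdet _ σ h1,
          mul_inv_cancel]
      have hpow := DetExt.pow_index_eq_one δ hδN g
      rw [hk] at hpow
      have ho : (δ g) ^ (orderOf (DetExt.detHom σ') * orderOf (DetExt.detHom σ)) = 1 := by
        rw [hδdef, MonoidHom.mul_apply, MonoidHom.inv_apply, mul_pow, inv_pow,
          show (DetExt.detHom σ' g) ^ (orderOf (DetExt.detHom σ') * orderOf (DetExt.detHom σ)) = 1
            by rw [pow_mul, ← MonoidHom.pow_apply, pow_orderOf_eq_one, MonoidHom.one_apply, one_pow],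
          show (DetExt.detHom σ g) ^ (orderOf (DetExt.detHom σ') * orderOf (DetExt.detHom σ)) = 1
            by rw [mul_comm, pow_mul, ← MonoidHom.pow_apply, pow_orderOf_eq_one,
              MonoidHom.one_apply, one_pow]]
        simp
      have hcop : Nat.Coprime (p ^ k) (orderOf (DetExt.detHom σ') * orderOf (DetExt.detHom σ)) := by
        refine Nat.Coprime.pow_left _ (hp.coprime_iff_not_dvd.2 fun hd => ?_)
        rcases hp.dvd_mul.1 hd with hd | hd
        · rw [← detOrder_eq σ', hσc'] at hd; exact χ'.2.2 hd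
        · rw [← detOrder_eq σ, hσc] at hd; exact χ.2.2 hd
      have h3 := Nat.dvd_gcd (orderOf_dvd_of_pow_eq_one hpow) (orderOf_dvd_of_pow_eq_one ho)
      rw [hcop.gcd_eq_one, Nat.dvd_one, orderOf_eq_one_iff, hδdef, MonoidHom.mul_apply,
        MonoidHom.inv_apply, mul_inv_eq_one] at h3
      exact h3
    have hdeg : N.index.Coprime (finrank ℂ (Fin dθ → ℂ)) := by
      rw [hk, Module.finrank_fin_fun]
      refine Nat.Coprime.pow_left _ (hp.coprime_iff_not_dvd.2 fun hd => χ.2.1 ?_)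
      have e1 : (Cfsg.charDegree (χ.1 : G → ℂ) : ℂ) = (dθ : ℂ) := by
        rw [DegreeTools.deg_cast]
        have h4 := congrFun hρc 1
        rw [Representation.char_one, Module.finrank_fin_fun] at h4
        rw [h4]; rfl
      have e2 : Cfsg.charDegree (χ.1 : G → ℂ) = dθ := by exact_mod_cast e1
      rw [e2]; exact hd
    have hinv : ProjExt.Invariant ρ := fun g n => by
      rw [← h1, ← h1, hσc]
      simpa using Char.IsIrrCharacter.isClassFunction χ.1.2 (n : G) g
    obtain ⟨σ₀, hσ₀, hdet₀⟩ :=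
      DetExt.exists_extension_det ρ hinv hdeg (DetExt.detHom σ) (hdet _ σ h1)
    have e1 := DetExt.character_eq_of_det_eq ρ hdeg σ₀ hσ₀ σ h1 hdet₀.symm
    have e2 := DetExt.character_eq_of_det_eq ρ hdeg σ₀ hσ₀ σ' h1' (hμ.trans hdet₀.symm)
    exact Subtype.ext (Subtype.ext (by rw [← hσc, ← hσc', e1, e2]))
  have hsurj : Function.Surjective f := by
    rintro ⟨⟨θ, dθ, ρ, hρ, hρc⟩, hinv, hθp⟩
    have : ρ.IsIrreducible := hρ
    have hdθ : Cfsg.charDegree θ = dθ := by
      have h := DegreeTools.deg_cast (⟨θ, dθ, ρ, hρ, hρc⟩ : Cfsg.IrrCharacter N)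
      have h4 := congrFun hρc 1
      rw [Representation.char_one, Module.finrank_fin_fun] at h4
      have h' : (Cfsg.charDegree θ : ℂ) = θ 1 := h
      rw [← h4] at h'
      exact_mod_cast h'
    have hdp : ¬ p ∣ dθ := by
      intro h
      refine hθp ?_
      show p ∣ Cfsg.charDegree θ
      rw [hdθ]; exact h
    have hcop : N.index.Coprime (finrank ℂ (Fin dθ → ℂ)) := by
      rw [hk, Module.finrank_fin_fun]
      exact Nat.Coprime.pow_left _ (hp.coprime_iff_not_dvd.2 hdp)
    have hinv : ∀ (g : G) (n : N), θ ⟨g * n * g⁻¹, hN.conj_mem n n.2 g⟩ = θ n := hinv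
    have hInv : ProjExt.Invariant ρ := fun g n => by
      rw [hρc, ← hinv g n]
      exact congrArg θ (Subtype.ext (by simp))
    set μ₀ := DetExt.detHom ρ
    set n' := Nat.card G / p ^ (Nat.card G).factorization p
    have hμinv : ∀ (g : G) (n : N), μ₀ ⟨g * n * g⁻¹, hN.conj_mem n n.2 g⟩ = μ₀ n := by
      intro g n
      obtain ⟨γ, hγ⟩ := ProjExt.proj_surjective ρ hInv g
      have h := congrArg LinearMap.det (ProjExt.lin_mul ρ γ n)
      rw [map_mul, map_mul, ProjExt.det_lin, one_mul, mul_one, hγ] at h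
      refine Units.ext ?_
      rw [DetExt.coe_detHom, DetExt.coe_detHom, h]
      exact congrArg (fun m => LinearMap.det (ρ m)) (Subtype.ext (by simp))
    have : N.FiniteIndex := ⟨Subgroup.index_ne_zero_of_finite⟩
    set T := MonoidHom.transfer μ₀
    have hT : ∀ n : N, T (n : G) = μ₀ n ^ N.index := fun n =>
      CentralExt.transfer_eq_pow_index le_rfl μ₀ hμinv μ₀ (fun _ _ => rfl) n
    obtain ⟨a, b, hab⟩ := Nat.Coprime.isCoprime
      (Nat.Coprime.pow_left k (hp.coprime_iff_not_dvd.2 (not_dvd_ordCompl G p)) :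
        Nat.Coprime (p ^ k) n')
    have hμn : ∀ n : N, μ₀ n ^ (n' : ℤ) = 1 := fun n => by
      rw [zpow_natCast]; exact pow_ordCompl_hom p μ₀ n
    set μ : G →* ℂˣ := (zpowGroupHom (a * a * (p ^ k : ℕ))).comp T with hμdef
    have hμN : ∀ n : N, μ n = μ₀ n := by
      intro n
      rw [hμdef, MonoidHom.comp_apply, zpowGroupHom_apply, hT, hk, ← zpow_natCast, ← zpow_mul]
      conv_rhs => rw [← zpow_one (μ₀ n)]
      have hsq : ((p ^ k : ℕ) : ℤ) * (a * a * ((p ^ k : ℕ) : ℤ)) =
          1 + (n' : ℤ) * (-b * (1 + a * ((p ^ k : ℕ) : ℤ))) := by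
        linear_combination (1 + a * ((p ^ k : ℕ) : ℤ)) * hab
      rw [hsq, zpow_add, zpow_mul _ (n' : ℤ), hμn, one_zpow, mul_one]
    have hμord : μ ^ n' = 1 := by
      refine MonoidHom.ext fun g => ?_
      have hT' : ∀ n : N, (T ^ n') n = 1 := fun n => by
        rw [MonoidHom.pow_apply, hT, ← pow_mul, mul_comm, pow_mul, pow_ordCompl_hom p μ₀ n, one_pow]
      have h1 := DetExt.pow_index_eq_one (T ^ n') hT' g
      rw [hk, MonoidHom.pow_apply] at h1
      rw [MonoidHom.pow_apply, MonoidHom.one_apply, hμdef, MonoidHom.comp_apply,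
        zpowGroupHom_apply, ← zpow_natCast, ← zpow_mul,
        show a * a * ((p ^ k : ℕ) : ℤ) * (n' : ℤ) = ((n' * p ^ k : ℕ) : ℤ) * (a * a) by
          push_cast; ring, zpow_mul, zpow_natCast, pow_mul, h1, one_zpow]
    obtain ⟨σ, hσ, hdetσ⟩ := DetExt.exists_extension_det ρ hInv hcop μ hμN
    have := DetExt.isIrreducible_of_extends ρ σ hσ
    let χ : Cfsg.IrrCharacter G := ⟨σ.character, IrrTools.isIrrCharacter_character σ⟩
    have hres1 : ∀ n : N, (χ : G → ℂ) n = θ n := fun n => by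
      rw [← congrFun hρc n]
      exact congrArg (LinearMap.trace ℂ _) (hσ n)
    have hgood : Good p χ := by
      refine ⟨?_, ?_⟩
      · have h2 := DegreeTools.deg_cast χ
        have h3 := hres1 1
        rw [OneMemClass.coe_one] at h3
        rw [h3, ← congrFun hρc 1, Representation.char_one, Module.finrank_fin_fun] at h2
        intro h
        exact hdp ((by exact_mod_cast h2 : Cfsg.charDegree (χ : G → ℂ) = dθ) ▸ h)
      · intro h
        rw [show (χ : G → ℂ) = σ.character from rfl, detOrder_eq σ, hdetσ] at h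
        exact not_dvd_ordCompl G p (h.trans (orderOf_dvd_of_pow_eq_one hμord))
    exact ⟨⟨χ, hgood⟩, Subtype.ext (Subtype.ext (funext hres1))⟩
  exact ⟨Equiv.ofBijective f ⟨hinj, hsurj⟩, fun χ => rfl⟩

open scoped Classical in
/-- Thompson's congruence. -/
theorem card_pResidual_congr (p : ℕ) [Fact p.Prime] :
    (p : ℤ) ∣ (Nat.card (Cfsg.pResidual p G) : ℤ) -
      ∑ χ : {χ : Cfsg.IrrCharacter G // Good p χ},
        (Cfsg.charDegree ((χ.1 : Cfsg.IrrCharacter G) : G → ℂ) : ℤ) ^ 2 := by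
  have hp : p.Prime := Fact.out
  set N := Cfsg.pResidual p G with hNdef
  have hN : N.Normal := CfsgLib.Fusion.Basic.pResidual_normal
  haveI := Fintype.ofFinite N
  obtain ⟨e, he⟩ := exists_equiv G p
  obtain ⟨M, hM⟩ := CfsgLib.Blocks.exists_isPModular hp
  obtain ⟨k, hk⟩ := CfsgLib.Fusion.Basic.exists_index_pResidual (G := G) (p := p)
  let σ : G →* MulAut N := MulAut.conjNormal
  let act : G →* Equiv.Perm (Cfsg.IrrCharacter N) :=
    { toFun := fun g =>
        { toFun := fun ψ => ⟨(ψ : N → ℂ) ∘ σ g⁻¹,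
            Char.IsIrrCharacter.comp_surjective ψ.2 (σ g⁻¹).toMonoidHom (σ g⁻¹).surjective⟩
          invFun := fun ψ => ⟨(ψ : N → ℂ) ∘ σ g,
            Char.IsIrrCharacter.comp_surjective ψ.2 (σ g).toMonoidHom (σ g).surjective⟩
          left_inv := fun ψ => Subtype.ext (funext fun x => by simp)
          right_inv := fun ψ => Subtype.ext (funext fun x => by simp) }
      map_one' := Equiv.ext fun ψ => Subtype.ext (funext fun x => by simp)
      map_mul' := fun g h => Equiv.ext fun ψ => Subtype.ext (funext fun x => by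
        simp [mul_inv_rev, MulAut.mul_apply]) }
  have hP : IsPGroup p act.range := by
    have h1 : act.ker.index ∣ p ^ k := hk ▸ Subgroup.index_dvd_of_le (fun n hn => by
      refine Equiv.ext fun ψ => Subtype.ext (funext fun x => ?_)
      show (ψ : N → ℂ) (σ n⁻¹ x) = (ψ : N → ℂ) x
      rw [← Char.IsIrrCharacter.isClassFunction ψ.2 x ⟨n⁻¹, N.inv_mem hn⟩]
      exact congrArg (ψ : N → ℂ) (Subtype.ext (by simp [σ])))
    obtain ⟨i, -, hi⟩ := (Nat.dvd_prime_pow hp).1 h1
    exact IsPGroup.of_card (n := i) (by rw [← Subgroup.index_ker, hi])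
  let F : Cfsg.IrrCharacter N → ℂ := fun ψ => ((Cfsg.charDegree (ψ : N → ℂ) : ℕ) : ℂ) ^ 2
  have hinv : ∀ (u : act.range) ψ, F (u • ψ) = F ψ := by
    rintro ⟨_, g, rfl⟩ ψ
    show ((Cfsg.charDegree ((ψ : N → ℂ) ∘ σ g⁻¹) : ℕ) : ℂ) ^ 2 = F ψ
    simp only [F, Cfsg.charDegree, Function.comp_apply, map_one]
  have hsum := CfsgLib.Blocks.sum_congr_fixedPoints hM hP F
    (fun ψ => CfsgLib.Blocks.LR.pow hM (CfsgLib.Blocks.LR.natCast hM _) 2) hinv
  have hfix : ∀ ψ : Cfsg.IrrCharacter N,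
      ψ ∈ MulAction.fixedPoints act.range (Cfsg.IrrCharacter N) ↔
        ∀ (g : G) (n : N), (ψ : N → ℂ) ⟨g * n * g⁻¹, hN.conj_mem n n.2 g⟩ = (ψ : N → ℂ) n := by
    intro ψ
    constructor
    · intro h g n
      have h1 := congrArg Subtype.val (h ⟨act g⁻¹, g⁻¹, rfl⟩)
      have h2 : (ψ : N → ℂ) (σ g⁻¹⁻¹ n) = (ψ : N → ℂ) n := congrFun h1 n
      rw [← h2]
      exact congrArg (ψ : N → ℂ) (Subtype.ext (by simp [σ]))
    · rintro h ⟨_, g, rfl⟩
      refine Subtype.ext (funext fun n => ?_)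
      show (ψ : N → ℂ) (σ g⁻¹ n) = (ψ : N → ℂ) n
      rw [← h g⁻¹ n]
      exact congrArg (ψ : N → ℂ) (Subtype.ext (by simp [σ]))
  have htot : ∑ ψ, F ψ = (Nat.card N : ℂ) := by
    rw [← Char.sum_sq_apply_one]
    exact Finset.sum_congr rfl fun ψ _ => by rw [← DegreeTools.deg_cast]
  rw [htot] at hsum
  have hgood : ∑ χ : {χ : Cfsg.IrrCharacter G // Good p χ},
      ((Cfsg.charDegree ((χ.1 : Cfsg.IrrCharacter G) : G → ℂ) : ℕ) : ℂ) ^ 2 =
      ∑ ψ with ψ ∈ MulAction.fixedPoints act.range (Cfsg.IrrCharacter N) ∧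
        ¬ p ∣ Cfsg.charDegree (ψ : N → ℂ), F ψ := by
    rw [Fintype.sum_equiv e _ (fun θ => F θ.1) fun χ => by simp only [F, he χ]]
    exact (Finset.sum_subtype _ (fun ψ => by simp [hfix, N]) _).symm
  have hrest : Cfsg.MemLocalIdeal M
      (∑ ψ with ψ ∈ MulAction.fixedPoints act.range (Cfsg.IrrCharacter N), F ψ -
        ∑ ψ with ψ ∈ MulAction.fixedPoints act.range (Cfsg.IrrCharacter N) ∧
          ¬ p ∣ Cfsg.charDegree (ψ : N → ℂ), F ψ) := by
    rw [← Finset.sum_filter_add_sum_filter_not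
      (Finset.univ.filter fun ψ => ψ ∈ MulAction.fixedPoints act.range (Cfsg.IrrCharacter N))
      (fun ψ => ¬ p ∣ Cfsg.charDegree (ψ : N → ℂ)), Finset.filter_filter, add_sub_cancel_left]
    refine CfsgLib.Blocks.LI.sum hM fun ψ hψ => ?_
    have hd : p ∣ Cfsg.charDegree (ψ : N → ℂ) := by
      simpa using (Finset.mem_filter.1 hψ).2
    simp only [F, sq]
    exact CfsgLib.Blocks.LI.mul_right hM ((CfsgLib.Blocks.LI.natCast_iff hM _).2 hd)
      (CfsgLib.Blocks.LR.natCast hM _)
  have h := CfsgLib.Blocks.LI.add hM hsum hrest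
  rw [sub_add_sub_cancel, ← hgood] at h
  refine (CfsgLib.Blocks.LI.intCast_iff hM _).1 ?_
  push_cast
  exact h

end CfsgLib.CharDeep.Thompson
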