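import Cfsg.Agent.S4364
import Cfsg.Agent.Lib.PGroup.FrobeniusCount
import Cfsg.Agent.Lib.PGroup.Frattini
import Cfsg.Agent.Lib.Solvable.Cores
import Cfsg.Agent.Lib.Coprime.Action
import Cfsg.Agent.Lib.Components.SFT.Criterion
import Cfsg.Agent.Lib.Components.PComponents
import Cfsg.Agent.Lib.Coprime.PrimePowerOrbits.Main

/-!
Baer's theorem: if every `q`-element has a conjugacy class of prime power size, one prime serves for
all of them and the group is `q`-solvable of `q`-length one.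
-/

set_option autoImplicit false
set_option linter.style.haveILetI false

universe u

namespace CfsgLib.CharDeep.BaerQClass

variable {G : Type u} [Group G] [Finite G]

/-- The class size. -/
noncomputable abbrev idx (x : G) : ℕ := (Subgroup.centralizer ({x} : Set G)).index

theorem idx_conj (g x : G) : idx (g * x * g⁻¹) = idx x := by
  have h : Subgroup.centralizer ({g * x * g⁻¹} : Set G) =
      (Subgroup.centralizer ({x} : Set G)).map (MulAut.conj g).toMonoidHom := by
    ext z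
    rw [Subgroup.mem_map_equiv, Subgroup.mem_centralizer_singleton_iff, Subgroup.mem_centralizer_singleton_iff,
      MulAut.conj_symm_apply]
    constructor
    · intro h
      calc g⁻¹ * z * g * x = g⁻¹ * (z * (g * x * g⁻¹)) * g := by group
        _ = x * (g⁻¹ * z * g) := by rw [h]; group
    · intro h
      calc z * (g * x * g⁻¹) = g * (g⁻¹ * z * g * x) * g⁻¹ := by group
        _ = g * x * g⁻¹ * z := by rw [h]; group
  rw [idx, h]
  exact Subgroup.index_map_of_bijective (MulAut.conj g).bijective _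

theorem idx_map_dvd {H : Type*} [Group H] (f : G →* H) (hf : Function.Surjective f) (x : G) :
    (Subgroup.centralizer ({f x} : Set H)).index ∣ idx x := by
  have hle : (Subgroup.centralizer ({x} : Set G)).map f ≤ Subgroup.centralizer ({f x} : Set H) := by
    rintro _ ⟨z, hz, rfl⟩
    rw [Subgroup.mem_centralizer_singleton_iff, ← map_mul, ← map_mul,
      Subgroup.mem_centralizer_singleton_iff.1 hz]
  exact (Subgroup.index_dvd_of_le hle).trans (Subgroup.index_map_dvd _ hf)

theorem eq_one_of_orderOf_dvd {p q a b : ℕ} (hp : p.Prime) (hq : q.Prime) (hpq : p ≠ q) {x : G}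
    (h1 : orderOf x ∣ p ^ a) (h2 : orderOf x ∣ q ^ b) : x = 1 :=
  orderOf_eq_one_iff.1 (Nat.eq_one_of_dvd_coprimes (Nat.Coprime.pow a b ((Nat.coprime_primes hp hq).2 hpq)) h1 h2)

theorem exists_orderOf {q : ℕ} (hq : q.Prime) {x : G} {k : ℕ} (h : x ^ q ^ k = 1) :
    ∃ j, orderOf x = q ^ j :=
  ((Nat.dvd_prime_pow hq).1 (orderOf_dvd_of_pow_eq_one h)).imp fun _ hj => hj.2

/-- A `q`-element whose conjugates commute lies in `O_q`. -/
theorem mem_pCore_of_commute {q : ℕ} {x : G} (hx : ∃ k, x ^ q ^ k = 1)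
    (hc : ∀ g h : G, Commute (g * x * g⁻¹) (h * x * h⁻¹)) : x ∈ Cfsg.pCore q G := by
  set N := Subgroup.normalClosure ({x} : Set G) with hN
  haveI : N.Normal := Subgroup.normalClosure_normal
  have hgen : ∀ y ∈ Group.conjugatesOfSet ({x} : Set G), ∃ g, g * x * g⁻¹ = y := by
    intro y hy
    obtain ⟨a, ha, hay⟩ := Group.mem_conjugatesOfSet_iff.1 hy
    rw [Set.mem_singleton_iff.1 ha] at hay
    exact isConj_iff.1 hay
  have hab : ∀ a ∈ N, ∀ b ∈ N, Commute a b := by
    have h1 : N ≤ Subgroup.centralizer (Group.conjugatesOfSet ({x} : Set G)) := by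
      refine (Subgroup.closure_le _).2 fun y hy => Subgroup.mem_centralizer_iff.2 fun w hw => ?_
      obtain ⟨g, rfl⟩ := hgen y hy
      obtain ⟨h, rfl⟩ := hgen w hw
      exact (hc h g).eq
    intro a ha b hb
    have h2 : N ≤ Subgroup.centralizer (N : Set G) := by
      refine (Subgroup.closure_le _).2 fun y hy => Subgroup.mem_centralizer_iff.2 fun w hw => ?_
      exact (Subgroup.mem_centralizer_iff.1 (h1 hw) y hy).symm
    exact (Subgroup.mem_centralizer_iff.1 (h2 hb) a ha)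
  refine CfsgLib.Solvable.Cores.le_pCore (N := N) (fun y => ?_) (Subgroup.subset_normalClosure rfl)
  obtain ⟨k, hk⟩ := hx
  refine ⟨k, Subtype.ext ?_⟩
  have hy := y.2
  rw [Subgroup.coe_pow, Subgroup.coe_one]
  refine (Subgroup.closure_induction (k := Group.conjugatesOfSet ({x} : Set G))
    (p := fun z hz => z ^ q ^ k = 1) ?_ (one_pow _) ?_ ?_ hy)
  · intro z hz
    obtain ⟨g, rfl⟩ := hgen z hz
    rw [conj_pow, hk, mul_one, mul_inv_cancel]
  · intro a b ha hb h1 h2
    rw [(hab a ha b hb).mul_pow, h1, h2, one_mul]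
  · intro a _ h1
    rw [inv_pow, h1, inv_one]

variable {q : ℕ} [hq : Fact q.Prime]

theorem mem_pCore_quotient {r : ℕ} [Fact r.Prime] {x : G} (hx : ∃ k, x ^ q ^ k = 1) {a : ℕ}
    (ha : idx x = r ^ a) :
    (QuotientGroup.mk x : G ⧸ Cfsg.pCore r G) ∈ Cfsg.pCore q (G ⧸ Cfsg.pCore r G) := by
  refine mem_pCore_of_commute (hx.imp fun k hk => by rw [← QuotientGroup.mk_pow, hk]; rfl) fun g h => ?_
  induction g using QuotientGroup.induction_on with
  | H g =>
    induction h using QuotientGroup.induction_on with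
    | H h =>
      have h1 := Cfsg.Agent.S4364.result r x ⟨a, ha⟩ g h
      rw [← QuotientGroup.eq_one_iff] at h1
      simp only [QuotientGroup.mk_mul, QuotientGroup.mk_inv] at h1
      rw [mul_inv_eq_one, mul_inv_eq_iff_eq_mul] at h1
      exact h1

theorem mem_pCore_of_idx {x : G} (hx : ∃ k, x ^ q ^ k = 1) {a : ℕ} (ha : idx x = q ^ a) :
    x ∈ Cfsg.pCore q G := by
  have h := mem_pCore_quotient (r := q) hx ha
  rw [CfsgLib.Components.SFT.pCore_quotient_eq_bot q G, Subgroup.mem_bot] at h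
  exact (QuotientGroup.eq_one_iff x).1 h

/-- Every `q`-element maps into `O_q (G / O_{q'}(G))`. -/
theorem mk_mem_pCore (hB : ∀ x : G, (∃ k, orderOf x = q ^ k) → ∃ r a : ℕ, r.Prime ∧ idx x = r ^ a)
    [(Cfsg.pPrimeCore q G).Normal] {x : G} (hx : ∃ k, orderOf x = q ^ k) :
    (QuotientGroup.mk x : G ⧸ Cfsg.pPrimeCore q G) ∈ Cfsg.pCore q (G ⧸ Cfsg.pPrimeCore q G) := by
  have hx' : ∃ k, x ^ q ^ k = 1 := hx.imp fun k hk => by rw [← hk, pow_orderOf_eq_one]
  obtain ⟨r, a, hr, ha⟩ := hB x hx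
  haveI := Fact.mk hr
  by_cases hrq : r = q
  · subst hrq
    haveI : ((Cfsg.pCore r G).map (QuotientGroup.mk' (Cfsg.pPrimeCore r G))).Normal :=
      (CfsgLib.Solvable.Cores.pCore_normal r).map _ (QuotientGroup.mk'_surjective _)
    exact CfsgLib.Solvable.Cores.le_pCore ((CfsgLib.Solvable.Cores.isPGroup_pCore r).map
      (QuotientGroup.mk' (Cfsg.pPrimeCore r G))) ⟨x, mem_pCore_of_idx hx' ha, rfl⟩
  · have hle : Cfsg.pCore r G ≤ Cfsg.pPrimeCore q G :=
      CfsgLib.Solvable.Cores.pCore_le_pPrimeCore hq.out hrq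
    let f : G ⧸ Cfsg.pCore r G →* G ⧸ Cfsg.pPrimeCore q G :=
      QuotientGroup.map _ _ (MonoidHom.id G) (by simpa using hle)
    have hf : Function.Surjective f := fun y => by
      induction y using QuotientGroup.induction_on with
      | H g => exact ⟨QuotientGroup.mk g, rfl⟩
    haveI : (Cfsg.pCore q (G ⧸ Cfsg.pCore r G)).Normal := CfsgLib.Solvable.Cores.pCore_normal q
    haveI : ((Cfsg.pCore q (G ⧸ Cfsg.pCore r G)).map f).Normal := Subgroup.Normal.map ‹_› f hf
    exact CfsgLib.Solvable.Cores.le_pCore ((CfsgLib.Solvable.Cores.isPGroup_pCore q).map f)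
      ⟨QuotientGroup.mk x, mem_pCore_quotient hx' ha, rfl⟩

section sylow

variable {X : Type u} [Group X] [Finite X]

/-- The elements moved only inside the Frattini subgroup form a subgroup. -/
def almostCentral (S : Subgroup X) [hS : S.Normal] : Subgroup ↥S where
  carrier := {u | ∀ g : X, MulAut.conjNormal g u * u⁻¹ ∈ frattini ↥S}
  one_mem' := fun g => by rw [map_one, mul_inv_cancel]; exact one_mem _
  mul_mem' {a b} ha hb := fun g => by
    rw [map_mul, show MulAut.conjNormal g a * MulAut.conjNormal g b * (a * b)⁻¹ =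
      (MulAut.conjNormal g a * a⁻¹) * (a * (MulAut.conjNormal g b * b⁻¹) * a⁻¹) by group]
    exact mul_mem (ha g) ((inferInstance : (frattini ↥S).Normal).conj_mem _ (hb g) a)
  inv_mem' {a} ha := fun g => by
    rw [map_inv, inv_inv, show (MulAut.conjNormal g a)⁻¹ * a =
      a⁻¹ * (MulAut.conjNormal g a * a⁻¹)⁻¹ * a by group]
    have h := (inferInstance : (frattini ↥S).Normal).conj_mem _ (inv_mem (ha g)) a⁻¹
    rwa [inv_inv] at h

theorem mem_almostCentral_of_idx (S : Sylow q X) [(S : Subgroup X).Normal] (u : ↥(S : Subgroup X)) {a : ℕ}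
    (ha : idx (u : X) = q ^ a) : u ∈ almostCentral (S : Subgroup X) := by
  intro g
  obtain ⟨w, hw, e⟩ := CfsgLib.CharDeep.PrimePowerClass.exists_mem_sylow_conj ha S g
  have h : MulAut.conjNormal g u = ⟨w, hw⟩ * u * ⟨w, hw⟩⁻¹ := Subtype.ext (by
    rw [MulAut.conjNormal_apply, e]; rfl)
  rw [h, ← commutatorElement_def]
  exact CfsgLib.PGroup.Frattini.commutatorElement_mem_frattini S.isPGroup' _ _

/-- If every element is almost central, the `q'`-subgroups centralize. -/
theorem le_centralizer_of_almost (S : Sylow q X) [(S : Subgroup X).Normal]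
    (h : ∀ u, u ∈ almostCentral (S : Subgroup X)) (H : Subgroup X) (hH : (Nat.card H).Coprime q) :
    H ≤ Subgroup.centralizer ((S : Subgroup X) : Set X) := by
  refine CfsgLib.Coprime.le_centralizer_of_frattini
    (by rw [Subgroup.normalizer_eq_top]; exact le_top) ?_ fun a _ k hk => ?_
  · obtain ⟨j, hj⟩ := (S.isPGroup'.to_subgroup (frattini ↥(S : Subgroup X))).exists_card_eq
    rw [hj]; exact hH.pow_right j
  · refine ⟨_, h ⟨k, hk⟩ a, ?_⟩
    rw [commutatorElement_def]
    simp only [Subgroup.subtype_apply, Subgroup.coe_mul, Subgroup.coe_inv, MulAut.conjNormal_apply]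

end sylow

section main

variable (hB : ∀ x : G, (∃ k, orderOf x = q ^ k) → ∃ r a : ℕ, r.Prime ∧ idx x = r ^ a) (Q : Sylow q G)

omit hq in
theorem exists_orderOf_of_mem [Fact q.Prime] {x : G} (hx : x ∈ (Q : Subgroup G)) : ∃ k, orderOf x = q ^ k := by
  obtain ⟨k, hk⟩ := Q.isPGroup' ⟨x, hx⟩
  exact exists_orderOf (Fact.out) (k := k) (congrArg Subtype.val hk)

theorem exists_conj_mem {x : G} (hx : ∃ k, orderOf x = q ^ k) : ∃ g : G, g * x * g⁻¹ ∈ (Q : Subgroup G) := by
  obtain ⟨k, hk⟩ := hx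
  obtain ⟨R, hR⟩ := (IsPGroup.of_card (show Nat.card (Subgroup.zpowers x) = q ^ k by
    rw [Nat.card_zpowers, hk])).exists_le_sylow
  obtain ⟨g, hg⟩ := MulAction.exists_smul_eq G R Q
  refine ⟨g, ?_⟩
  rw [← hg]
  exact Subgroup.mem_map.2 ⟨x, hR (Subgroup.mem_zpowers x), rfl⟩

theorem eq_one_of_mem_both [hn : (Cfsg.pPrimeCore q G).Normal] {k : G} (h1 : k ∈ Cfsg.pPrimeCore q G)
    (h2 : ∃ j, orderOf k = q ^ j) : k = 1 := by
  obtain ⟨j, hj⟩ := h2
  refine orderOf_eq_one_iff.1 (Nat.eq_one_of_dvd_coprimes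
    ((CfsgLib.Solvable.Cores.coprime_card_pPrimeCore (G := G) q).pow_right j)
    (Subgroup.orderOf_dvd_natCard _ h1) (dvd_of_eq hj))

include hB

/-- The image of a Sylow subgroup is `O_q` of the quotient by `O_{q'}`. -/
theorem map_eq_pCore [(Cfsg.pPrimeCore q G).Normal] :
    (Q : Subgroup G).map (QuotientGroup.mk' (Cfsg.pPrimeCore q G)) = Cfsg.pCore q (G ⧸ Cfsg.pPrimeCore q G) := by
  have hle : (Q : Subgroup G).map (QuotientGroup.mk' (Cfsg.pPrimeCore q G)) ≤
      Cfsg.pCore q (G ⧸ Cfsg.pPrimeCore q G) := by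
    rintro _ ⟨x, hx, rfl⟩
    exact mk_mem_pCore hB (exists_orderOf_of_mem Q hx)
  refine le_antisymm hle ?_
  have h1 := CfsgLib.Solvable.Cores.pCore_le_sylow (Q.mapSurjective
    (QuotientGroup.mk'_surjective (Cfsg.pPrimeCore q G)))
  rwa [Sylow.coe_mapSurjective] at h1

/-- An element with class size prime to `q` is central in every Sylow subgroup containing it. -/
theorem mem_centralizer_of_ne {u : G} (hu : u ∈ (Q : Subgroup G)) {r a : ℕ} (hr : r.Prime) (hrq : r ≠ q)
    (ha : idx u = r ^ a) : u ∈ Subgroup.centralizer ((Q : Subgroup G) : Set G) := by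
  haveI : (Cfsg.pPrimeCore q G).Normal := Subgroup.sSup_normal _ fun _ h => h.1
  obtain ⟨S⟩ : Nonempty (Sylow q ↥(Subgroup.centralizer ({u} : Set G))) := inferInstance
  set T := (S : Subgroup ↥(Subgroup.centralizer ({u} : Set G))).map (Subgroup.subtype _) with hT
  have hTc : Nat.card T = q ^ (Nat.card G).factorization q := by
    rw [hT, Subgroup.card_subtype, Sylow.card_eq_multiplicity, ← (Subgroup.centralizer ({u} : Set G)).card_mul_index,
      Nat.factorization_mul Nat.card_pos.ne' Subgroup.index_ne_zero_of_finite, Finsupp.add_apply,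
      Nat.factorization_eq_zero_of_not_dvd (n := (Subgroup.centralizer ({u} : Set G)).index) (fun h => ?_), add_zero]
    change q ∣ idx u at h
    rw [ha] at h
    exact hrq ((Nat.prime_dvd_prime_iff_eq hq.out hr).1 (hq.out.dvd_of_dvd_pow h)).symm
  have hQ' : ∀ v ∈ (Q : Subgroup G), ∃ v' ∈ T, (QuotientGroup.mk v' : G ⧸ Cfsg.pPrimeCore q G) = QuotientGroup.mk v := by
    intro v hv
    have h1 := map_eq_pCore hB Q
    have h2 := map_eq_pCore hB (Sylow.ofCard T hTc)
    rw [Sylow.coe_ofCard, ← h1] at h2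
    have h3 : (QuotientGroup.mk' (Cfsg.pPrimeCore q G) v) ∈ T.map (QuotientGroup.mk' (Cfsg.pPrimeCore q G)) :=
      h2.ge ⟨v, hv, rfl⟩
    obtain ⟨v', hv', e⟩ := h3
    exact ⟨v', hv', e⟩
  refine Subgroup.mem_centralizer_iff.2 fun v hv => ?_
  obtain ⟨v', hv', e⟩ := hQ' v hv
  obtain ⟨c, -, rfl⟩ := hv'
  have hc : (c : G) * u = u * (c : G) := Subgroup.mem_centralizer_singleton_iff.1 c.2
  have h1 : v * u * v⁻¹ * u⁻¹ = 1 := by
    refine eq_one_of_mem_both ((QuotientGroup.eq_one_iff _).1 ?_) (exists_orderOf_of_mem Q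
      (mul_mem (mul_mem (mul_mem hv hu) (inv_mem hv)) (inv_mem hu)))
    simp only [QuotientGroup.mk_mul, QuotientGroup.mk_inv, ← e]
    simp only [← QuotientGroup.mk_mul, ← QuotientGroup.mk_inv]
    show (QuotientGroup.mk ((c : G) * u * (c : G)⁻¹ * u⁻¹) : G ⧸ _) = 1
    rw [hc, mul_inv_cancel_right, mul_inv_cancel]; rfl
  exact mul_inv_eq_iff_eq_mul.1 (mul_inv_eq_one.1 h1)

/-- An element with `q`-power class size centralizes `O_{q'}`. -/
theorem commute_core {u : G} (hu : ∃ k, orderOf u = q ^ k) {a : ℕ} (ha : idx u = q ^ a)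
    {k : G} (hk : k ∈ Cfsg.pPrimeCore q G) : Commute u k := by
  haveI hn : (Cfsg.pPrimeCore q G).Normal := Subgroup.sSup_normal _ fun _ h => h.1
  haveI hn' : (Cfsg.pCore q G).Normal := CfsgLib.Solvable.Cores.pCore_normal q
  refine Subgroup.commute_of_normal_of_disjoint _ _ hn' hn ?_ u k
    (mem_pCore_of_idx (hu.imp fun j hj => by rw [← hj, pow_orderOf_eq_one]) ha) hk
  rw [Subgroup.disjoint_def]
  intro x h1 h2
  obtain ⟨j, hj⟩ := CfsgLib.Solvable.Cores.isPGroup_pCore q ⟨x, h1⟩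
  exact eq_one_of_mem_both h2 (exists_orderOf hq.out (k := j) (congrArg Subtype.val hj))

/-- No element has `q`-power class size above one beside an element with another such size. -/
theorem no_mixed {x y : G} (hx : x ∈ (Q : Subgroup G)) (hy : y ∈ (Q : Subgroup G)) {a b r : ℕ}
    (hr : r.Prime) (hrq : r ≠ q) (hxa : idx x = q ^ a) (hx1 : idx x ≠ 1) (hyb : idx y = r ^ b) :
    idx y = 1 := by
  haveI hn : (Cfsg.pPrimeCore q G).Normal := Subgroup.sSup_normal _ fun _ h => h.1
  have hxC : x ∉ Subgroup.centralizer ((Q : Subgroup G) : Set G) := by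
    intro h
    have hle : (Q : Subgroup G) ≤ Subgroup.centralizer ({x} : Set G) := fun v hv =>
      Subgroup.mem_centralizer_singleton_iff.2 (Subgroup.mem_centralizer_iff.1 h v hv)
    have h1 : ¬ q ∣ idx x := fun hd => Q.not_dvd_index (hd.trans (Subgroup.index_dvd_of_le hle))
    rcases a with _ | a
    · exact hx1 (by rw [hxa, pow_zero])
    · exact h1 (hxa ▸ dvd_pow_self q (Nat.succ_ne_zero a))
  have hpow : ∀ u ∈ (Q : Subgroup G), u ∉ Subgroup.centralizer ((Q : Subgroup G) : Set G) →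
      ∃ c, idx u = q ^ c := by
    intro u hu hnu
    obtain ⟨s, c, hs, hc⟩ := hB u (exists_orderOf_of_mem Q hu)
    by_cases hsq : s = q
    · exact ⟨c, hsq ▸ hc⟩
    · exact absurd (mem_centralizer_of_ne hB Q hu hs hsq hc) hnu
  have hyC := mem_centralizer_of_ne hB Q hy hr hrq hyb
  have hxyC : x * y ∉ Subgroup.centralizer ((Q : Subgroup G) : Set G) := fun h =>
    hxC (by simpa using mul_mem h (inv_mem hyC))
  obtain ⟨c, hc⟩ := hpow _ (mul_mem hx hy) hxyC
  have hyK : ∀ k ∈ Cfsg.pPrimeCore q G, Commute y k := fun k hk => by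
    have h1 := (commute_core hB (exists_orderOf_of_mem Q hx) hxa hk).inv_left.mul_left
      (commute_core hB (exists_orderOf_of_mem Q (mul_mem hx hy)) hc hk)
    rwa [inv_mul_cancel_left] at h1
  -- the quotient by `O_{q'}`
  set π := QuotientGroup.mk' (Cfsg.pPrimeCore q G) with hπ
  set S := Q.mapSurjective (QuotientGroup.mk'_surjective (Cfsg.pPrimeCore q G)) with hS
  have hScoe : (S : Subgroup (G ⧸ Cfsg.pPrimeCore q G)) = (Q : Subgroup G).map π := Sylow.coe_mapSurjective _ _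
  haveI : (S : Subgroup (G ⧸ Cfsg.pPrimeCore q G)).Normal := by
    rw [hScoe, hπ, map_eq_pCore hB Q]; exact CfsgLib.Solvable.Cores.pCore_normal q
  have hmem : ∀ v ∈ (Q : Subgroup G), π v ∈ (S : Subgroup _) := fun v hv => hScoe ▸ ⟨v, hv, rfl⟩
  have halm : ∀ v (hv : v ∈ (Q : Subgroup G)), v ∉ Subgroup.centralizer ((Q : Subgroup G) : Set G) →
      (⟨π v, hmem v hv⟩ : ↥(S : Subgroup _)) ∈ almostCentral (S : Subgroup _) := by
    intro v hv hnv
    obtain ⟨c, hc⟩ := hpow v hv hnv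
    obtain ⟨i, -, hi⟩ := (Nat.dvd_prime_pow hq.out).1 (hc ▸ idx_map_dvd π (QuotientGroup.mk'_surjective _) v)
    exact mem_almostCentral_of_idx S _ hi
  have hall : ∀ u, u ∈ almostCentral (S : Subgroup (G ⧸ Cfsg.pPrimeCore q G)) := by
    rintro ⟨_, hu⟩
    rw [hScoe] at hu
    obtain ⟨v, hv, rfl⟩ := hu
    by_cases hvC : v ∈ Subgroup.centralizer ((Q : Subgroup G) : Set G)
    · have hvx : v * x ∉ Subgroup.centralizer ((Q : Subgroup G) : Set G) := fun h =>
        hxC (by simpa using mul_mem (inv_mem hvC) h)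
      have h1 := mul_mem (halm _ (mul_mem hv hx) hvx) (inv_mem (halm x hx hxC))
      convert h1 using 1
      exact Subtype.ext (by simp)
    · exact halm v hv hvC
  obtain ⟨H, hH⟩ := Subgroup.exists_right_complement'_of_coprime (N := (S : Subgroup (G ⧸ Cfsg.pPrimeCore q G)))
    S.card_coprime_index
  have hHc : (Nat.card H).Coprime q := by
    rw [← hH.symm.index_eq_card]
    exact ((hq.out.coprime_iff_not_dvd).2 S.not_dvd_index).symm
  have hHS := le_centralizer_of_almost S hall H hHc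
  have hcent : ∀ z : G ⧸ Cfsg.pPrimeCore q G, z * π y = π y * z := by
    intro z
    obtain ⟨⟨⟨s, hs⟩, ⟨h, hh⟩⟩, rfl⟩ := hH.2 z
    have h1 : s * π y = π y * s := by
      have hs' : s ∈ (Q : Subgroup G).map π := hScoe ▸ hs
      obtain ⟨v, hv, rfl⟩ := hs'
      rw [← map_mul, ← map_mul, Subgroup.mem_centralizer_iff.1 hyC v hv]
    have h2 : h * π y = π y * h := (Subgroup.mem_centralizer_iff.1 (hHS hh) (π y) (hmem y hy)).symm
    show s * h * π y = π y * (s * h)
    rw [mul_assoc, h2, ← mul_assoc, h1, mul_assoc]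
  rw [idx, Subgroup.index_eq_one, eq_top_iff]
  intro g _
  rw [Subgroup.mem_centralizer_singleton_iff, ← mul_inv_eq_iff_eq_mul]
  set k := g * y * g⁻¹ * y⁻¹ with hk
  have hkK : k ∈ Cfsg.pPrimeCore q G := (QuotientGroup.eq_one_iff k).1 (by
    show π k = 1
    rw [hk, map_mul, map_mul, map_mul, map_inv, map_inv, hcent, mul_inv_cancel_right, mul_inv_cancel])
  obtain ⟨j, hj⟩ := exists_orderOf_of_mem Q hy
  have h1 : (k * y) ^ q ^ j = 1 := by
    rw [hk, inv_mul_cancel_right, conj_pow, show y ^ q ^ j = 1 by rw [← hj, pow_orderOf_eq_one], mul_one,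
      mul_inv_cancel]
  rw [(hyK k hkK).symm.mul_pow, show y ^ q ^ j = 1 by rw [← hj, pow_orderOf_eq_one], mul_one] at h1
  exact mul_inv_eq_one.1 (eq_one_of_mem_both hkK (exists_orderOf hq.out h1))

omit hB

/-- Two elements with coprime prime power class sizes, the product having a class size of the first kind. -/
theorem no_two_aux {x y : G} (hy : ∃ k, orderOf y = q ^ k) {p s a b c : ℕ} [hp : Fact p.Prime] [hs : Fact s.Prime]
    (hps : p ≠ s) (hpq : p ≠ q) (hxa : idx x = p ^ a) (hyb : idx y = s ^ b) (hc : idx (x * y) = p ^ c) :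
    idx y = 1 := by
  classical
  -- Sylow subgroups in the centralizers
  have hsyl : ∀ {t r e : ℕ} [Fact t.Prime], r.Prime → t ≠ r → ∀ z : G, idx z = r ^ e →
      ∃ T : Sylow t G, (T : Subgroup G) ≤ Subgroup.centralizer ({z} : Set G) := by
    intro t r e _ hr htr z hz
    obtain ⟨S⟩ : Nonempty (Sylow t ↥(Subgroup.centralizer ({z} : Set G))) := inferInstance
    refine ⟨Sylow.ofCard ((S : Subgroup ↥(Subgroup.centralizer ({z} : Set G))).map (Subgroup.subtype _)) ?_, ?_⟩
    · rw [Subgroup.card_subtype, Sylow.card_eq_multiplicity, ← (Subgroup.centralizer ({z} : Set G)).card_mul_index,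
        Nat.factorization_mul Nat.card_pos.ne' Subgroup.index_ne_zero_of_finite, Finsupp.add_apply,
        Nat.factorization_eq_zero_of_not_dvd (n := (Subgroup.centralizer ({z} : Set G)).index) (fun h => ?_), add_zero]
      change t ∣ idx z at h
      rw [hz] at h
      exact htr ((Nat.prime_dvd_prime_iff_eq (Fact.out : t.Prime) hr).1
        ((Fact.out : t.Prime).dvd_of_dvd_pow h))
    · rw [Sylow.coe_ofCard]; exact Subgroup.map_subtype_le _
  obtain ⟨T, hT⟩ := hsyl (t := s) hp.out hps.symm x hxa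
  obtain ⟨P, hP⟩ := hsyl (t := p) hs.out hps y hyb
  set X : Set G := {z | IsConj x z} with hX
  have hcomb : ∀ z ∈ X, ∀ h : G, ∃ g, g * (x * y) * g⁻¹ = z * (h * y * h⁻¹) := by
    intro z hz h
    obtain ⟨g, rfl⟩ := isConj_iff.1 hz
    obtain ⟨k, hk, e⟩ := CfsgLib.CharDeep.PrimePowerClass.exists_mem_sylow_conj hyb T (g⁻¹ * h)
    refine ⟨g * k, ?_⟩
    have hkx : k * x = x * k := Subgroup.mem_centralizer_singleton_iff.1 (hT hk)
    calc g * k * (x * y) * (g * k)⁻¹ = g * (k * x) * y * k⁻¹ * g⁻¹ := by group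
      _ = g * x * g⁻¹ * (g * (k * y * k⁻¹) * g⁻¹) := by rw [hkx]; group
      _ = g * x * g⁻¹ * (h * y * h⁻¹) := by rw [← e]; group
  have hsub : ∀ g : G, g * (x * y) * g⁻¹ * y⁻¹ ∈ X := by
    intro g
    obtain ⟨u, hu, e⟩ := CfsgLib.CharDeep.PrimePowerClass.exists_mem_sylow_conj hc P g
    have huy : u * y = y * u := Subgroup.mem_centralizer_singleton_iff.1 (hP hu)
    refine isConj_iff.2 ⟨u, ?_⟩
    rw [e, show u * (x * y) * u⁻¹ * y⁻¹ = u * x * (y * u⁻¹ * y⁻¹) by group,
      show y * u⁻¹ * y⁻¹ = u⁻¹ by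
        rw [mul_inv_eq_iff_eq_mul, eq_inv_mul_iff_mul_eq, ← mul_assoc, huy, mul_inv_cancel_right]]
  rw [idx, Subgroup.index_eq_one, eq_top_iff]
  intro h _
  rw [Subgroup.mem_centralizer_singleton_iff, ← mul_inv_eq_iff_eq_mul]
  set d := h * y * h⁻¹ * y⁻¹ with hd
  have hstab : ∀ z ∈ X, z * d ∈ X := by
    intro z hz
    obtain ⟨g, hg⟩ := hcomb z hz h
    rw [hd, ← mul_assoc, ← mul_assoc, ← mul_assoc, show z * h * y * h⁻¹ = z * (h * y * h⁻¹) by group, ← hg]
    exact hsub g
  have hpow : ∀ (n : ℕ), ∀ z ∈ X, z * d ^ n ∈ X := by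
    intro n
    induction n with
    | zero => intro z hz; rwa [pow_zero, mul_one]
    | succ n ih => intro z hz; rw [pow_succ, ← mul_assoc]; exact hstab _ (ih z hz)
  have hXc : Nat.card X = p ^ a := by
    have h1 := CfsgLib.PGroup.FrobeniusCount.card_conj_mul_card_centralizer x
    have h2 := (Subgroup.centralizer ({x} : Set G)).index_mul_card
    rw [← h2] at h1
    exact (Nat.eq_of_mul_eq_mul_right Nat.card_pos h1).trans hxa
  refine mul_inv_eq_one.1 (show d = 1 from ?_)
  by_contra hd1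
  obtain ⟨t, ht, htd⟩ := Nat.exists_prime_and_dvd (fun e => hd1 (orderOf_eq_one_iff.1 e))
  haveI := Fact.mk ht
  -- the order of `d` is prime to `p`
  have hcop : t ≠ p := by
    rintro rfl
    obtain ⟨j, hj⟩ := hy
    haveI : (Cfsg.pCore s G).Normal := CfsgLib.Solvable.Cores.pCore_normal s
    have h1 := Cfsg.Agent.S4364.result s y ⟨b, hyb⟩ h 1
    simp only [one_mul, inv_one, mul_one] at h1
    rw [← QuotientGroup.eq_one_iff] at h1
    simp only [QuotientGroup.mk_mul, QuotientGroup.mk_inv] at h1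
    rw [mul_inv_eq_one, mul_inv_eq_iff_eq_mul] at h1
    have hy1 : (QuotientGroup.mk y : G ⧸ Cfsg.pCore s G) ^ q ^ j = 1 := by
      rw [← QuotientGroup.mk_pow, ← hj, pow_orderOf_eq_one]; rfl
    have h2 : (QuotientGroup.mk d : G ⧸ Cfsg.pCore s G) ^ q ^ j = 1 := by
      simp only [hd, QuotientGroup.mk_mul, QuotientGroup.mk_inv]
      rw [(Commute.inv_right h1).mul_pow, inv_pow, hy1, conj_pow, hy1, mul_one, mul_inv_cancel, inv_one,
        mul_one]
    rw [← QuotientGroup.mk_pow, QuotientGroup.eq_one_iff] at h2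
    obtain ⟨i, hi⟩ := CfsgLib.Solvable.Cores.isPGroup_pCore s ⟨_, h2⟩
    have h3 : d ^ (q ^ j * s ^ i) = 1 := by rw [pow_mul]; exact congrArg Subtype.val hi
    rcases (Nat.Prime.dvd_mul ht).1 (htd.trans (orderOf_dvd_of_pow_eq_one h3)) with h4 | h4
    · exact hpq ((Nat.prime_dvd_prime_iff_eq ht hq.out).1 (ht.dvd_of_dvd_pow h4))
    · exact hps ((Nat.prime_dvd_prime_iff_eq ht hs.out).1 (ht.dvd_of_dvd_pow h4))
  set e := d ^ (orderOf d / t) with he
  have heo : orderOf e = t := orderOf_pow_orderOf_div (orderOf_pos d).ne' htd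
  letI : MulAction ↥(Subgroup.zpowers e) X :=
    { smul := fun w z => ⟨z.1 * (w : G)⁻¹, by
        obtain ⟨m, hm⟩ := mem_powers_iff_mem_zpowers.2 (inv_mem w.2)
        rw [← hm]
        show z.1 * e ^ m ∈ X
        rw [he, ← pow_mul]
        exact hpow _ _ z.2⟩
      one_smul := fun z => Subtype.ext (show z.1 * ((1 : ↥(Subgroup.zpowers e)) : G)⁻¹ = z.1 by simp)
      mul_smul := fun w w' z => Subtype.ext (show z.1 * ((w * w' : ↥(Subgroup.zpowers e)) : G)⁻¹ =
        z.1 * (w' : G)⁻¹ * (w : G)⁻¹ by simp [mul_assoc]) }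
  have hEp : IsPGroup t ↥(Subgroup.zpowers e) := IsPGroup.of_card (n := 1) (by rw [Nat.card_zpowers, heo, pow_one])
  obtain ⟨z, hz⟩ := hEp.nonempty_fixed_point_of_prime_not_dvd_card X (by
    rw [hXc]
    exact fun h4 => hcop ((Nat.prime_dvd_prime_iff_eq ht hp.out).1 (ht.dvd_of_dvd_pow h4)))
  have h5 : z.1 * e⁻¹ = z.1 := congrArg Subtype.val (hz ⟨e, Subgroup.mem_zpowers e⟩)
  rw [mul_eq_left, inv_eq_one] at h5
  rw [h5, orderOf_one] at heo
  exact ht.ne_one heo.symm

include hB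

/-- Two `q`-elements of a Sylow subgroup with class sizes powers of different primes other than `q`. -/
theorem no_two {x y : G} (hx : x ∈ (Q : Subgroup G)) (hy : y ∈ (Q : Subgroup G)) {p s a b : ℕ}
    (hp : p.Prime) (hs : s.Prime) (hps : p ≠ s) (hpq : p ≠ q) (hsq : s ≠ q)
    (hxa : idx x = p ^ a) (hyb : idx y = s ^ b) : idx x = 1 ∨ idx y = 1 := by
  haveI := Fact.mk hp
  haveI := Fact.mk hs
  have hcomm : x * y = y * x :=
    Subgroup.mem_centralizer_iff.1 (mem_centralizer_of_ne hB Q hy hs hsq hyb) x hx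
  obtain ⟨t, c, ht, hc⟩ := hB _ (exists_orderOf_of_mem Q (mul_mem hx hy))
  haveI := Fact.mk ht
  have hsub : Subgroup.centralizer ({x} : Set G) ⊓ Subgroup.centralizer ({y} : Set G) ≤
      Subgroup.centralizer ({x * y} : Set G) := fun z hz => by
    rw [Subgroup.mem_inf, Subgroup.mem_centralizer_singleton_iff, Subgroup.mem_centralizer_singleton_iff] at hz
    rw [Subgroup.mem_centralizer_singleton_iff, ← mul_assoc, hz.1, mul_assoc, hz.2, mul_assoc]
  by_cases htp : t = p
  · subst htp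
    exact Or.inr (no_two_aux (exists_orderOf_of_mem Q hy) hps hpq hxa hyb hc)
  by_cases hts : t = s
  · subst hts
    exact Or.inl (no_two_aux (exists_orderOf_of_mem Q hx) hps.symm hsq hyb hxa (hcomm ▸ hc))
  -- otherwise the class of the product is trivial
  have hdvd : idx (x * y) ∣ p ^ a * s ^ b := by
    refine (Subgroup.index_dvd_of_le hsub).trans ?_
    have hcop : (Subgroup.centralizer ({x} : Set G)).index.Coprime (Subgroup.centralizer ({y} : Set G)).index := by
      change (idx x).Coprime (idx y)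
      rw [hxa, hyb]; exact Nat.Coprime.pow a b ((Nat.coprime_primes hp hs).2 hps)
    have h1 : ((Subgroup.centralizer ({x} : Set G)) ⊓ (Subgroup.centralizer ({y} : Set G))).index =
        idx x * idx y := by
      refine le_antisymm Subgroup.index_inf_le (Nat.le_of_dvd
        (Nat.pos_of_ne_zero Subgroup.index_ne_zero_of_finite) (Nat.Coprime.mul_dvd_of_dvd_of_dvd hcop
          (Subgroup.index_dvd_of_le inf_le_left) (Subgroup.index_dvd_of_le inf_le_right)))
    rw [h1, hxa, hyb]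
  have hc1 : idx (x * y) = 1 := by
    rw [hc] at hdvd ⊢
    rcases c with _ | c
    · rfl
    · rcases ht.dvd_mul.1 ((dvd_pow_self t (Nat.succ_ne_zero c)).trans hdvd) with h | h
      · exact absurd ((Nat.prime_dvd_prime_iff_eq ht hp).1 (ht.dvd_of_dvd_pow h)) htp
      · exact absurd ((Nat.prime_dvd_prime_iff_eq ht hs).1 (ht.dvd_of_dvd_pow h)) hts
  refine Or.inr (no_two_aux (exists_orderOf_of_mem Q hy) hps hpq hxa hyb (c := 0) ?_)
  rw [hc1, pow_zero]

include Q in
/-- One prime serves for all `q`-elements. -/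
theorem exists_prime : ∃ p : ℕ, p.Prime ∧ ∀ x : G, (∃ k, orderOf x = q ^ k) → ∃ a, idx x = p ^ a := by
  by_cases hall : ∀ x : G, (∃ k, orderOf x = q ^ k) → ∃ a, idx x = q ^ a
  · exact ⟨q, hq.out, hall⟩
  push Not at hall
  obtain ⟨y, hy, hyn⟩ := hall
  obtain ⟨r, b, hr, hb⟩ := hB y hy
  have hrq : r ≠ q := fun e => hyn b (e ▸ hb)
  have hy1 : idx y ≠ 1 := fun e => hyn 0 (by rw [e, pow_zero])
  refine ⟨r, hr, fun x hx => ?_⟩
  obtain ⟨s, a, hs, ha⟩ := hB x hx
  by_cases hsr : s = r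
  · exact ⟨a, hsr ▸ ha⟩
  obtain ⟨g, hg⟩ := exists_conj_mem Q hx
  obtain ⟨h, hh⟩ := exists_conj_mem Q hy
  refine ⟨0, ?_⟩
  rw [pow_zero]
  by_contra hx1
  by_cases hsq : s = q
  · subst hsq
    exact hy1 ((idx_conj h y).symm.trans (no_mixed hB Q hg hh hr hrq ((idx_conj g x).trans ha)
      (by rw [idx_conj]; exact hx1) ((idx_conj h y).trans hb)))
  · rcases no_two hB Q hg hh hs hr hsr hsq hrq ((idx_conj g x).trans ha) ((idx_conj h y).trans hb) with e | e
    · exact hx1 ((idx_conj g x).symm.trans e)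
    · exact hy1 ((idx_conj h y).symm.trans e)

end main

noncomputable local instance commSub (S : Subgroup G) [IsMulCommutative ↥S] : CommGroup ↥S :=
  { (inferInstance : Group ↥S) with mul_comm := fun a b => IsMulCommutative.is_comm.comm a b }

theorem solvable_of_mul {A : Type u} [Group A] [Finite A] {M : Type u} [CommGroup M] [Finite M]
    (hFT : CfsgLib.FTApps.OddSolvable.{u}) (φ : A →* MulAut M) (hinj : Function.Injective φ)
    (hcop : (Nat.card A).Coprime (Nat.card M)) {p : ℕ} (hp : p.Prime)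
    (hO : ∀ m : M, ∃ (S : Subgroup A) (k : ℕ), S.index = p ^ k ∧ ∀ a ∈ S, φ a m = m) : Group.IsSolvable A := by
  let ρ : A →* AddMonoid.End (Additive M) :=
    { toFun := fun a => MonoidHom.toAdditive (φ a).toMonoidHom
      map_one' := DFunLike.ext _ _ fun m => Additive.toMul.injective
        (show φ 1 (Additive.toMul m) = Additive.toMul m by rw [map_one]; rfl)
      map_mul' := fun a b => DFunLike.ext _ _ fun m => Additive.toMul.injective
        (show φ (a * b) (Additive.toMul m) = φ a (φ b (Additive.toMul m)) by rw [map_mul]; rfl) }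
  refine CfsgLib.Coprime.PrimePowerOrbits.isSolvable_of_orb hFT ρ (fun a b h => hinj (MulEquiv.ext fun m => ?_))
    hcop hp fun m => ?_
  · exact congrArg Additive.toMul (DFunLike.congr_fun h (Additive.ofMul m))
  · obtain ⟨S, k, hk, hS⟩ := hO (Additive.toMul m)
    have hle : S ≤ CfsgLib.Coprime.PrimePowerOrbits.st ρ m := fun a ha =>
      Additive.toMul.injective (hS a ha)
    obtain ⟨i, -, hi⟩ := (Nat.dvd_prime_pow hp).1 (hk ▸ Subgroup.index_dvd_of_le hle)
    exact ⟨i, hi⟩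

theorem main (hFT : CfsgLib.FTApps.OddSolvable.{u}) (_hqG : q ∣ Nat.card G)
    (hB : ∀ x : G, (∃ k, orderOf x = q ^ k) → ∃ r a : ℕ, r.Prime ∧ idx x = r ^ a) (Q : Sylow q G) :
    (∃ K L : Subgroup G, K.Normal ∧ L.Normal ∧ K ≤ L ∧ (Nat.card K).Coprime q ∧ (∃ m : ℕ, K.relIndex L = q ^ m) ∧ L.index.Coprime q) ∧
    ∃ p : ℕ, p.Prime ∧ (∀ x : G, (∃ k : ℕ, orderOf x = q ^ k) → ∃ a : ℕ, (Subgroup.centralizer ({x} : Set G)).index = p ^ a) ∧
      (p = q → (Q : Subgroup G).Normal ∧ ∃ N : Subgroup G, N.Normal ∧ N.IsComplement' (Q : Subgroup G)) ∧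
      (p ≠ q → IsMulCommutative (Q : Subgroup G) ∧ (Cfsg.pCore p G ⊔ (Q : Subgroup G)).Normal ∧
        ∀ _h : (Cfsg.pPrimeCore q G).Normal, Group.IsSolvable (G ⧸ Cfsg.pPrimeCore q G)) := by
  classical
  haveI hKn : (Cfsg.pPrimeCore q G).Normal := Subgroup.sSup_normal _ fun _ h => h.1
  refine ⟨?_, ?_⟩
  · set π := QuotientGroup.mk' (Cfsg.pPrimeCore q G) with hπ
    haveI : (Cfsg.pCore q (G ⧸ Cfsg.pPrimeCore q G)).Normal := CfsgLib.Solvable.Cores.pCore_normal q
    refine ⟨Cfsg.pPrimeCore q G, (Cfsg.pCore q (G ⧸ Cfsg.pPrimeCore q G)).comap π, hKn, inferInstance,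
      QuotientGroup.le_comap_mk' _ _, CfsgLib.Solvable.Cores.coprime_card_pPrimeCore q, ?_, ?_⟩
    · obtain ⟨m, hm⟩ := CfsgLib.Solvable.Cores.card_pow_of_pCore (G := G ⧸ Cfsg.pPrimeCore q G) q
      refine ⟨m, ?_⟩
      have h1 := Subgroup.relIndex_comap (H := (⊥ : Subgroup (G ⧸ Cfsg.pPrimeCore q G))) π
        ((Cfsg.pCore q (G ⧸ Cfsg.pPrimeCore q G)).comap π)
      rw [MonoidHom.comap_bot, QuotientGroup.ker_mk',
        Subgroup.map_comap_eq_self_of_surjective (QuotientGroup.mk'_surjective _), Subgroup.relIndex_bot_left] at h1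
      rw [h1, hm]
    · refine Nat.Coprime.coprime_dvd_left (Subgroup.index_dvd_of_le ?_)
        ((hq.out.coprime_iff_not_dvd).2 Q.not_dvd_index).symm
      intro v hv
      exact mk_mem_pCore hB (exists_orderOf_of_mem Q hv)
  obtain ⟨p, hp, hall⟩ := exists_prime hB Q
  haveI := Fact.mk hp
  refine ⟨p, hp, hall, fun hpq => ?_, fun hpq => ?_⟩
  · subst hpq
    have hQ : (Q : Subgroup G) = Cfsg.pCore p G := le_antisymm (fun v hv => by
      obtain ⟨k, hk⟩ := exists_orderOf_of_mem Q hv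
      obtain ⟨a, ha⟩ := hall v ⟨k, hk⟩
      exact mem_pCore_of_idx ⟨k, by rw [← hk, pow_orderOf_eq_one]⟩ ha) (CfsgLib.Solvable.Cores.pCore_le_sylow Q)
    haveI hQn : (Q : Subgroup G).Normal := hQ ▸ CfsgLib.Solvable.Cores.pCore_normal p
    refine ⟨hQn, ?_⟩
    obtain ⟨H, hH⟩ := Subgroup.exists_right_complement'_of_coprime (N := (Q : Subgroup G)) Q.card_coprime_index
    have hHc : (Nat.card H).Coprime p := by
      rw [← hH.symm.index_eq_card]
      exact ((hp.coprime_iff_not_dvd).2 Q.not_dvd_index).symm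
    have hHQ := le_centralizer_of_almost Q (fun u => (hall (u : G) (exists_orderOf_of_mem Q u.2)).elim
      fun a ha => mem_almostCentral_of_idx Q u ha) H hHc
    refine ⟨H, ⟨fun n hn g => ?_⟩, hH.symm⟩
    obtain ⟨⟨⟨w, hw⟩, ⟨h, hh⟩⟩, rfl⟩ := hH.2 g
    show w * h * n * (w * h)⁻¹ ∈ H
    have hm : h * n * h⁻¹ ∈ H := mul_mem (mul_mem hh hn) (inv_mem hh)
    rw [show w * h * n * (w * h)⁻¹ = w * (h * n * h⁻¹) * w⁻¹ by group,
      Subgroup.mem_centralizer_iff.1 (hHQ hm) w hw, mul_inv_cancel_right]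
    exact hm
  have hcom : ∀ u ∈ (Q : Subgroup G), u ∈ Subgroup.centralizer ((Q : Subgroup G) : Set G) := fun u hu => by
    obtain ⟨a, ha⟩ := hall u (exists_orderOf_of_mem Q hu)
    exact mem_centralizer_of_ne hB Q hu hp hpq ha
  haveI hQc : IsMulCommutative (Q : Subgroup G) :=
    ⟨⟨fun a b => Subtype.ext (Subgroup.mem_centralizer_iff.1 (hcom b b.2) a a.2)⟩⟩
  refine ⟨hQc, ?_, fun _ => ?_⟩
  · haveI : (Cfsg.pCore p G).Normal := CfsgLib.Solvable.Cores.pCore_normal p
    haveI hOn : (Cfsg.pCore q (G ⧸ Cfsg.pCore p G)).Normal := CfsgLib.Solvable.Cores.pCore_normal q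
    have hmap : (Q : Subgroup G).map (QuotientGroup.mk' (Cfsg.pCore p G)) = Cfsg.pCore q (G ⧸ Cfsg.pCore p G) := by
      refine le_antisymm ?_ ?_
      · rintro _ ⟨v, hv, rfl⟩
        obtain ⟨k, hk⟩ := exists_orderOf_of_mem Q hv
        obtain ⟨a, ha⟩ := hall v ⟨k, hk⟩
        exact mem_pCore_quotient ⟨k, by rw [← hk, pow_orderOf_eq_one]⟩ ha
      · have h1 := CfsgLib.Solvable.Cores.pCore_le_sylow (Q.mapSurjective
          (QuotientGroup.mk'_surjective (Cfsg.pCore p G)))
        rwa [Sylow.coe_mapSurjective] at h1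
    rw [sup_comm, show (Q : Subgroup G) ⊔ Cfsg.pCore p G =
      ((Q : Subgroup G).map (QuotientGroup.mk' (Cfsg.pCore p G))).comap (QuotientGroup.mk' _) by
        rw [Subgroup.comap_map_eq, QuotientGroup.ker_mk']]
    rw [hmap]
    infer_instance
  -- solvability of the quotient
  set π := QuotientGroup.mk' (Cfsg.pPrimeCore q G) with hπ
  set S := Q.mapSurjective (QuotientGroup.mk'_surjective (Cfsg.pPrimeCore q G)) with hS
  have hScoe : (S : Subgroup (G ⧸ Cfsg.pPrimeCore q G)) = (Q : Subgroup G).map π := Sylow.coe_mapSurjective _ _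
  haveI hSn : (S : Subgroup (G ⧸ Cfsg.pPrimeCore q G)).Normal := by
    rw [hScoe, hπ, map_eq_pCore hB Q]; exact CfsgLib.Solvable.Cores.pCore_normal q
  haveI : IsMulCommutative (S : Subgroup (G ⧸ Cfsg.pPrimeCore q G)) := ⟨⟨fun a b => Subtype.ext (by
    obtain ⟨v, hv, hva⟩ := (hScoe ▸ a.2 : (a : G ⧸ Cfsg.pPrimeCore q G) ∈ (Q : Subgroup G).map π)
    obtain ⟨w, hw, hwb⟩ := (hScoe ▸ b.2 : (b : G ⧸ Cfsg.pPrimeCore q G) ∈ (Q : Subgroup G).map π)
    show (a : G ⧸ Cfsg.pPrimeCore q G) * b = b * a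
    rw [← hva, ← hwb, ← map_mul, ← map_mul, Subgroup.mem_centralizer_iff.1 (hcom w hw) v hv])⟩⟩
  haveI : Group.IsSolvable ↥(S : Subgroup (G ⧸ Cfsg.pPrimeCore q G)) :=
    Group.isSolvable_of_comm fun a b => IsMulCommutative.is_comm.comm a b
  obtain ⟨H, hH⟩ := Subgroup.exists_right_complement'_of_coprime (N := (S : Subgroup (G ⧸ Cfsg.pPrimeCore q G)))
    S.card_coprime_index
  have hHc : (Nat.card H).Coprime q := by
    rw [← hH.symm.index_eq_card]
    exact ((hq.out.coprime_iff_not_dvd).2 S.not_dvd_index).symm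
  haveI : IsMulCommutative (S : Subgroup (G ⧸ Cfsg.pPrimeCore q G)) := inferInstance
  let φ : ↥H →* MulAut ↥(S : Subgroup (G ⧸ Cfsg.pPrimeCore q G)) := MulAut.conjNormal.comp H.subtype
  have hinj : Function.Injective φ := by
    rw [injective_iff_map_eq_one]
    intro h hh
    set C := H ⊓ Subgroup.centralizer ((S : Subgroup (G ⧸ Cfsg.pPrimeCore q G)) : Set (G ⧸ Cfsg.pPrimeCore q G))
    have hC : (h : G ⧸ Cfsg.pPrimeCore q G) ∈ C := by
      refine ⟨h.2, Subgroup.mem_centralizer_iff.2 fun s hs => ?_⟩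
      have h1 := congrArg Subtype.val (DFunLike.congr_fun hh (⟨s, hs⟩ : ↥(S : Subgroup _)))
      simp only [φ, MonoidHom.comp_apply, Subgroup.subtype_apply, MulAut.conjNormal_apply, MulAut.one_apply] at h1
      exact (mul_inv_eq_iff_eq_mul.1 h1).symm
    haveI : C.Normal := ⟨fun n hn g => by
      obtain ⟨⟨⟨w, hw⟩, ⟨h', hh'⟩⟩, rfl⟩ := hH.2 g
      show w * h' * n * (w * h')⁻¹ ∈ C
      have hm : h' * n * h'⁻¹ ∈ C := by
        refine Subgroup.mem_inf.2 ⟨mul_mem (mul_mem hh' (Subgroup.mem_inf.1 hn).1) (inv_mem hh'), Subgroup.mem_centralizer_iff.2 fun s hs => ?_⟩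
        have hs' : h'⁻¹ * s * h' ∈ (S : Subgroup _) := by
          have := hSn.conj_mem s hs h'⁻¹
          rwa [inv_inv] at this
        have h2 := Subgroup.mem_centralizer_iff.1 hn.2 _ hs'
        calc s * (h' * n * h'⁻¹) = h' * (h'⁻¹ * s * h' * n) * h'⁻¹ := by group
          _ = h' * n * h'⁻¹ * s := by rw [h2]; group
      rw [show w * h' * n * (w * h')⁻¹ = w * (h' * n * h'⁻¹) * w⁻¹ by group,
        Subgroup.mem_centralizer_iff.1 hm.2 w hw, mul_inv_cancel_right]
      exact hm⟩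
    have h3 : C ≤ Cfsg.pPrimeCore q (G ⧸ Cfsg.pPrimeCore q G) := CfsgLib.Solvable.Cores.le_pPrimeCore
      (hHc.coprime_dvd_left (Subgroup.card_dvd_of_le inf_le_left))
    rw [CfsgLib.Components.pPrimeCore_quotient_eq_bot] at h3
    exact Subtype.ext (Subgroup.mem_bot.1 (h3 hC))
  haveI : Group.IsSolvable ↥H := by
    refine solvable_of_mul hFT φ hinj ?_ hp fun m => ?_
    · obtain ⟨k, hk⟩ := S.isPGroup'.exists_card_eq
      rw [hk]; exact hHc.pow_right k
    · obtain ⟨v, hv, hvm⟩ := (hScoe ▸ m.2 : (m : G ⧸ Cfsg.pPrimeCore q G) ∈ (Q : Subgroup G).map π)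
      obtain ⟨a, ha⟩ := hall v (exists_orderOf_of_mem Q hv)
      obtain ⟨i, -, hi⟩ := (Nat.dvd_prime_pow hp).1 (ha ▸ idx_map_dvd π (QuotientGroup.mk'_surjective _) v)
      rw [hvm] at hi
      set D := Subgroup.centralizer ({(m : G ⧸ Cfsg.pPrimeCore q G)} : Set (G ⧸ Cfsg.pPrimeCore q G)) with hD
      refine ⟨D.subgroupOf H, i, ?_, fun h hh => Subtype.ext ?_⟩
      · have hSD : (S : Subgroup (G ⧸ Cfsg.pPrimeCore q G)) ≤ D := fun s hs =>
          Subgroup.mem_centralizer_singleton_iff.2 (congrArg Subtype.val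
            (IsMulCommutative.is_comm.comm (⟨s, hs⟩ : ↥(S : Subgroup _)) m))
        rw [← hi]
        change D.relIndex H = D.index
        refine Nat.card_congr (Equiv.ofBijective
          (Quotient.map' (fun h : ↥H => (h : G ⧸ Cfsg.pPrimeCore q G)) fun a b hab => by
            rw [QuotientGroup.leftRel_apply] at hab ⊢; exact hab) ⟨?_, ?_⟩)
        · intro a b
          induction a using QuotientGroup.induction_on
          induction b using QuotientGroup.induction_on
          intro h'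
          exact QuotientGroup.eq.2 (QuotientGroup.eq (s := D).1 h')
        · intro z
          induction z using QuotientGroup.induction_on with
          | H g =>
            obtain ⟨⟨⟨w, hw⟩, ⟨h', hh'⟩⟩, rfl⟩ := hH.2 g
            refine ⟨QuotientGroup.mk ⟨h', hh'⟩, QuotientGroup.eq.2 ?_⟩
            show h'⁻¹ * (w * h') ∈ D
            refine hSD ?_
            have := hSn.conj_mem w hw h'⁻¹
            rwa [inv_inv, mul_assoc] at this
      · have h1 := Subgroup.mem_centralizer_singleton_iff.1 (Subgroup.mem_subgroupOf.1 hh)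
        simp only [φ, MonoidHom.comp_apply, Subgroup.subtype_apply, MulAut.conjNormal_apply]
        exact mul_inv_eq_iff_eq_mul.2 h1
  haveI : Group.IsSolvable ((G ⧸ Cfsg.pPrimeCore q G) ⧸ (S : Subgroup (G ⧸ Cfsg.pPrimeCore q G))) :=
    Group.isSolvable_of_surjective (f := (QuotientGroup.mk' (S : Subgroup (G ⧸ Cfsg.pPrimeCore q G))).comp H.subtype)
      (fun z => by
        induction z using QuotientGroup.induction_on with
        | H g =>
          obtain ⟨⟨⟨w, hw⟩, ⟨h', hh'⟩⟩, rfl⟩ := hH.2 g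
          refine ⟨⟨h', hh'⟩, QuotientGroup.eq.2 ?_⟩
          show h'⁻¹ * (w * h') ∈ (S : Subgroup _)
          have := hSn.conj_mem w hw h'⁻¹
          rwa [inv_inv, mul_assoc] at this)
  exact Group.isSolvable_of_ker_le_range (S : Subgroup (G ⧸ Cfsg.pPrimeCore q G)).subtype
    (QuotientGroup.mk' (S : Subgroup (G ⧸ Cfsg.pPrimeCore q G))) (by simp)

end CfsgLib.CharDeep.BaerQClass
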