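import Cfsg.Agent.Lib.Char.FS

/-!
# Invariant bilinear forms of self-dual irreducible representations
-/

set_option autoImplicit false

open scoped ComplexConjugate
open Module Matrix

namespace CfsgLib.CharDeep.BilinearForm

universe u

variable {G : Type u} [Group G] [Fintype G]

theorem invariant_form {n : ℕ} (M : G →* Matrix (Fin n) (Fin n) ℂ)
    (h1 : (Nat.card G : ℂ)⁻¹ * ∑ g, (M g⁻¹).trace * (M g⁻¹).trace = 1) :
    (∃ X : Matrix (Fin n) (Fin n) ℂ, X ≠ 0 ∧ ∀ g, (M g).transpose * X * M g = X) ∧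
      ∀ X : Matrix (Fin n) (Fin n) ℂ, (∀ g, (M g).transpose * X * M g = X) →
        X.transpose = ((Nat.card G : ℂ)⁻¹ * ∑ g, (M (g * g)).trace) • X := by
  set ν := (Nat.card G : ℂ)⁻¹ * ∑ g, (M (g * g)).trace with hν'
  have : Invertible (Fintype.card G : ℂ) := invertibleOfNonzero (by simp)
  let τ : Representation ℂ G (Matrix (Fin n) (Fin n) ℂ) :=
    { toFun := fun g =>
        (LinearMap.mulLeft ℂ (M g⁻¹).transpose).comp (LinearMap.mulRight ℂ (M g⁻¹))
      map_one' := LinearMap.ext fun X => by simp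
      map_mul' := fun a b => LinearMap.ext fun X => by simp [mul_assoc] }
  let T : Module.End ℂ (Matrix (Fin n) (Fin n) ℂ) :=
    (Matrix.transposeLinearEquiv (Fin n) (Fin n) ℂ ℂ).toLinearMap
  let P : Module.End ℂ (Matrix (Fin n) (Fin n) ℂ) := τ.averageMap
  have hP : P = (Nat.card G : ℂ)⁻¹ • ∑ g, τ g := by
    simp [P, Representation.averageMap, GroupAlgebra.average, _root_.map_sum, Finset.smul_sum]
  have hcomm : T * P = P * T := by
    rw [hP, mul_smul_comm, smul_mul_assoc, Finset.mul_sum, Finset.sum_mul]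
    congr 1
    exact Finset.sum_congr rfl fun g _ => LinearMap.ext fun X => by
      simp [T, τ, mul_assoc]
  have hproj := Representation.isProj_averageMap τ
  have hmem : ∀ X : Matrix (Fin n) (Fin n) ℂ,
      (∀ g, (M g).transpose * X * M g = X) ↔ X ∈ τ.invariants := fun X => by
    constructor
    · intro h g
      have := h g⁻¹
      simp only [mul_assoc] at this
      simpa [τ] using this
    · intro h g
      have := h g⁻¹
      simp [τ] at this
      simpa [mul_assoc] using this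
  have htrP : LinearMap.trace ℂ _ P =
      (Nat.card G : ℂ)⁻¹ * ∑ g, (M g⁻¹).trace * (M g⁻¹).trace := by
    rw [hP, map_smul, map_sum, smul_eq_mul]
    exact congrArg _ (Finset.sum_congr rfl fun g _ => CfsgLib.Char.trace_transpose_mul_mul _)
  have htrPT : LinearMap.trace ℂ _ (P * T) = ν := by
    rw [hP, smul_mul_assoc, Finset.sum_mul, map_smul, map_sum, smul_eq_mul]
    refine congrArg _ ((Finset.sum_congr rfl fun g _ => ?_).trans
      (Fintype.sum_equiv (Equiv.inv G) (fun g => (M (g⁻¹ * g⁻¹)).trace) _ fun g => rfl))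
    rw [map_mul M]
    exact CfsgLib.Char.trace_swap_mul_mul _
  have htr : LinearMap.trace ℂ _ P = (finrank ℂ τ.invariants : ℂ) := hproj.trace
  rw [htrP.symm.trans htr, Nat.cast_eq_one] at h1
  obtain ⟨v, hv, hall⟩ := finrank_eq_one_iff'.mp h1
  refine ⟨⟨v, fun h => hv (Subtype.ext h), (hmem _).2 v.2⟩, ?_⟩
  have hTv : T (v : Matrix (Fin n) (Fin n) ℂ) ∈ τ.invariants := by
    have h2 := LinearMap.congr_fun hcomm (v : Matrix (Fin n) (Fin n) ℂ)
    simp only [Module.End.mul_apply, show P (v : Matrix (Fin n) (Fin n) ℂ) = v from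
      hproj.map_id _ v.2] at h2
    rw [h2]
    exact hproj.map_mem _
  obtain ⟨ε, hε⟩ := hall ⟨_, hTv⟩
  have hε' : T (v : Matrix (Fin n) (Fin n) ℂ) = ε • (v : Matrix (Fin n) (Fin n) ℂ) :=
    (congrArg Subtype.val hε).symm
  have hTP : T * P = ε • P := LinearMap.ext fun X => by
    obtain ⟨c, hc⟩ := hall ⟨P X, hproj.map_mem X⟩
    have hc' : c • (v : Matrix (Fin n) (Fin n) ℂ) = P X := congrArg Subtype.val hc
    rw [Module.End.mul_apply, LinearMap.smul_apply, ← hc', map_smul, hε', smul_comm]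
  have hν : ν = ε := by
    rw [← htrPT, ← hcomm, hTP, map_smul, htr, h1, Nat.cast_one, smul_eq_mul, mul_one]
  intro X hX
  obtain ⟨c, hc⟩ := hall ⟨X, (hmem X).1 hX⟩
  have hc' : c • (v : Matrix (Fin n) (Fin n) ℂ) = X := congrArg Subtype.val hc
  rw [hν, ← hc', smul_comm ε c, ← hε']
  rfl

/-- The matrices of a representation on a coordinate space. -/
noncomputable def matrixHom {n : ℕ} (ρ : Representation ℂ G (Fin n → ℂ)) :
    G →* Matrix (Fin n) (Fin n) ℂ where
  toFun g := LinearMap.toMatrix' (ρ g)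
  map_one' := by rw [map_one]; exact LinearMap.toMatrix'_one
  map_mul' g h := by rw [map_mul]; exact LinearMap.toMatrix'_mul _ _

omit [Fintype G] in
theorem trace_matrixHom {n : ℕ} (ρ : Representation ℂ G (Fin n → ℂ)) (g : G) :
    (matrixHom ρ g).trace = ρ.character g := by
  show (LinearMap.toMatrix' (ρ g)).trace = LinearMap.trace ℂ _ (ρ g)
  rw [LinearMap.trace_eq_matrix_trace ℂ (Pi.basisFun ℂ (Fin n)),
    LinearMap.toMatrix_eq_toMatrix']

theorem classInner_conj {χ : G → ℂ} (hχ : Cfsg.IsIrrCharacter G χ)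
    (hreal : ∀ g, (χ g).im = 0) :
    (Nat.card G : ℂ)⁻¹ * ∑ g, χ g⁻¹ * χ g⁻¹ = 1 := by
  rw [← CfsgLib.Char.classInner_irr_self hχ, Cfsg.classInner]
  refine congrArg _ (Finset.sum_congr rfl fun g _ => ?_)
  rw [CfsgLib.Char.IsIrrCharacter.apply_inv hχ, Complex.conj_eq_iff_im.mpr (hreal g)]

theorem indicator_of_real_hom {χ : G → ℂ} (hχ : Cfsg.IsIrrCharacter G χ) {n : ℕ}
    (Y : G →* Matrix (Fin n) (Fin n) ℝ) (h : ∀ g, ((Y g).trace : ℂ) = χ g) :
    (Nat.card G : ℂ)⁻¹ * ∑ s, χ (s * s) = 1 := by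
  classical
  let M : G →* Matrix (Fin n) (Fin n) ℂ :=
    ((Complex.ofRealHom.mapMatrix (m := Fin n)).toMonoidHom).comp Y
  have hM : ∀ g, (M g).trace = χ g := fun g => by
    rw [← h g]
    simp [M, Matrix.trace, RingHom.mapMatrix_apply]
  have hreal : ∀ g, (χ g).im = 0 := fun g => by rw [← h g, Complex.ofReal_im]
  have h1 : (Nat.card G : ℂ)⁻¹ * ∑ g, (M g⁻¹).trace * (M g⁻¹).trace = 1 := by
    simp only [hM]; exact classInner_conj hχ hreal
  have hf := (invariant_form M h1).2 (∑ x, (M x).transpose * M x) (fun g => by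
    rw [Finset.mul_sum, Finset.sum_mul]
    refine Fintype.sum_equiv (Equiv.mulRight g) _ _ fun x => ?_
    simp [Matrix.transpose_mul, mul_assoc])
  simp only [hM] at hf
  rw [Matrix.transpose_sum] at hf
  simp only [Matrix.transpose_mul, Matrix.transpose_transpose] at hf
  rcases Nat.eq_zero_or_pos n with rfl | hn
  · simp [Matrix.trace] at h1
  have hne : (∑ x, (M x).transpose * M x) ⟨0, hn⟩ ⟨0, hn⟩ ≠ 0 := by
    have e : (∑ x, (M x).transpose * M x) ⟨0, hn⟩ ⟨0, hn⟩ =
        ((∑ x, ∑ k, (Y x k ⟨0, hn⟩) ^ 2 : ℝ) : ℂ) := by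
      simp [M, Matrix.sum_apply, Matrix.mul_apply, RingHom.mapMatrix_apply, sq]
    rw [e, Ne, Complex.ofReal_eq_zero]
    refine ne_of_gt (Finset.sum_pos' (fun x _ => Finset.sum_nonneg fun k _ => sq_nonneg _)
      ⟨1, Finset.mem_univ _, ?_⟩)
    exact Finset.sum_pos' (fun k _ => sq_nonneg _) ⟨⟨0, hn⟩, Finset.mem_univ _, by simp⟩
  have h2 := congrFun (congrFun hf ⟨0, hn⟩) ⟨0, hn⟩
  rw [Matrix.smul_apply, smul_eq_mul] at h2
  exact (mul_left_eq_self₀.mp h2.symm).resolve_right hne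

end CfsgLib.CharDeep.BilinearForm
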