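import Cfsg.Agent.Lib.Char.Basic
import Mathlib.NumberTheory.Cyclotomic.PrimitiveRoots
import Mathlib.RingTheory.RootsOfUnity.Complex

/-!
# Blichfeldt's lemma: a linear group has elements of order `p * q` for large primes `p`, `q`
-/

set_option autoImplicit false

open Module Finset

namespace CfsgLib.CharDeep.PrimeGraphBound

universe u v

theorem exists_crt {N p : ℕ} (hN : N ≠ 0) (hp : p.Prime) (t₀ : ℕ) (ht₀ : ¬ p ∣ t₀) :
    ∃ t : ℕ, t.Coprime N ∧ t ≡ t₀ [MOD p] ∧ ∀ m : ℕ, m ∣ N → ¬ p ∣ m → t ≡ 1 [MOD m] := by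
  set a := p ^ N.factorization p with ha
  set b := N / a with hb
  have hab : a * b = N := Nat.ordProj_mul_ordCompl_eq_self N p
  have hco : p.Coprime b := (Nat.coprime_ordCompl hp hN)
  have hco' : (a * p).Coprime b := by
    rw [ha, ← pow_succ]
    exact hco.pow_left _
  obtain ⟨t, ht1, ht2⟩ := Nat.chineseRemainder hco' t₀ 1
  have htp : t ≡ t₀ [MOD p] := ht1.of_mul_left a
  refine ⟨t, ?_, htp, fun m hm hpm => ?_⟩
  · rw [← hab, Nat.coprime_mul_iff_right]
    refine ⟨?_, ?_⟩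
    · rw [ha]
      refine Nat.Coprime.pow_right _ (Nat.Coprime.symm (hp.coprime_iff_not_dvd.2 ?_))
      intro h
      exact ht₀ ((htp.dvd_iff dvd_rfl).1 h)
    · rw [Nat.coprime_iff_gcd_eq_one, ht2.gcd_eq, Nat.gcd_one_left]
  · refine ht2.of_dvd ?_
    have h1 : m.Coprime a := by
      rw [ha]
      exact Nat.Coprime.pow_right _ (Nat.Coprime.symm (hp.coprime_iff_not_dvd.2 hpm))
    exact h1.dvd_of_dvd_mul_left (by rw [hab]; exact hm)

theorem pow_eq_self_of_modEq {G : Type u} [Monoid G] {g : G} {t : ℕ}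
    (h : t ≡ 1 [MOD orderOf g]) : g ^ t = g := by
  conv_rhs => rw [← pow_one g]
  rw [← pow_mod_orderOf g t, h, pow_mod_orderOf]

theorem pow_eq_pow_of_modEq' {G : Type u} [Monoid G] {g : G} {p t s : ℕ} (hg : g ^ p = 1)
    (h : t ≡ s [MOD p]) : g ^ t = g ^ s :=
  by rw [← pow_mod_orderOf g t, h.of_dvd (orderOf_dvd_of_pow_eq_one hg), pow_mod_orderOf]

variable {G : Type u} [Group G] [Finite G] {V : Type v} [AddCommGroup V] [Module ℂ V]
  [FiniteDimensional ℂ V]

theorem sum_pow_roots {p : ℕ} (z : ℂ) (hz : z ^ p = 1) :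
    ∑ i ∈ range p, z ^ i = if z = 1 then (p : ℂ) else 0 := by
  split_ifs with h
  · simp [h]
  · rw [geom_sum_eq h, hz, sub_self, zero_div]

theorem exists_pow_char_ne (ρ : Representation ℂ G V) (hinj : Function.Injective ρ) {q : ℕ}
    (hq : q.Prime) (hbig : finrank ℂ V + 1 < q) {y : G} (hy : orderOf y = q) :
    ∃ s : ℕ, ¬ q ∣ s ∧ ρ.character (y ^ s) ≠ ρ.character y := by
  classical
  by_contra hall
  push Not at hall
  have : NeZero q := ⟨hq.ne_zero⟩
  obtain ⟨b, ν, hν1, hν2⟩ := CfsgLib.Char.exists_eigenbasis ρ y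
  rw [hy] at hν1
  have hχ : ∀ k : ℕ, ρ.character (y ^ k) = ∑ i, ν i ^ k := fun k =>
    CfsgLib.Char.trace_eq_sum_of_eigen _ b _ (hν2 k)
  have hex : ∃ i, ν i ≠ 1 := by
    by_contra h
    push Not at h
    have : ρ y = ρ 1 := by
      rw [map_one]
      refine b.ext fun i => ?_
      have := hν2 1 i
      rw [pow_one, pow_one, h i, one_smul] at this
      rw [this, Module.End.one_apply]
    rw [hinj this, orderOf_one] at hy
    exact hq.one_lt.ne hy
  obtain ⟨i₀, hi₀⟩ := hex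
  have key : ∀ w : ℂ, w ^ q = 1 → w ≠ 1 →
      (q : ℂ) * ((univ.filter fun i => ν i * w = 1).card : ℂ) =
        ρ.character 1 - ρ.character y := by
    intro w hw hw1
    have h1 : (q : ℂ) * ((univ.filter fun i => ν i * w = 1).card : ℂ) =
        ∑ k ∈ range q, ρ.character (y ^ k) * w ^ k := by
      simp only [hχ, Finset.sum_mul, ← mul_pow]
      rw [Finset.sum_comm]
      rw [Finset.sum_congr rfl fun i _ => sum_pow_roots _ (by rw [mul_pow, hν1, hw, one_mul]),
        Finset.sum_ite, Finset.sum_const_zero, add_zero, Finset.sum_const, nsmul_eq_mul, mul_comm]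
    have h2 : ∑ k ∈ range q, w ^ k = 0 := by rw [sum_pow_roots w hw, if_neg hw1]
    have hq0 : 0 ∈ range q := mem_range.2 hq.pos
    rw [h1, ← Finset.add_sum_erase _ _ hq0, pow_zero, pow_zero, mul_one]
    have h3 : ∑ k ∈ (range q).erase 0, ρ.character (y ^ k) * w ^ k =
        ρ.character y * ∑ k ∈ (range q).erase 0, w ^ k := by
      rw [Finset.mul_sum]
      refine Finset.sum_congr rfl fun k hk => ?_
      rw [Finset.mem_erase, mem_range] at hk
      rw [hall k (fun h => absurd (Nat.le_of_dvd (Nat.pos_of_ne_zero hk.1) h) (by omega))]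
    rw [← Finset.add_sum_erase _ _ hq0, pow_zero] at h2
    rw [h3, eq_neg_of_add_eq_zero_right h2]
    ring
  have hinv : (ν i₀)⁻¹ ^ q = 1 ∧ (ν i₀)⁻¹ ≠ 1 := ⟨by rw [inv_pow, hν1, inv_one], by
    simpa using hi₀⟩
  have hne : ν i₀ ≠ 0 := fun h => by
    have := hν1 i₀
    rw [h, zero_pow hq.ne_zero] at this
    exact zero_ne_one this
  have hd : ρ.character 1 - ρ.character y ≠ 0 := by
    rw [← key _ hinv.1 hinv.2]
    refine mul_ne_zero (Nat.cast_ne_zero.2 hq.ne_zero) (Nat.cast_ne_zero.2 ?_)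
    exact Finset.card_ne_zero.2 ⟨i₀, by simp [mul_inv_cancel₀ hne]⟩
  obtain ⟨ζ, hζ⟩ : ∃ ζ : ℂ, IsPrimitiveRoot ζ q := ⟨_, Complex.isPrimitiveRoot_exp q hq.ne_zero⟩
  have hsurj : ∀ r ∈ Finset.Ioo 0 q, ∃ i, ν i * ζ ^ r = 1 := by
    intro r hr
    rw [Finset.mem_Ioo] at hr
    have h := key (ζ ^ r) (by rw [← pow_mul, mul_comm, pow_mul, hζ.pow_eq_one, one_pow])
      (hζ.pow_ne_one_of_pos_of_lt (by omega) hr.2)
    by_contra hnone
    push Not at hnone
    rw [Finset.filter_eq_empty_iff.2 fun i _ => hnone i, Finset.card_empty, Nat.cast_zero,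
      mul_zero] at h
    exact hd h.symm
  have : Nonempty (Fin (finrank ℂ V)) := ⟨i₀⟩
  choose! f hf using hsurj
  have hinjf : Set.InjOn f (Finset.Ioo 0 q : Finset ℕ) := by
    intro r hr r' hr' e
    have h1 := hf r hr
    have h2 := hf r' hr'
    rw [← e, ← h1] at h2
    rw [Finset.coe_Ioo] at hr hr'
    have hν0 : ν (f r) ≠ 0 := fun h => by simp [h] at h1
    exact (hζ.pow_inj hr'.2 hr.2 (mul_left_cancel₀ hν0 h2)).symm
  have hle := Finset.card_le_card_of_injOn f (t := Finset.univ) (fun _ _ => Finset.mem_univ _) hinjf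
  rw [Nat.card_Ioo, Finset.card_univ, Fintype.card_fin] at hle
  omega

theorem dvd_orderOf_mul (ρ : Representation ℂ G V) (hinj : Function.Injective ρ) {p q : ℕ}
    (hp : p.Prime) (hq : q.Prime) (hpq : p ≠ q) (hpb : finrank ℂ V + 1 < p)
    (hqb : finrank ℂ V + 1 < q) (hno : ∀ g : G, ¬ (p ∣ orderOf g ∧ q ∣ orderOf g))
    {x y : G} (hx : x ^ p = 1) (hy : orderOf y = q) (hpd : p ∣ Nat.card G) :
    q ∣ orderOf (x * y) := by
  classical
  set N := Nat.card G with hNdef
  have hN : N ≠ 0 := Nat.card_pos.ne'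
  have : NeZero N := ⟨hN⟩
  have : IsCyclotomicExtension {N} ℚ (CyclotomicField N ℚ) :=
    CyclotomicField.isCyclotomicExtension N ℚ
  have hz := IsCyclotomicExtension.zeta_spec N ℚ (CyclotomicField N ℚ)
  set z := IsCyclotomicExtension.zeta N ℚ (CyclotomicField N ℚ)
  let e := hz.embeddingsEquivPrimitiveRoots (C := ℂ)
    (Polynomial.cyclotomic.irreducible_rat (Nat.pos_of_ne_zero hN))
  have he : ∀ φ : CyclotomicField N ℚ →ₐ[ℚ] ℂ, ((e φ : primitiveRoots N ℂ) : ℂ) = φ z :=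
    fun φ => rfl
  obtain ⟨ω, hω⟩ : ∃ ω : ℂ, IsPrimitiveRoot ω N := ⟨_, Complex.isPrimitiveRoot_exp N hN⟩
  have hemb : ∀ s : ℕ, s.Coprime N → ∃ φ : CyclotomicField N ℚ →ₐ[ℚ] ℂ, φ z = ω ^ s := by
    intro s hs
    refine ⟨e.symm ⟨ω ^ s, (mem_primitiveRoots (Nat.pos_of_ne_zero hN)).2
      (hω.pow_of_coprime s hs)⟩, ?_⟩
    rw [← he, e.apply_symm_apply]
  have hval : ∀ g : G, ∃ u : CyclotomicField N ℚ, ∀ (φ : CyclotomicField N ℚ →ₐ[ℚ] ℂ) (s : ℕ),
      φ z = ω ^ s → φ u = ρ.character (g ^ s) := by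
    intro g
    obtain ⟨μ, hμ1, hμ2⟩ := CfsgLib.Char.exists_eigenvalues ρ g
    have hμN : ∀ i, μ i ^ N = 1 := fun i => by
      obtain ⟨c, hc⟩ := orderOf_dvd_natCard (G := G) g
      rw [hNdef, hc, pow_mul, hμ1, one_pow]
    choose k _ hk using fun i => hω.eq_pow_of_pow_eq_one (hμN i)
    refine ⟨∑ i, z ^ k i, fun φ s hs => ?_⟩
    rw [map_sum, hμ2]
    refine Finset.sum_congr rfl fun i _ => ?_
    rw [map_pow, hs, ← hk, ← pow_mul, ← pow_mul, mul_comm]
  choose v hv using hval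
  obtain ⟨φ₀, hφ₀⟩ := hemb 1 (Nat.coprime_one_left N)
  -- a `p`-th root of unity in the cyclotomic field
  obtain ⟨c, hc⟩ := hpd
  obtain ⟨η₀, hη₀⟩ : ∃ η₀ : ℂ, η₀ = ω ^ c := ⟨_, rfl⟩
  have hη : IsPrimitiveRoot η₀ p := hη₀ ▸ hω.pow (Nat.pos_of_ne_zero hN) (by rw [hc, mul_comm])
  have hφη : ∀ (φ : CyclotomicField N ℚ →ₐ[ℚ] ℂ) (s : ℕ), φ z = ω ^ s →
      φ (z ^ c) = η₀ ^ s := fun φ s hs => by
    rw [map_pow, hs, hη₀, ← pow_mul, ← pow_mul, mul_comm]
  -- the eigenvalues of `x`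
  obtain ⟨b, μ, hμ⟩ := CfsgLib.Char.exists_eigenbasis_of_pow_eq_one (ρ x) hp.ne_zero
    (by rw [← map_pow, hx, map_one])
  set A := LinearMap.toMatrix b b (ρ y) with hA
  have hchi : ∀ i : ℕ, ρ.character (x ^ i * y) = ∑ k, μ k ^ i * A k k := by
    intro i
    show LinearMap.trace ℂ V (ρ (x ^ i * y)) = _
    rw [LinearMap.trace_eq_matrix_trace ℂ b, map_mul, map_pow, Module.End.mul_eq_comp,
      LinearMap.toMatrix_comp b b b, Matrix.trace]
    refine Finset.sum_congr rfl fun k _ => ?_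
    have hd : LinearMap.toMatrix b b (ρ x ^ i) = Matrix.diagonal fun k => μ k ^ i := by
      ext r s
      rw [LinearMap.toMatrix_apply]
      have : (ρ x ^ i) (b s) = μ s ^ i • b s := by
        induction i with
        | zero => simp
        | succ i ih =>
          rw [pow_succ, Module.End.mul_apply, (hμ s).1, map_smul, ih, smul_smul, pow_succ']
      rw [this, map_smul, b.repr_self, Matrix.diagonal_apply]
      by_cases hrs : r = s
      · subst hrs; simp
      · simp [hrs]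
    rw [hd, Matrix.diag_apply, Matrix.diagonal_mul]
  -- Galois twist moving `χ y`
  obtain ⟨s₀, hs₀, hne⟩ := exists_pow_char_ne ρ hinj hq hqb hy
  obtain ⟨s, hsN, hsq, hs1⟩ := exists_crt hN hq s₀ hs₀
  have hsp : s ≡ 1 [MOD p] := hs1 p ⟨c, hc⟩
    (fun h => hpq ((Nat.prime_dvd_prime_iff_eq hq hp).1 h).symm)
  set D : ℕ → ℂ := fun i => ρ.character ((x ^ i * y) ^ s) - ρ.character (x ^ i * y) with hD
  set F : (ℕ → ℂ) → ℕ → ℂ := fun f j => ∑ i ∈ range p, f i * η₀ ^ (i * j) with hF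
  set J : Finset ℕ := (range p).filter fun j => ∃ k, μ k * η₀ ^ j = 1 with hJ
  have hFchi : ∀ j < p, j ∉ J → F (fun i => ρ.character (x ^ i * y)) j = 0 := by
    intro j hj hjJ
    simp only [hF, hchi, Finset.sum_mul]
    rw [Finset.sum_comm]
    refine Finset.sum_eq_zero fun k _ => ?_
    have hne1 : μ k * η₀ ^ j ≠ 1 := fun h => hjJ (mem_filter.2 ⟨mem_range.2 hj, k, h⟩)
    calc ∑ i ∈ range p, μ k ^ i * A k k * η₀ ^ (i * j)
        = A k k * ∑ i ∈ range p, (μ k * η₀ ^ j) ^ i := by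
          rw [Finset.mul_sum]
          refine Finset.sum_congr rfl fun i _ => ?_
          rw [mul_pow, ← pow_mul, mul_comm j i]; ring
      _ = 0 := by
          rw [sum_pow_roots _ (by
            rw [mul_pow, (hμ k).2, ← pow_mul, mul_comm j p, pow_mul, hη.pow_eq_one, one_pow,
              one_mul]), if_neg hne1, mul_zero]
  have hfix : ∀ i : ℕ, η₀ ^ (i * s) = η₀ ^ i := fun i => by
    rw [mul_comm, pow_mul, pow_eq_pow_of_modEq' hη.pow_eq_one hsp, pow_one]
  have hFD : ∀ j < p, j ∉ J → F D j = 0 := by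
    intro j hj hjJ
    have h0 := hFchi j hj hjJ
    have hK : ∑ i ∈ range p, v (x ^ i * y) * (z ^ c) ^ (i * j) = 0 := by
      apply φ₀.toRingHom.injective
      rw [map_zero, map_sum]
      refine Eq.trans (Finset.sum_congr rfl fun i _ => ?_) h0
      show φ₀ (v (x ^ i * y) * (z ^ c) ^ (i * j)) = ρ.character (x ^ i * y) * η₀ ^ (i * j)
      rw [map_mul, map_pow, hv _ φ₀ 1 hφ₀, hφη φ₀ 1 hφ₀, pow_one, pow_one]
    obtain ⟨φs, hφs⟩ := hemb s hsN
    have h1 := congrArg φs hK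
    rw [map_zero, map_sum] at h1
    have h2 : ∑ i ∈ range p, ρ.character ((x ^ i * y) ^ s) * η₀ ^ (i * j) = 0 := by
      rw [← h1]
      refine Finset.sum_congr rfl fun i _ => ?_
      rw [map_mul, map_pow, hv _ φs s hφs, hφη φs s hφs, ← pow_mul η₀ s, mul_comm s, hfix]
    simp only [hF, hD, sub_mul, Finset.sum_sub_distrib]
    rw [h2]
    simp only [hF] at h0
    rw [h0, sub_zero]
  -- `D` is fixed by the automorphisms moving only the `p`-part
  have hall : ∀ j, 0 < j → j < p → F D j = 0 := by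
    intro j hj0 hj
    obtain ⟨r, hr, hrJ⟩ : ∃ r ∈ Finset.Ioo 0 p, r ∉ J := by
      by_contra hcon
      push Not at hcon
      have hsub : Finset.Ioo 0 p ⊆ J := hcon
      have hJcard : J.card ≤ finrank ℂ V := by
        have hex : ∀ j ∈ J, ∃ k, μ k * η₀ ^ j = 1 := fun j hj => (mem_filter.1 hj).2
        rw [← Fintype.card_fin (finrank ℂ V), ← Finset.card_univ]
        rcases J.eq_empty_or_nonempty with h | ⟨j₁, hj₁⟩
        · simp [h]
        have : Nonempty (Fin (finrank ℂ V)) := ⟨(hex j₁ hj₁).choose⟩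
        choose! f hf using hex
        refine Finset.card_le_card_of_injOn f (fun _ _ => Finset.mem_univ _) ?_
        intro a ha a' ha' hfe
        have h1 := hf a ha
        have h2 := hf a' ha'
        rw [← hfe, ← h1] at h2
        have hμ0 : μ (f a) ≠ 0 := fun h => by simp [h] at h1
        exact hη.pow_inj (mem_range.1 (mem_filter.1 ha).1) (mem_range.1 (mem_filter.1 ha').1)
          (mul_left_cancel₀ hμ0 h2).symm
      have := (Finset.card_le_card hsub).trans hJcard
      rw [Nat.card_Ioo] at this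
      omega
    rw [Finset.mem_Ioo] at hr
    -- `t * r ≡ j` modulo `p`
    have hrp : r.Coprime p := Nat.Coprime.symm (hp.coprime_iff_not_dvd.2 fun h =>
      absurd (Nat.le_of_dvd hr.1 h) (by omega))
    obtain ⟨r', -, hr'⟩ := Nat.exists_mul_mod_eq_one_of_coprime hrp hp.one_lt
    have htr : r' * j * r ≡ j [MOD p] := by
      have : r * r' ≡ 1 [MOD p] := by rw [Nat.ModEq, hr', Nat.one_mod_eq_one.2 hp.ne_one]
      have := this.mul_right j
      rw [one_mul] at this
      rwa [show r' * j * r = r * r' * j by ring]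
    have ht0 : ¬ p ∣ r' * j := by
      intro h
      have : p ∣ j := (htr.dvd_iff dvd_rfl).1 (h.mul_right r)
      exact absurd (Nat.le_of_dvd hj0 this) (by omega)
    obtain ⟨t, htN, htp, ht1⟩ := exists_crt hN hp (r' * j) ht0
    have h0 := hFD r hr.2 hrJ
    have hK : ∑ i ∈ range p, (v ((x ^ i * y) ^ s) - v (x ^ i * y)) * (z ^ c) ^ (i * r) = 0 := by
      apply φ₀.toRingHom.injective
      rw [map_zero, map_sum]
      refine Eq.trans (Finset.sum_congr rfl fun i _ => ?_) h0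
      show φ₀ ((v ((x ^ i * y) ^ s) - v (x ^ i * y)) * (z ^ c) ^ (i * r)) = D i * η₀ ^ (i * r)
      rw [map_mul, map_sub, map_pow, hv _ φ₀ 1 hφ₀, hv _ φ₀ 1 hφ₀, hφη φ₀ 1 hφ₀, pow_one, pow_one,
        pow_one]
    obtain ⟨φt, hφt⟩ := hemb t htN
    have h1 := congrArg φt hK
    rw [map_zero, map_sum] at h1
    rw [← h1]
    refine Finset.sum_congr rfl fun i _ => ?_
    rw [map_mul, map_sub, map_pow, hv _ φt t hφt, hv _ φt t hφt, hφη φt t hφt, ← pow_mul η₀ t]
    congr 1
    · simp only [hD]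
      by_cases hqg : q ∣ orderOf (x ^ i * y)
      · have hpg : ¬ p ∣ orderOf (x ^ i * y) := fun h => hno _ ⟨h, hqg⟩
        have hgt := pow_eq_self_of_modEq (g := x ^ i * y) (ht1 _ (orderOf_dvd_natCard _) hpg)
        rw [hgt, ← pow_mul, mul_comm s t, pow_mul, hgt]
      · rw [pow_eq_self_of_modEq (g := x ^ i * y) (hs1 _ (orderOf_dvd_natCard _) hqg), sub_self,
          sub_self]
    · refine pow_eq_pow_of_modEq' hη.pow_eq_one ?_
      calc i * j ≡ i * (r' * j * r) [MOD p] := (Nat.ModEq.mul_left i htr).symm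
        _ ≡ i * (t * r) [MOD p] := Nat.ModEq.mul_left i (Nat.ModEq.mul_right r htp.symm)
        _ = t * (i * r) := by ring
  -- hence `D` is constant
  have hconst : ∀ i₀ < p, (p : ℂ) * D i₀ = F D 0 := by
    intro i₀ hi₀
    have h1 : ∑ j ∈ range p, F D j * η₀ ^ (j * (p - i₀)) = (p : ℂ) * D i₀ := by
      simp only [hF, Finset.sum_mul]
      rw [Finset.sum_comm, Finset.sum_eq_single i₀]
      · rw [Finset.sum_congr rfl fun j _ => ?_, Finset.sum_const, card_range, nsmul_eq_mul]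
        rw [mul_assoc, ← pow_add, mul_comm i₀ j, ← mul_add, Nat.add_sub_cancel' hi₀.le,
          mul_comm j p, pow_mul, hη.pow_eq_one, one_pow, mul_one]
      · intro i hi hne
        have hz1 : η₀ ^ (i + (p - i₀)) ≠ 1 := fun h => by
          rw [mem_range] at hi
          obtain ⟨d, hd⟩ := hη.dvd_of_pow_eq_one _ h
          rcases d with _ | _ | d
          · omega
          · simp at hd; omega
          · have : 2 * p ≤ p * (d + 1 + 1) := by
              rw [mul_comm p]; exact Nat.mul_le_mul_right p (by omega)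
            omega
        calc ∑ j ∈ range p, D i * η₀ ^ (i * j) * η₀ ^ (j * (p - i₀))
            = D i * ∑ j ∈ range p, (η₀ ^ (i + (p - i₀))) ^ j := by
              rw [Finset.mul_sum]
              refine Finset.sum_congr rfl fun j _ => ?_
              rw [mul_assoc, ← pow_add, ← pow_mul]
              congr 2; ring
          _ = 0 := by
              rw [sum_pow_roots _ (by rw [← pow_mul, mul_comm, pow_mul, hη.pow_eq_one, one_pow]),
                if_neg hz1, mul_zero]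
      · intro h; exact absurd (mem_range.2 hi₀) h
    rw [← h1, ← Finset.add_sum_erase _ _ (mem_range.2 hp.pos)]
    rw [Finset.sum_eq_zero fun j hj => ?_, add_zero, zero_mul, pow_zero, mul_one]
    rw [Finset.mem_erase, mem_range] at hj
    rw [hall j (Nat.pos_of_ne_zero hj.1) hj.2, zero_mul]
  have hD0 : D 0 ≠ 0 := by
    simp only [hD, pow_zero, one_mul, Ne, sub_eq_zero]
    rw [pow_eq_pow_of_modEq' (by rw [← hy, pow_orderOf_eq_one]) hsq]
    exact hne
  by_contra hnd
  refine hD0 ?_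
  have hD1 : D 1 = 0 := by
    simp only [hD, pow_one]
    rw [pow_eq_self_of_modEq (hs1 _ (orderOf_dvd_natCard _) hnd), sub_self]
  have h := (hconst 0 hp.pos).trans (hconst 1 hp.one_lt).symm
  rw [hD1, mul_zero] at h
  exact (mul_eq_zero.1 h).resolve_left (Nat.cast_ne_zero.2 hp.ne_zero)

/-- **Blichfeldt.** Two primes exceeding `n + 1` dividing the order of a linear group of degree
`n` both divide the order of a single element. -/
theorem exists_orderOf_dvd (ρ : Representation ℂ G V) (hinj : Function.Injective ρ) {p q : ℕ}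
    (hp : p.Prime) (hq : q.Prime) (hpq : p ≠ q) (hpb : finrank ℂ V + 1 < p)
    (hqb : finrank ℂ V + 1 < q) (hpd : p ∣ Nat.card G) (hqd : q ∣ Nat.card G) :
    ∃ g : G, p ∣ orderOf g ∧ q ∣ orderOf g := by
  have : Fact p.Prime := ⟨hp⟩
  have : Fact q.Prime := ⟨hq⟩
  by_contra hno
  push Not at hno
  obtain ⟨x, hx⟩ := exists_prime_orderOf_dvd_card' p hpd
  obtain ⟨y, hy⟩ := exists_prime_orderOf_dvd_card' q hqd
  have hno' : ∀ g : G, ¬ (p ∣ orderOf g ∧ q ∣ orderOf g) := fun g h => hno g h.1 h.2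
  have h1 := dvd_orderOf_mul ρ hinj hp hq hpq hpb hqb hno'
    (by rw [← hx, pow_orderOf_eq_one]) hy hpd
  have h2 := dvd_orderOf_mul ρ hinj hq hp hpq.symm hqb hpb (fun g h => hno' g ⟨h.2, h.1⟩)
    (by rw [← hy, pow_orderOf_eq_one]) hx hqd
  have hconj : orderOf (y * x) = orderOf (x * y) := by
    rw [show y * x = MulAut.conj y (x * y) by simp [MulAut.conj_apply, mul_assoc]]
    exact (MulAut.conj y).orderOf_eq _
  rw [hconj] at h2
  exact hno' _ ⟨h2, h1⟩

end CfsgLib.CharDeep.PrimeGraphBound
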