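import Cfsg.Agent.Lib.CharDeep.SmallCommute
import Cfsg.Agent.Lib.CharDeep.PrimeGraphBound
import Cfsg.Agent.Lib.Solvable.FrattiniFitting
import Mathlib.NumberTheory.PrimeCounting

/-!
# Blichfeldt's abelian Hall subgroup and Frobenius' form of Jordan's theorem
-/

set_option autoImplicit false

open scoped InnerProductSpace
open Module Subgroup

namespace CfsgLib.CharDeep.Blichfeldt

open CfsgLib.CharDeep.SmallCommute

universe u v

variable {G : Type u} [Group G] {V : Type v} [NormedAddCommGroup V]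
  [InnerProductSpace ℂ V] [FiniteDimensional ℂ V]

section Rep

variable (σ : Representation ℂ G V) (hU : ∀ g v w, ⟪σ g v, σ g w⟫_ℂ = ⟪v, w⟫_ℂ)
include hU

omit [FiniteDimensional ℂ V] in
theorem mem_spectrum (A : Subgroup G) (Φ : Finset (A → ℂ))
    (hsup : (⨆ φ ∈ Φ, common σ A φ) = ⊤) {ψ : A → ℂ} {v : V} (hv : v ∈ common σ A ψ)
    (hv0 : v ≠ 0) : ψ ∈ Φ := by
  by_contra hψ
  refine hv0 (inner_self_eq_zero (𝕜 := ℂ).1 ?_)
  have hle : (⊤ : Submodule ℂ V) ≤ LinearMap.ker (innerSL ℂ v).toLinearMap := by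
    rw [← hsup]
    refine iSup₂_le fun φ hφ w hw => ?_
    simp only [LinearMap.mem_ker, ContinuousLinearMap.coe_coe, innerSL_apply_apply]
    exact inner_eq_zero σ hU A (fun h : ψ = φ => hψ (h ▸ hφ)) hv hw
  simpa using hle (Submodule.mem_top (x := v))

theorem relIndex_centralizer_dvd (hinj : Function.Injective σ) (A H : Subgroup G)
    (hA : ∀ x ∈ A, ∀ y ∈ A, x * y = y * x) (hnorm : ∀ h ∈ H, ∀ a ∈ A, h⁻¹ * a * h ∈ A) :
    (Subgroup.centralizer (A : Set G)).relIndex H ∣ (finrank ℂ V).factorial := by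
  classical
  obtain ⟨Φ, hcard, hne, hsup⟩ := exists_spectrum σ hU A hA
  let c : H → A → A := fun h a => ⟨(h : G)⁻¹ * a * h, hnorm h h.2 a a.2⟩
  have hmap : ∀ (h : H) (φ : A → ℂ) (v : V), v ∈ common σ A φ →
      σ h v ∈ common σ A (φ ∘ c h) := by
    intro h φ v hv a
    rw [← Module.End.mul_apply, ← map_mul, show (a : G) * h = h * (c h a : G) by simp [c, mul_assoc],
      map_mul, Module.End.mul_apply, hv, map_smul]
    rfl
  have hmem : ∀ (h : H) (φ : Φ), (φ : A → ℂ) ∘ c h ∈ Φ := fun h φ => by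
    obtain ⟨v, hv, hv0⟩ := (common σ A φ).ne_bot_iff.1 (hne φ φ.2)
    refine mem_spectrum σ hU A Φ hsup (hmap h φ v hv) fun e => hv0 ?_
    rw [← norm_eq_zero, ← norm_rho σ hU h v, e, norm_zero]
  let f : H → Φ → Φ := fun h φ => ⟨_, hmem h φ⟩
  have hf1 : ∀ φ, f 1 φ = φ := fun φ => by
    apply Subtype.ext
    funext a
    show (φ : A → ℂ) (c 1 a) = (φ : A → ℂ) a
    rw [show c 1 a = a from Subtype.ext (by simp [c])]
  have hfm : ∀ h k φ, f (h * k) φ = f h (f k φ) := fun h k φ => by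
    apply Subtype.ext
    funext a
    show (φ : A → ℂ) (c (h * k) a) = (φ : A → ℂ) (c k (c h a))
    rw [show c (h * k) a = c k (c h a) from Subtype.ext (by simp [c, mul_assoc])]
  let θ : H →* Equiv.Perm Φ :=
    { toFun := fun h => ⟨f h, f h⁻¹, fun φ => by rw [← hfm, inv_mul_cancel, hf1],
        fun φ => by rw [← hfm, mul_inv_cancel, hf1]⟩
      map_one' := Equiv.ext hf1
      map_mul' := fun h k => Equiv.ext (hfm h k) }
  have hker : θ.ker ≤ (Subgroup.centralizer (A : Set G)).subgroupOf H := by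
    intro h hh
    rw [MonoidHom.mem_ker] at hh
    rw [Subgroup.mem_subgroupOf, Subgroup.mem_centralizer_iff]
    intro a ha
    have e : (h : G)⁻¹ * a * h = a := by
      refine hinj (LinearMap.ext fun v => ?_)
      have hle : (⊤ : Submodule ℂ V) ≤ LinearMap.eqLocus (σ ((h : G)⁻¹ * a * h)) (σ a) := by
        rw [← hsup]
        refine iSup₂_le fun φ hφ v hv => ?_
        show σ ((c h ⟨a, ha⟩ : G)) v = σ a v
        rw [hv (c h ⟨a, ha⟩), hv ⟨a, ha⟩]
        exact congrArg (· • v)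
          (congrFun (congrArg Subtype.val (Equiv.congr_fun hh ⟨φ, hφ⟩)) ⟨a, ha⟩)
      exact hle (Submodule.mem_top (x := v))
    rw [mul_assoc, inv_mul_eq_iff_eq_mul] at e
    exact e
  refine (Subgroup.index_dvd_of_le hker).trans ?_
  rw [Subgroup.index_ker]
  refine (Subgroup.card_subgroup_dvd_card θ.range).trans ?_
  rw [Nat.card_eq_fintype_card, Fintype.card_perm, Fintype.card_coe]
  exact Nat.factorial_dvd_factorial hcard

end Rep

theorem exists_maximal_abelian_normal [Finite G] {p : ℕ} [Fact p.Prime] (hG : IsPGroup p G) :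
    ∃ A : Subgroup G, A.Normal ∧ (∀ x ∈ A, ∀ y ∈ A, x * y = y * x) ∧
      Subgroup.centralizer (A : Set G) ≤ A := by
  classical
  have : Fintype (Subgroup G) := Fintype.ofFinite _
  obtain ⟨A, hA, hmax⟩ := Finset.exists_max_image
    (Finset.univ.filter fun A : Subgroup G => A.Normal ∧ ∀ x ∈ A, ∀ y ∈ A, x * y = y * x)
    (fun A => Nat.card A) ⟨⊥, by
      simp only [Finset.mem_filter, Finset.mem_univ, true_and]
      exact ⟨inferInstance, fun x hx y hy => by rw [Subgroup.mem_bot.1 hx, Subgroup.mem_bot.1 hy]⟩⟩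
  obtain ⟨-, hAn, hAc⟩ := Finset.mem_filter.1 hA
  refine ⟨A, hAn, hAc, ?_⟩
  by_contra hle
  set C := Subgroup.centralizer (A : Set G) with hC
  have : C.Normal := Subgroup.normal_centralizer
  set π := QuotientGroup.mk' A with hπ
  have : (C.map π).Normal := Subgroup.Normal.map this π (QuotientGroup.mk'_surjective A)
  have hne : C.map π ≠ ⊥ := fun h => hle (fun x hx => by
    have : π x ∈ (⊥ : Subgroup (G ⧸ A)) := h ▸ Subgroup.mem_map_of_mem π hx
    exact (QuotientGroup.eq_one_iff x).1 this)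
  have : Group.IsNilpotent (G ⧸ A) := (hG.to_quotient A).isNilpotent
  obtain ⟨z, hz, hz1⟩ := (Subgroup.ne_bot_iff_exists_ne_one (H := C.map π ⊓ center (G ⧸ A))).1
    (CfsgLib.Solvable.FrattiniFitting.inf_center_ne_bot _ hne) |>.elim
      fun z hz => (⟨z.1, z.2, fun e => hz (Subtype.ext e)⟩ : ∃ z, z ∈ C.map π ⊓ center (G ⧸ A) ∧ z ≠ 1)
  obtain ⟨x, hx, rfl⟩ := hz.1
  set B := (zpowers (π x)).comap π with hB
  have hBn : B.Normal := by
    have : (zpowers (π x)).Normal := ⟨fun k hk g => by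
      have hcen : k ∈ center (G ⧸ A) := (zpowers_le.2 hz.2) hk
      rw [(Subgroup.mem_center_iff.1 hcen) g, mul_inv_cancel_right]
      exact hk⟩
    exact this.comap π
  have hdec : ∀ b ∈ B, ∃ k : ℤ, ∃ a ∈ A, b = a * x ^ k := fun b hb => by
    obtain ⟨k, hk⟩ := Subgroup.mem_zpowers_iff.1 hb
    refine ⟨k, b * (x ^ k)⁻¹, ?_, by group⟩
    rw [← QuotientGroup.eq_one_iff]
    show π (b * (x ^ k)⁻¹) = 1
    rw [map_mul, map_inv, map_zpow, hk, mul_inv_cancel]
  have hBc : ∀ s ∈ B, ∀ t ∈ B, s * t = t * s := by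
    intro s hs t ht
    obtain ⟨k, a, ha, rfl⟩ := hdec s hs
    obtain ⟨l, b, hb, rfl⟩ := hdec t ht
    have hxa : ∀ a ∈ A, Commute a x := fun a ha => Subgroup.mem_centralizer_iff.1 hx a ha
    have h1 : Commute (a * x ^ k) (b * x ^ l) :=
      ((show Commute a b from hAc a ha b hb).mul_right ((hxa a ha).zpow_right l)).mul_left
        (((hxa b hb).zpow_right k).symm.mul_right ((Commute.refl x).zpow_zpow k l))
    exact h1
  have hAB : A ≤ B := fun a ha => by
    rw [hB, Subgroup.mem_comap, show π a = 1 from (QuotientGroup.eq_one_iff a).2 ha]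
    exact one_mem _
  have hxB : x ∈ B := mem_zpowers (π x)
  have h1 := hmax B (Finset.mem_filter.2 ⟨Finset.mem_univ _, hBn, hBc⟩)
  have h2 : A = B := Subgroup.eq_of_le_of_card_ge hAB h1
  exact hz1 ((QuotientGroup.eq_one_iff x).2 (h2 ▸ hxB))

theorem exists_abelian_index_dvd [Finite G] (σ : Representation ℂ G V)
    (hU : ∀ g v w, ⟪σ g v, σ g w⟫_ℂ = ⟪v, w⟫_ℂ) (hinj : Function.Injective σ) {p : ℕ}
    [Fact p.Prime] (hG : IsPGroup p G) :
    ∃ A : Subgroup G, (∀ x ∈ A, ∀ y ∈ A, x * y = y * x) ∧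
      A.index ∣ (finrank ℂ V).factorial := by
  obtain ⟨A, hAn, hAc, hAC⟩ := exists_maximal_abelian_normal hG
  refine ⟨A, hAc, ?_⟩
  have h := relIndex_centralizer_dvd σ hU hinj A ⊤ hAc fun h _ a ha => by
    simpa using hAn.conj_mem a ha h⁻¹
  rw [Subgroup.relIndex_top_right] at h
  exact (Subgroup.index_dvd_of_le hAC).trans h

/-- A `p`-subgroup of a linear group of degree `< p` is abelian. -/
theorem comm_of_pGroup [Finite G] (σ : Representation ℂ G V)
    (hU : ∀ g v w, ⟪σ g v, σ g w⟫_ℂ = ⟪v, w⟫_ℂ) (hinj : Function.Injective σ) {p : ℕ}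
    [Fact p.Prime] (hp : finrank ℂ V < p) {P : Subgroup G} (hP : IsPGroup p P) :
    ∀ x ∈ P, ∀ y ∈ P, x * y = y * x := by
  obtain ⟨A, hAc, hAi⟩ := exists_abelian_index_dvd (σ.comp P.subtype) (fun g v w => hU g v w)
    (hinj.comp P.subtype_injective) hP
  obtain ⟨k, hk⟩ := hP.index A
  have htop : A = ⊤ := by
    rw [← Subgroup.index_eq_one, hk]
    rcases Nat.eq_zero_or_pos k with h | h
    · rw [h, pow_zero]
    · exfalso
      have h1 : p ∣ (finrank ℂ V).factorial := (dvd_pow_self p h.ne').trans (hk ▸ hAi)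
      exact absurd ((Fact.out : p.Prime).dvd_factorial.1 h1) (Nat.not_le.2 hp)
  intro x hx y hy
  exact congrArg Subtype.val (hAc ⟨x, hx⟩ (by rw [htop]; trivial) ⟨y, hy⟩ (by rw [htop]; trivial))

/-- A `p`-subgroup of a linear group of degree `< p` centralizes every abelian subgroup it
normalizes. -/
theorem le_centralizer_of_normalizes [Finite G] (σ : Representation ℂ G V)
    (hU : ∀ g v w, ⟪σ g v, σ g w⟫_ℂ = ⟪v, w⟫_ℂ) (hinj : Function.Injective σ) {p : ℕ}
    [Fact p.Prime] (hp : finrank ℂ V < p) {P : Subgroup G} (hP : IsPGroup p P) {A : Subgroup G}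
    (hA : ∀ x ∈ A, ∀ y ∈ A, x * y = y * x) (hn : P ≤ normalizer (A : Set G)) :
    P ≤ Subgroup.centralizer (A : Set G) := by
  have h := relIndex_centralizer_dvd σ hU hinj A P hA fun x hx a ha => by
    have := (Subgroup.mem_normalizer_iff.1 (inv_mem (hn hx)) a).1 ha
    simpa using this
  obtain ⟨k, hk⟩ := hP.index ((Subgroup.centralizer (A : Set G)).subgroupOf P)
  change (Subgroup.centralizer (A : Set G)).relIndex P = p ^ k at hk
  rw [← Subgroup.relIndex_eq_one, hk]
  rcases Nat.eq_zero_or_pos k with h' | h'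
  · rw [h', pow_zero]
  · exfalso
    have h1 : p ∣ (finrank ℂ V).factorial := (dvd_pow_self p h'.ne').trans (hk ▸ h)
    exact absurd ((Fact.out : p.Prime).dvd_factorial.1 h1) (Nat.not_le.2 hp)

theorem exists_sylow_le [Finite G] {p : ℕ} [Fact p.Prime] (A : Subgroup G)
    (h : ¬ p ∣ A.index) : ∃ S : Sylow p G, (S : Subgroup G) ≤ A := by
  let R : Sylow p A := Classical.arbitrary _
  refine ⟨Sylow.ofCard ((R : Subgroup A).map A.subtype) ?_, ?_⟩
  · rw [Subgroup.card_map_of_injective A.subtype_injective, Sylow.card_eq_multiplicity,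
      ← A.card_mul_index, Nat.factorization_mul Nat.card_pos.ne' Subgroup.index_ne_zero_of_finite,
      Finsupp.add_apply, Nat.factorization_eq_zero_of_not_dvd h, add_zero]
  · rw [Sylow.coe_ofCard]
    exact Subgroup.map_subtype_le _

theorem not_dvd_index_of_sylow_le [Finite G] {p : ℕ} [Fact p.Prime] {A : Subgroup G}
    (S : Sylow p G) (h : (S : Subgroup G) ≤ A) : ¬ p ∣ A.index := fun hd =>
  S.not_dvd_index (hd.trans (Subgroup.index_dvd_of_le h))

theorem mem_of_coprime_index [Finite G] (L : Subgroup G) [L.Normal] {x : G} {m : ℕ}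
    (hx : x ^ m = 1) (hco : m.Coprime L.index) : x ∈ L := by
  rw [← QuotientGroup.eq_one_iff, ← orderOf_eq_one_iff]
  refine Nat.eq_one_of_dvd_coprimes hco (orderOf_dvd_of_pow_eq_one ?_) ?_
  · rw [← QuotientGroup.mk_pow, hx, QuotientGroup.mk_one]
  · exact L.index_eq_card ▸ orderOf_dvd_natCard _

theorem comm_sup {P Q : Subgroup G} (hP : ∀ x ∈ P, ∀ y ∈ P, x * y = y * x)
    (hQ : ∀ x ∈ Q, ∀ y ∈ Q, x * y = y * x) (hPQ : P ≤ Subgroup.centralizer (Q : Set G)) :
    ∀ x ∈ P ⊔ Q, ∀ y ∈ P ⊔ Q, x * y = y * x := by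
  have hQP : Q ≤ Subgroup.centralizer (P : Set G) := Subgroup.le_centralizer_iff.1 hPQ
  have h1 : P ⊔ Q ≤ Subgroup.centralizer (P : Set G) :=
    sup_le (fun x hx => Subgroup.mem_centralizer_iff.2 fun y hy => hP y hy x hx) hQP
  have h2 : P ⊔ Q ≤ Subgroup.centralizer (Q : Set G) :=
    sup_le hPQ (fun x hx => Subgroup.mem_centralizer_iff.2 fun y hy => hQ y hy x hx)
  have h3 : P ⊔ Q ≤ Subgroup.centralizer ((P ⊔ Q : Subgroup G) : Set G) :=
    sup_le (Subgroup.le_centralizer_iff.1 h1) (Subgroup.le_centralizer_iff.1 h2)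
  intro x hx y hy
  exact Subgroup.mem_centralizer_iff.1 (h3 hy) x hx

theorem card_sup_dvd {P Q : Subgroup G} (hPQ : P ≤ Subgroup.centralizer (Q : Set G)) :
    Nat.card (P ⊔ Q : Subgroup G) ∣ Nat.card P * Nat.card Q := by
  let φ : P × Q →* G := MonoidHom.noncommCoprod P.subtype Q.subtype fun x y =>
    (Subgroup.mem_centralizer_iff.1 (hPQ x.2) y y.2).symm
  have hr : φ.range = P ⊔ Q := by
    exact (MonoidHom.noncommCoprod_range _ _ _).trans (by simp)
  rw [← hr, ← Nat.card_prod]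
  exact Subgroup.card_range_dvd φ

variable (G) in
/-- An abelian Hall subgroup for the primes exceeding `n + 1`. -/
def AbHall (n : ℕ) : Prop :=
  ∃ A : Subgroup G, (∀ x ∈ A, ∀ y ∈ A, x * y = y * x) ∧
    (∀ q : ℕ, q.Prime → q ∣ Nat.card A → n + 1 < q) ∧
    ∀ q : ℕ, q.Prime → q ∣ A.index → q ≤ n + 1

variable (G) in
/-- An abelian subgroup of index prime to both `p` and `q`. -/
def Pair (p q : ℕ) : Prop :=
  ∃ A : Subgroup G, (∀ x ∈ A, ∀ y ∈ A, x * y = y * x) ∧ ¬ p ∣ A.index ∧ ¬ q ∣ A.index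

theorem Pair.symm {p q : ℕ} (h : Pair G p q) : Pair G q p := by
  obtain ⟨A, h1, h2, h3⟩ := h
  exact ⟨A, h1, h3, h2⟩

theorem lift {n p q : ℕ} (hp : p.Prime) (hq : q.Prime) (hpb : n + 1 < p) (hqb : n + 1 < q)
    {K : Subgroup G} (hK : AbHall K n) (hpi : ¬ p ∣ K.index) (hqi : ¬ q ∣ K.index) :
    Pair G p q := by
  obtain ⟨A, hAc, -, hAi⟩ := hK
  refine ⟨A.map K.subtype, ?_, ?_, ?_⟩
  · rintro _ ⟨x, hx, rfl⟩ _ ⟨y, hy, rfl⟩
    exact congrArg K.subtype (hAc x hx y hy)
  · rw [Subgroup.index_map_subtype, hp.dvd_mul]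
    rintro (h | h)
    · exact absurd (hAi p hp h) (by omega)
    · exact hpi h
  · rw [Subgroup.index_map_subtype, hq.dvd_mul]
    rintro (h | h)
    · exact absurd (hAi q hq h) (by omega)
    · exact hqi h

theorem exists_kernel [Finite G] (σ : Representation ℂ G V) (hinj : Function.Injective σ)
    {r : ℕ} [Fact r.Prime] (hr : finrank ℂ V < r) {z : G} (hz : orderOf z = r)
    (hzc : z ∈ center G) :
    ∃ K : Subgroup G, K.Normal ∧ z ∉ K ∧ ∃ k : ℕ, K.index = r ^ k := by
  classical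
  obtain ⟨b, μ, hμ1, hμ2⟩ := CfsgLib.Char.exists_eigenbasis σ z
  have hex : ∃ i, μ i ≠ 1 := by
    by_contra h
    push Not at h
    have : σ z = σ 1 := by
      rw [map_one]
      refine b.ext fun i => ?_
      have := hμ2 1 i
      rw [pow_one, pow_one, h i, one_smul] at this
      rw [this, Module.End.one_apply]
    rw [hinj this, orderOf_one] at hz
    exact (Fact.out : r.Prime).one_lt.ne hz
  obtain ⟨i, hi⟩ := hex
  set E := Module.End.eigenspace (σ z) (μ i) with hE
  have hinv : ∀ g, ∀ v ∈ E, σ g v ∈ E := fun g v hv => by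
    rw [hE, Module.End.mem_eigenspace_iff] at hv ⊢
    rw [← Module.End.mul_apply, ← map_mul, ← (Subgroup.mem_center_iff.1 hzc g), map_mul,
      Module.End.mul_apply, hv, map_smul]
  let τ : G →* Module.End ℂ E :=
    { toFun := fun g => (σ g).restrict (hinv g)
      map_one' := LinearMap.ext fun v => Subtype.ext (by simp)
      map_mul' := fun g h => LinearMap.ext fun v => Subtype.ext (by simp) }
  let f : G →* ℂ := (LinearMap.det : Module.End ℂ E →* ℂ).comp τ
  have hfz : f z = μ i ^ finrank ℂ E := by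
    have hτ : τ z = μ i • LinearMap.id :=
      LinearMap.ext fun v => Subtype.ext (Module.End.mem_eigenspace_iff.1 v.2)
    show LinearMap.det (τ z) = _
    rw [hτ, LinearMap.det_smul, LinearMap.det_id, mul_one]
  have hbi : b i ∈ E := Module.End.mem_eigenspace_iff.2 (by simpa using hμ2 1 i)
  have hEpos : 0 < finrank ℂ E := by
    rw [Module.finrank_pos_iff]
    exact ⟨⟨b i, hbi⟩, 0, fun e => b.ne_zero i (congrArg Subtype.val e)⟩
  set e := Nat.card G / r ^ (Nat.card G).factorization r with he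
  have hre : ¬ r ∣ e := Nat.not_dvd_ordCompl Fact.out Nat.card_pos.ne'
  let F : G →* ℂˣ := (powMonoidHom e).comp f.toHomUnits
  refine ⟨F.ker, inferInstance, fun h => ?_, ?_⟩
  · rw [MonoidHom.mem_ker] at h
    have h1 : μ i ^ (finrank ℂ E * e) = 1 := by
      rw [pow_mul, ← hfz]
      exact congrArg Units.val h
    have h2 := orderOf_dvd_of_pow_eq_one h1
    rw [hz] at hμ1
    rw [orderOf_eq_prime (hμ1 i) hi, (Fact.out : r.Prime).dvd_mul] at h2
    rcases h2 with h2 | h2
    · have := Nat.le_of_dvd hEpos h2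
      have := Submodule.finrank_le E
      omega
    · exact hre h2
  · have hpg : IsPGroup r F.range := by
      rintro ⟨_, g, rfl⟩
      refine ⟨(Nat.card G).factorization r, Subtype.ext ?_⟩
      show F g ^ r ^ (Nat.card G).factorization r = 1
      show (f.toHomUnits g ^ e) ^ r ^ (Nat.card G).factorization r = 1
      rw [← pow_mul, mul_comm, Nat.ordProj_mul_ordCompl_eq_self, ← map_pow, pow_card_eq_one',
        map_one]
    have : Finite F.range := Finite.of_surjective _ F.rangeRestrict_surjective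
    obtain ⟨k, hk⟩ := IsPGroup.iff_card.1 hpg
    exact ⟨k, by rw [Subgroup.index_ker, hk]⟩

theorem pair_of_center_same [Finite G] (σ : Representation ℂ G V)
    (hU : ∀ g v w, ⟪σ g v, σ g w⟫_ℂ = ⟪v, w⟫_ℂ) (hinj : Function.Injective σ)
    (IH : ∀ K : Subgroup G, K ≠ ⊤ → AbHall K (finrank ℂ V)) {p q : ℕ} [Fact p.Prime]
    [Fact q.Prime] (hpq : p ≠ q) (hpb : finrank ℂ V + 1 < p) (hqb : finrank ℂ V + 1 < q)
    {K : Subgroup G} [K.Normal] (hK : K ≠ ⊤) {k : ℕ} (hk : K.index = p ^ k) :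
    Pair G p q := by
  classical
  have hp : p.Prime := Fact.out
  have hq : q.Prime := Fact.out
  have hqp : ∀ j, ¬ q ∣ p ^ j := fun j h =>
    hpq ((Nat.prime_dvd_prime_iff_eq hq hp).1 (hq.dvd_of_dvd_pow h)).symm
  obtain ⟨A, hAc, -, hAi⟩ := IH K hK
  have hAp : ¬ p ∣ A.index := fun h => absurd (hAi p hp h) (by omega)
  have hAq : ¬ q ∣ A.index := fun h => absurd (hAi q hq h) (by omega)
  obtain ⟨S, hSA⟩ := exists_sylow_le (p := p) A hAp
  set P₀ := (S : Subgroup K).map K.subtype with hP₀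
  obtain ⟨P, hP⟩ := (S.isPGroup'.map K.subtype).exists_le_sylow
  have hPc := comm_of_pGroup σ hU hinj (by omega : finrank ℂ V < p) P.isPGroup'
  set N := Subgroup.centralizer (P₀ : Set G) with hN
  have hPN : (P : Subgroup G) ≤ N := fun x hx =>
    Subgroup.mem_centralizer_iff.2 fun y hy => hPc y (hP hy) x hx
  have hAN : A.map K.subtype ≤ N := by
    rintro _ ⟨a, ha, rfl⟩
    refine Subgroup.mem_centralizer_iff.2 ?_
    rintro _ ⟨s, hs, rfl⟩
    exact congrArg K.subtype (hAc s (hSA hs) a ha)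
  have hNq : ¬ q ∣ N.index := fun h => by
    have h1 := h.trans (Subgroup.index_dvd_of_le hAN)
    rw [Subgroup.index_map_subtype, hq.dvd_mul, hk] at h1
    exact h1.elim hAq (hqp k)
  by_cases hNtop : N = ⊤
  swap
  · exact lift hp hq hpb hqb (IH N hNtop) (not_dvd_index_of_sylow_le P hPN) hNq
  -- now the Sylow `p`-subgroup `P₀` of `K` is central in `G`
  have hcen : ∀ s ∈ (S : Subgroup K), ∀ g : G, g * s = s * g := fun s hs g => by
    have hg : g ∈ N := hNtop.symm ▸ Subgroup.mem_top g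
    exact ((Subgroup.mem_centralizer_iff.1 hg) (s : G) ⟨s, hs, rfl⟩).symm
  have : (S : Subgroup K).Normal := ⟨fun s hs g => by
    rw [show g * s * g⁻¹ = s by
      rw [mul_inv_eq_iff_eq_mul]
      exact Subtype.ext (hcen s hs g)]
    exact hs⟩
  obtain ⟨L, hL⟩ := Subgroup.exists_left_complement'_of_coprime S.card_coprime_index
  have hLcard : Nat.card L = (S : Subgroup K).index := by
    rw [← hL.index_eq_card]
  have hLp : ¬ p ∣ Nat.card L := hLcard ▸ S.not_dvd_index
  obtain ⟨j, hj⟩ := IsPGroup.iff_card.1 S.isPGroup'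
  set L₀ := L.map K.subtype with hL₀
  have hLidx : L₀.index = p ^ (j + k) := by
    rw [hL₀, Subgroup.index_map_subtype, hk, hL.symm.index_eq_card, hj, pow_add]
  have : L₀.Normal := ⟨by
    rintro _ ⟨l, hl, rfl⟩ g
    set l' : K := ⟨g * l * g⁻¹, Subgroup.Normal.conj_mem ‹_› _ l.2 g⟩ with hl'
    obtain ⟨⟨⟨a, ha⟩, ⟨s, hs⟩⟩, has⟩ := hL.2 l'
    have has' : a * s = l' := has
    have hcomm : Commute a s := Subtype.ext (hcen s hs a)
    have h1 : l' ^ Nat.card L = 1 := by
      have e : l ^ Nat.card L = 1 := congrArg Subtype.val (pow_card_eq_one' (x := (⟨l, hl⟩ : L)))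
      refine Subtype.ext ?_
      rw [SubmonoidClass.coe_pow, hl', conj_pow, ← SubmonoidClass.coe_pow, e]
      simp
    have h2 : s ^ Nat.card L = 1 := by
      rw [← has', hcomm.mul_pow,
        show a ^ Nat.card L = 1 from congrArg Subtype.val (pow_card_eq_one' (x := (⟨a, ha⟩ : L))),
        one_mul] at h1
      exact h1
    have h3 : s = 1 := by
      rw [← orderOf_eq_one_iff]
      refine Nat.eq_one_of_dvd_coprimes (k := orderOf s) ?_ (orderOf_dvd_of_pow_eq_one h2)
        (Subgroup.orderOf_dvd_natCard _ hs)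
      rw [hj]
      exact Nat.Coprime.pow_right _ (Nat.Coprime.symm (hp.coprime_iff_not_dvd.2 hLp))
    refine ⟨a, ha, ?_⟩
    show (a : G) = g * l * g⁻¹
    have e : a = l' := by rw [← has', h3, mul_one]
    rw [e]⟩
  let R : Sylow q L₀ := Classical.arbitrary _
  set Q := (R : Subgroup L₀).map L₀.subtype with hQ
  set M := normalizer (Q : Set G) with hM
  have hML : M ⊔ L₀ = ⊤ := R.normalizer_sup_eq_top
  have hMp : ¬ p ∣ M.index := by
    have h1 : L₀.relIndex M = L₀.index := by
      rw [← Subgroup.relIndex_top_right L₀, ← hML, Subgroup.relIndex_sup_right]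
    have h2 : p ^ (j + k) ∣ Nat.card M := by
      rw [← hLidx, ← h1]
      exact Subgroup.index_dvd_card (L₀.subgroupOf M)
    intro hd
    have h3 : p ^ (j + k) * p ∣ Nat.card G := by
      rw [← M.card_mul_index]
      exact mul_dvd_mul h2 hd
    rw [← L₀.card_mul_index, hLidx, mul_comm (Nat.card L₀)] at h3
    have h4 := Nat.dvd_of_mul_dvd_mul_left (pow_pos hp.pos _) h3
    rw [hL₀, Subgroup.card_map_of_injective K.subtype_injective] at h4
    exact hLp h4
  obtain ⟨P', hP'⟩ := exists_sylow_le (p := p) M hMp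
  have hQc := comm_of_pGroup σ hU hinj (by omega : finrank ℂ V < q) (R.isPGroup'.map L₀.subtype)
  have hP'Q := le_centralizer_of_normalizes σ hU hinj (by omega : finrank ℂ V < p) P'.isPGroup'
    hQc hP'
  refine ⟨(P' : Subgroup G) ⊔ Q,
    comm_sup (comm_of_pGroup σ hU hinj (by omega : finrank ℂ V < p) P'.isPGroup') hQc hP'Q,
    not_dvd_index_of_sylow_le P' le_sup_left, fun h => ?_⟩
  have h1 := h.trans (Subgroup.index_dvd_of_le (le_sup_right : Q ≤ _))
  rw [hQ, Subgroup.index_map_subtype, hq.dvd_mul, hLidx] at h1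
  exact h1.elim R.not_dvd_index (hqp _)

theorem exists_pair [Finite G] (σ : Representation ℂ G V)
    (hU : ∀ g v w, ⟪σ g v, σ g w⟫_ℂ = ⟪v, w⟫_ℂ) (hinj : Function.Injective σ)
    (IH : ∀ K : Subgroup G, K ≠ ⊤ → AbHall K (finrank ℂ V)) {p q : ℕ} [Fact p.Prime]
    [Fact q.Prime] (hpq : p ≠ q) (hpb : finrank ℂ V + 1 < p) (hqb : finrank ℂ V + 1 < q)
    (hpd : p ∣ Nat.card G) (hqd : q ∣ Nat.card G) : Pair G p q := by
  classical
  have hp : p.Prime := Fact.out
  have hq : q.Prime := Fact.out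
  by_cases hc : ∃ r : ℕ, r.Prime ∧ finrank ℂ V + 1 < r ∧ ∃ z ∈ center G, orderOf z = r
  · obtain ⟨r, hr, hrb, z, hzc, hz⟩ := hc
    have : Fact r.Prime := ⟨hr⟩
    obtain ⟨K, hKn, hzK, k, hk⟩ := exists_kernel σ hinj (by omega) hz hzc
    have hKtop : K ≠ ⊤ := fun h => hzK (h ▸ Subgroup.mem_top z)
    by_cases hrp : r = p
    · subst hrp; exact pair_of_center_same σ hU hinj IH hpq hpb hqb hKtop hk
    by_cases hrq : r = q
    · subst hrq; exact (pair_of_center_same σ hU hinj IH hpq.symm hqb hpb hKtop hk).symm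
    refine lift hp hq hpb hqb (IH K hKtop) ?_ ?_ <;> rw [hk] <;> intro h
    · exact hrp ((Nat.prime_dvd_prime_iff_eq hp hr).1 (hp.dvd_of_dvd_pow h)).symm
    · exact hrq ((Nat.prime_dvd_prime_iff_eq hq hr).1 (hq.dvd_of_dvd_pow h)).symm
  push Not at hc
  obtain ⟨g, hgp, hgq⟩ := PrimeGraphBound.exists_orderOf_dvd σ hinj hp hq hpq hpb hqb hpd hqd
  have hg0 : orderOf g ≠ 0 := (orderOf_pos g).ne'
  set x := g ^ (orderOf g / p) with hxdef
  set y := g ^ (orderOf g / q) with hydef
  have hx : orderOf x = p := orderOf_pow_orderOf_div hg0 hgp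
  have hy : orderOf y = q := orderOf_pow_orderOf_div hg0 hgq
  set N := Subgroup.centralizer ({x} : Set G) with hN
  have hNtop : N ≠ ⊤ := fun h => hc p hp hpb x (Subgroup.mem_center_iff.2 fun w => by
    have hw : w ∈ N := h ▸ Subgroup.mem_top w
    exact Subgroup.mem_centralizer_singleton_iff.1 hw) hx
  obtain ⟨P, hP⟩ := (IsPGroup.of_card (p := p) (n := 1)
    (by rw [Nat.card_zpowers, hx, pow_one] : Nat.card (zpowers x) = p ^ 1)).exists_le_sylow
  have hPc := comm_of_pGroup σ hU hinj (by omega : finrank ℂ V < p) P.isPGroup'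
  have hxP : x ∈ (P : Subgroup G) := hP (mem_zpowers x)
  have hNp : ¬ p ∣ N.index := not_dvd_index_of_sylow_le P fun w hw =>
    Subgroup.mem_centralizer_singleton_iff.2 (hPc w hw x hxP)
  obtain ⟨A, hAc, -, hAi⟩ := IH N hNtop
  have hyN : y ∈ N := Subgroup.mem_centralizer_singleton_iff.2 (by
    rw [hxdef, hydef, ← pow_add, ← pow_add, Nat.add_comm])
  have hqA : q ∣ Nat.card A := by
    have h1 : q ∣ Nat.card N := by
      rw [← hy]
      exact Subgroup.orderOf_dvd_natCard N hyN
    rw [← A.card_mul_index, hq.dvd_mul] at h1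
    exact h1.resolve_right fun h => absurd (hAi q hq h) (by omega)
  obtain ⟨y', hy'⟩ := exists_prime_orderOf_dvd_card' q hqA
  set w : G := ((y' : N) : G) with hwdef
  have hw : orderOf w = q := by rw [hwdef, Subgroup.orderOf_coe, Subgroup.orderOf_coe, hy']
  set N₂ := Subgroup.centralizer ({w} : Set G) with hN₂
  have hN₂top : N₂ ≠ ⊤ := fun h => hc q hq hqb w (Subgroup.mem_center_iff.2 fun u => by
    have hu : u ∈ N₂ := h ▸ Subgroup.mem_top u
    exact Subgroup.mem_centralizer_singleton_iff.1 hu) hw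
  have hAN₂ : A.map N.subtype ≤ N₂ := by
    rintro _ ⟨a, ha, rfl⟩
    exact Subgroup.mem_centralizer_singleton_iff.2 (congrArg N.subtype (hAc a ha y' y'.2))
  obtain ⟨Q, hQ⟩ := (IsPGroup.of_card (p := q) (n := 1)
    (by rw [Nat.card_zpowers, hw, pow_one] : Nat.card (zpowers w) = q ^ 1)).exists_le_sylow
  have hQc := comm_of_pGroup σ hU hinj (by omega : finrank ℂ V < q) Q.isPGroup'
  refine lift hp hq hpb hqb (IH N₂ hN₂top) (fun h => ?_)
    (not_dvd_index_of_sylow_le Q fun u hu =>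
      Subgroup.mem_centralizer_singleton_iff.2 (hQc u hu w (hQ (mem_zpowers w))))
  have h1 := h.trans (Subgroup.index_dvd_of_le hAN₂)
  rw [Subgroup.index_map_subtype, hp.dvd_mul] at h1
  exact h1.elim (fun h2 => absurd (hAi p hp h2) (by omega)) hNp

/-- **Blichfeldt's theorem.** -/
theorem exists_abHall [Finite G] (σ : Representation ℂ G V)
    (hU : ∀ g v w, ⟪σ g v, σ g w⟫_ℂ = ⟪v, w⟫_ℂ) (hinj : Function.Injective σ) :
    AbHall G (finrank ℂ V) := by
  classical
  suffices h : ∀ (m : ℕ) (G : Type u) [Group G] [Finite G] (σ : Representation ℂ G V),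
      (∀ g v w, ⟪σ g v, σ g w⟫_ℂ = ⟪v, w⟫_ℂ) → Function.Injective σ → Nat.card G = m →
      AbHall G (finrank ℂ V) from h _ G σ hU hinj rfl
  intro m
  induction m using Nat.strong_induction_on with
  | _ m ih =>
    intro G _ _ σ hU hinj hm
    have IH : ∀ K : Subgroup G, K ≠ ⊤ → AbHall K (finrank ℂ V) := fun K hK =>
      ih (Nat.card K) (hm ▸ lt_of_le_of_ne (Subgroup.card_le_card_group K)
        (fun e => hK (Subgroup.eq_top_of_card_eq K e)))
        K (σ.comp K.subtype) (fun g v w => hU g v w) (hinj.comp K.subtype_injective) rfl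
    by_cases hnone : ∀ q : ℕ, q.Prime → q ∣ Nat.card G → q ≤ finrank ℂ V + 1
    · refine ⟨⊥, fun x hx y hy => by rw [Subgroup.mem_bot.1 hx, Subgroup.mem_bot.1 hy],
        fun q hq h => ?_, fun q hq h => hnone q hq (Subgroup.index_bot (G := G) ▸ h)⟩
      rw [Subgroup.card_bot] at h
      exact absurd (Nat.dvd_one.1 h) hq.ne_one
    push Not at hnone
    obtain ⟨p, hp, hpd, hpb⟩ := hnone
    have : Fact p.Prime := ⟨hp⟩
    let P : Sylow p G := Classical.arbitrary _
    have hPc := comm_of_pGroup σ hU hinj (by omega : finrank ℂ V < p) P.isPGroup'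
    set C := Subgroup.centralizer ((P : Subgroup G) : Set G) with hC
    have hPC : (P : Subgroup G) ≤ C := fun x hx =>
      Subgroup.mem_centralizer_iff.2 fun y hy => hPc y hy x hx
    have hCq : ∀ q : ℕ, q.Prime → finrank ℂ V + 1 < q → ¬ q ∣ C.index := by
      intro q hq hqb hd
      have : Fact q.Prime := ⟨hq⟩
      rcases eq_or_ne p q with rfl | hpq
      · exact not_dvd_index_of_sylow_le P hPC hd
      obtain ⟨A, hAc, hAp, hAq⟩ := exists_pair σ hU hinj IH hpq hpb hqb hpd
        (hd.trans (Subgroup.index_dvd_card C))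
      obtain ⟨S, hSA⟩ := exists_sylow_le (p := p) A hAp
      obtain ⟨g, hg⟩ := MulAction.exists_smul_eq G P S
      let e := MulAut.conj g⁻¹
      have hle : A.map e.toMonoidHom ≤ C := by
        rintro _ ⟨a, ha, rfl⟩
        refine Subgroup.mem_centralizer_iff.2 fun x hx => ?_
        have hxS : MulAut.conj g x ∈ (S : Subgroup G) := by
          rw [← hg, Sylow.coe_subgroup_smul]
          exact Subgroup.smul_mem_pointwise_smul x (MulAut.conj g) _ hx
        have hc := congrArg e (hAc _ (hSA hxS) a ha)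
        have hex : e (MulAut.conj g x) = x := by simp [e, mul_assoc]
        rw [map_mul, map_mul, hex] at hc
        exact hc
      have h1 := hd.trans (Subgroup.index_dvd_of_le hle)
      rw [show e.toMonoidHom = (e : G →* G) from rfl, Subgroup.index_map_equiv] at h1
      exact hAq h1
    let S : Sylow p C := P.subtype hPC
    have : (S : Subgroup C).Normal := ⟨fun s hs c => by
      rw [show c * s * c⁻¹ = s by
        rw [mul_inv_eq_iff_eq_mul]
        exact Subtype.ext ((Subgroup.mem_centralizer_iff.1 c.2) s hs).symm]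
      exact hs⟩
    obtain ⟨L, hL⟩ := Subgroup.exists_left_complement'_of_coprime S.card_coprime_index
    set L₀ := L.map C.subtype with hL₀
    obtain ⟨j, hj⟩ := IsPGroup.iff_card.1 S.isPGroup'
    have hScard : Nat.card (S : Subgroup C) = Nat.card (P : Subgroup G) :=
      Nat.card_congr (Subgroup.subgroupOfEquivOfLe hPC).toEquiv
    have hLtop : L₀ ≠ ⊤ := by
      intro h
      have h1 : L₀.index = 1 := by rw [h, Subgroup.index_top]
      rw [hL₀, Subgroup.index_map_subtype, hL.symm.index_eq_card, hScard] at h1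
      have h2 : p ∣ Nat.card (P : Subgroup G) := P.dvd_card_of_dvd_card hpd
      rw [(mul_eq_one.1 h1).1, Nat.dvd_one] at h2
      exact hp.ne_one h2
    obtain ⟨A, hAc, hAd, hAi⟩ := IH L₀ hLtop
    set A₀ := A.map L₀.subtype with hA₀
    have hA₀C : A₀ ≤ C := (Subgroup.map_subtype_le A).trans (Subgroup.map_subtype_le L)
    have hPA : (P : Subgroup G) ≤ Subgroup.centralizer (A₀ : Set G) :=
      Subgroup.le_centralizer_iff.1 hA₀C
    refine ⟨(P : Subgroup G) ⊔ A₀, comm_sup hPc ?_ hPA, fun q hq h => ?_, fun q hq h => ?_⟩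
    · rintro _ ⟨x, hx, rfl⟩ _ ⟨y, hy, rfl⟩
      exact congrArg L₀.subtype (hAc x hx y hy)
    · have h1 := h.trans (card_sup_dvd hPA)
      rcases hq.dvd_mul.1 h1 with h2 | h2
      · rw [← hScard, hj] at h2
        rw [(Nat.prime_dvd_prime_iff_eq hq hp).1 (hq.dvd_of_dvd_pow h2)]
        exact hpb
      · rw [hA₀, Subgroup.card_map_of_injective L₀.subtype_injective] at h2
        exact hAd q hq h2
    · by_contra hqb
      push Not at hqb
      rcases eq_or_ne q p with rfl | hqp
      · exact not_dvd_index_of_sylow_le P le_sup_left h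
      have h1 := h.trans (Subgroup.index_dvd_of_le (le_sup_right : A₀ ≤ _))
      have eL : L₀.index = p ^ j * C.index := by
        rw [hL₀, Subgroup.index_map_subtype, hL.symm.index_eq_card, hj]
      rw [hA₀, Subgroup.index_map_subtype, eL, hq.dvd_mul, hq.dvd_mul] at h1
      rcases h1 with h2 | h2 | h2
      · exact absurd (hAi q hq h2) (by omega)
      · exact hqp ((Nat.prime_dvd_prime_iff_eq hq hp).1 (hq.dvd_of_dvd_pow h2))
      · exact hCq q hq hqb h2

theorem prod_pow_dvd (S : Finset ℕ) (hS : ∀ q ∈ S, q.Prime) (e : ℕ → ℕ) (m : ℕ)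
    (h : ∀ q ∈ S, q ^ e q ∣ m) : ∏ q ∈ S, q ^ e q ∣ m := by
  induction S using Finset.induction_on with
  | empty => simp
  | insert a s ha ih =>
    rw [Finset.prod_insert ha]
    refine Nat.Coprime.mul_dvd_of_dvd_of_dvd ?_ (h a (Finset.mem_insert_self a s))
      (ih (fun q hq => hS q (Finset.mem_insert_of_mem hq)) fun q hq => h q (Finset.mem_insert_of_mem hq))
    refine Nat.Coprime.prod_right fun q hq => Nat.Coprime.pow _ _ ?_
    exact (Nat.coprime_primes (hS a (Finset.mem_insert_self a s))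
      (hS q (Finset.mem_insert_of_mem hq))).2 fun h => ha (h ▸ hq)

/-- **Jordan's theorem**, with Frobenius' bound. -/
theorem exists_abelian_normal_index_le [Finite G] (σ : Representation ℂ G V)
    (hU : ∀ g v w, ⟪σ g v, σ g w⟫_ℂ = ⟪v, w⟫_ℂ) (hinj : Function.Injective σ) :
    ∃ A : Subgroup G, A.Normal ∧ (∀ x ∈ A, ∀ y ∈ A, x * y = y * x) ∧
      A.index ≤ (finrank ℂ V).factorial *
        12 ^ (finrank ℂ V * (Nat.primeCounting (finrank ℂ V + 1) + 1)) := by
  classical
  set n := finrank ℂ V with hn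
  obtain ⟨A, hAn, hAc, hA⟩ := exists_abelian_normal σ hU hinj
  refine ⟨A, hAn, hAc, ?_⟩
  set d := A.index with hd
  have hd0 : d ≠ 0 := Subgroup.index_ne_zero_of_finite
  set S := d.primeFactors.filter fun q => q ≤ n + 1 with hS
  set B := d.primeFactors.filter fun q => ¬ q ≤ n + 1 with hB
  have hprod : d = (∏ q ∈ S, q ^ d.factorization q) * ∏ q ∈ B, q ^ d.factorization q := by
    rw [hS, hB, Finset.prod_filter_mul_prod_filter_not]
    conv_lhs => rw [← Nat.prod_factorization_pow_eq_self hd0]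
    rfl
  -- a `q`-part of the index is a part of `[H : H ⊓ A]` whenever `q ∤ [G : H]`
  have hpart : ∀ (H : Subgroup G) (q : ℕ), q.Prime → ¬ q ∣ H.index →
      q ^ d.factorization q ∣ A.relIndex H := by
    intro H q hq hH
    have h1 : d ∣ A.relIndex H * H.index := by
      rw [hd, ← Subgroup.inf_relIndex_right A H, Subgroup.relIndex_mul_index inf_le_right]
      exact Subgroup.index_dvd_of_le inf_le_left
    exact ((hq.coprime_iff_not_dvd.2 hH).pow_left _).dvd_of_dvd_mul_right
      ((Nat.ordProj_dvd d q).trans h1)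
  have hsmall : ∀ q ∈ S, q ^ d.factorization q ≤ q ^ n.factorial.factorization q * 12 ^ n := by
    intro q hq
    have hqp := Nat.prime_of_mem_primeFactors (Finset.mem_filter.1 hq).1
    have : Fact q.Prime := ⟨hqp⟩
    let P : Sylow q G := Classical.arbitrary _
    obtain ⟨H, hHc, hHi⟩ := exists_abelian_index_dvd (σ.comp (P : Subgroup G).subtype)
      (fun g v w => hU g v w) (hinj.comp (P : Subgroup G).subtype_injective) P.isPGroup'
    set H₀ := H.map (P : Subgroup G).subtype with hH₀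
    have hH₀c : ∀ x ∈ H₀, ∀ y ∈ H₀, x * y = y * x := by
      rintro _ ⟨x, hx, rfl⟩ _ ⟨y, hy, rfl⟩
      exact congrArg (P : Subgroup G).subtype (hHc x hx y hy)
    obtain ⟨k, hk⟩ := P.isPGroup'.index H
    rw [hk] at hHi
    have h3 : A.relIndex (P : Subgroup G) ≤ q ^ k * 12 ^ n := by
      have e : (A ⊓ H₀).relIndex (P : Subgroup G) = A.relIndex H₀ * q ^ k := by
        rw [← hk, ← Subgroup.inf_relIndex_right A H₀, ← Subgroup.relIndex_mul_relIndex (A ⊓ H₀) H₀
          (P : Subgroup G) inf_le_right (Subgroup.map_subtype_le H)]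
        congr 1
        rw [hH₀, Subgroup.relIndex, Subgroup.subgroupOf, Subgroup.comap_map_eq_self_of_injective
          (P : Subgroup G).subtype_injective]
      have h4 : A.relIndex H₀ ≤ 12 ^ n := hA H₀ hH₀c
      have h5 : A.relIndex (P : Subgroup G) ∣ (A ⊓ H₀).relIndex (P : Subgroup G) :=
        Subgroup.relIndex_dvd_of_le_left _ inf_le_left
      refine (Nat.le_of_dvd ?_ h5).trans ?_
      · exact Nat.pos_of_ne_zero Subgroup.index_ne_zero_of_finite
      · rw [e, mul_comm]; exact Nat.mul_le_mul_left _ h4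
    refine (Nat.le_of_dvd ?_ (hpart _ q hqp P.not_dvd_index)).trans (h3.trans ?_)
    · exact Nat.pos_of_ne_zero Subgroup.index_ne_zero_of_finite
    · refine Nat.mul_le_mul_right _ (Nat.pow_le_pow_right hqp.pos ?_)
      exact (hqp.pow_dvd_iff_le_factorization n.factorial_ne_zero).1 hHi
  obtain ⟨H, hHc, -, hHi⟩ := exists_abHall σ hU hinj
  have hbig : ∏ q ∈ B, q ^ d.factorization q ≤ 12 ^ n := by
    refine (Nat.le_of_dvd (Nat.pos_of_ne_zero Subgroup.index_ne_zero_of_finite) ?_).trans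
      (hA H hHc)
    refine prod_pow_dvd B (fun q hq => Nat.prime_of_mem_primeFactors (Finset.mem_filter.1 hq).1) _ _
      fun q hq => ?_
    obtain ⟨hqm, hqb⟩ := Finset.mem_filter.1 hq
    exact hpart H q (Nat.prime_of_mem_primeFactors hqm)
      fun h => hqb (hHi q (Nat.prime_of_mem_primeFactors hqm) h)
  have hcardS : S.card ≤ Nat.primeCounting (n + 1) := by
    rw [Nat.primeCounting, Nat.primeCounting', Nat.count_eq_card_filter_range]
    refine Finset.card_le_card fun q hq => ?_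
    obtain ⟨hqm, hqb⟩ := Finset.mem_filter.1 hq
    exact Finset.mem_filter.2 ⟨Finset.mem_range.2 (by omega), Nat.prime_of_mem_primeFactors hqm⟩
  have hfact : ∏ q ∈ S, q ^ n.factorial.factorization q ≤ n.factorial := by
    exact Nat.le_of_dvd n.factorial_pos (prod_pow_dvd S
      (fun q hq => Nat.prime_of_mem_primeFactors (Finset.mem_filter.1 hq).1) _ _
      fun q _ => Nat.ordProj_dvd _ q)
  calc d = (∏ q ∈ S, q ^ d.factorization q) * ∏ q ∈ B, q ^ d.factorization q := hprod
    _ ≤ (∏ q ∈ S, q ^ n.factorial.factorization q * 12 ^ n) * 12 ^ n :=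
        Nat.mul_le_mul (Finset.prod_le_prod' hsmall) hbig
    _ = (∏ q ∈ S, q ^ n.factorial.factorization q) * (12 ^ n) ^ (S.card + 1) := by
        rw [Finset.prod_mul_distrib, Finset.prod_const, pow_succ, mul_assoc]
    _ ≤ n.factorial * (12 ^ n) ^ (Nat.primeCounting (n + 1) + 1) :=
        Nat.mul_le_mul hfact (Nat.pow_le_pow_right (by positivity) (by omega))
    _ = _ := by rw [← pow_mul]

end CfsgLib.CharDeep.Blichfeldt
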