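import Cfsg.Agent.Lib.CharDeep.Brauer

/-!
# Integrality of inner products detected on elementary subgroups
-/

namespace CfsgLib.CharDeep.BrauerInt

open CfsgLib

variable {G : Type*} [Group G] [Fintype G]

/-- A class function has algebraic-integer inner product with `χ` as soon as this holds, after
multiplication by characters, on every elementary subgroup. -/
theorem isIntegral_classInner_of_elementary {f χ : G → ℂ} (hf : Cfsg.IsClassFunction G f)
    (hχ : Cfsg.IsClassFunction G χ)
    (hres : ∀ p : ℕ, p.Prime → ∀ (E : Subgroup G) (_ : Fintype E), Cfsg.IsElementary p E →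
      ∀ φ : E → ℂ, Cfsg.IsCharacter E φ →
        IsIntegral ℤ (Cfsg.classInner (fun x : E => f x * φ x) fun x : E => χ x)) :
    IsIntegral ℤ (Cfsg.classInner f χ) := by
  classical
  let I : Ideal ℤ :=
    { carrier := {a | IsIntegral ℤ ((a : ℂ) * Cfsg.classInner f χ)}
      add_mem' := fun {a b} (ha : IsIntegral ℤ _) (hb : IsIntegral ℤ _) => by
        show IsIntegral ℤ _
        push_cast
        rw [add_mul]
        exact ha.add hb
      zero_mem' := by
        show IsIntegral ℤ _
        simpa using isIntegral_zero
      smul_mem' := fun c a (ha : IsIntegral ℤ _) => by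
        show IsIntegral ℤ _
        rw [smul_eq_mul, Int.cast_mul, mul_assoc]
        exact (isIntegral_algebraMap (R := ℤ) (A := ℂ) (x := c)).mul ha }
  obtain ⟨m, hm⟩ := (inferInstance : I.IsPrincipal).principal
  have hu : IsUnit m := by
    rw [Int.isUnit_iff_natAbs_eq]
    by_contra h
    obtain ⟨p, hpp, hpd⟩ := Nat.exists_prime_and_dvd h
    have : Fact p.Prime := ⟨hpp⟩
    obtain ⟨a, ha, hmem⟩ := Brauer.exists_const_mem_span' (G := G) p
    have key : ∀ g ∈ Brauer.span' G p, IsIntegral ℤ (Cfsg.classInner (f * g) χ) := by
      intro g hg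
      induction hg using AddSubgroup.closure_induction with
      | mem b hb =>
        obtain ⟨E, φ, hE, hφ, rfl⟩ := hb
        rw [Brauer.indFun_mul hf, Char.classInner_indFun E _ hχ]
        exact hres p hpp E _ hE φ hφ
      | zero => rw [mul_zero, Char.classInner_zero_left]; exact isIntegral_zero
      | add x y _ _ hx hy => rw [mul_add, Char.classInner_add_left]; exact hx.add hy
      | neg x _ hx => rw [mul_neg, Char.classInner_neg_left]; exact hx.neg
    have h1 := key _ hmem
    rw [show f * (fun _ : G => (a : ℂ)) = (a : ℂ) • f from funext fun g => mul_comm _ _,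
      Char.classInner_smul_left] at h1
    have haI : a ∈ I := h1
    rw [hm, Ideal.submodule_span_eq, Ideal.mem_span_singleton] at haI
    exact ha ((Int.natCast_dvd.2 hpd).trans haI)
  have h1 : (1 : ℤ) ∈ I := by
    rw [hm, Ideal.submodule_span_eq, Ideal.mem_span_singleton]
    exact hu.dvd
  have h2 : IsIntegral ℤ (((1 : ℤ) : ℂ) * Cfsg.classInner f χ) := h1
  simpa using h2

end CfsgLib.CharDeep.BrauerInt
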