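import Mathlib.GroupTheory.FiniteAbelian.Duality
import Mathlib.RingTheory.RootsOfUnity.AlgebraicallyClosed
import Mathlib.Analysis.Complex.Polynomial.Basic
import Mathlib.Algebra.Algebra.Basic

/-!
# The idempotents of a finite commutative group inside a complex algebra
-/

set_option autoImplicit false
set_option linter.unusedSectionVars false

open scoped Classical

namespace CfsgLib.CharDeep.CommIdem

variable {Γ : Type*} [CommGroup Γ] [Fintype Γ] {A : Type*} [Ring A] [Algebra ℂ A] (ι : Γ →* A)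

instance instEnoughRoots : HasEnoughRootsOfUnity ℂ (Monoid.exponent Γ) :=
  haveI : NeZero (Monoid.exponent Γ) := ⟨Monoid.exponent_ne_zero_of_finite⟩
  inferInstance

noncomputable instance instFintypeHom : Fintype (Γ →* ℂˣ) :=
  haveI : Finite (Γ →* ℂˣ) :=
    Finite.of_equiv Γ (CommGroup.monoidHom_mulEquiv_of_hasEnoughRootsOfUnity Γ ℂ).some.symm.toEquiv
  Fintype.ofFinite _

/-- The idempotent belonging to a linear character. -/
noncomputable def idem (χ : Γ →* ℂˣ) : A :=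
  (Fintype.card Γ : ℂ)⁻¹ • ∑ u : Γ, ((χ u)⁻¹ : ℂˣ).val • ι u

theorem mul_idem (χ : Γ →* ℂˣ) (v : Γ) : ι v * idem ι χ = (χ v : ℂ) • idem ι χ := by
  simp only [idem, mul_smul_comm, Finset.mul_sum]
  rw [smul_comm (χ v : ℂ), Finset.smul_sum (r := (χ v : ℂ))]
  congr 1
  refine Fintype.sum_equiv (Equiv.mulLeft v) _ _ fun u => ?_
  show ((χ u)⁻¹ : ℂˣ).val • (ι v * ι u) = (χ v : ℂ) • ((χ (v * u))⁻¹ : ℂˣ).val • ι (v * u)
  rw [smul_smul, map_mul χ, ← Units.val_mul, map_mul ι, mul_inv,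
    mul_inv_cancel_left]

theorem sum_hom_eq (u : Γ) :
    ∑ χ : Γ →* ℂˣ, ((χ u)⁻¹ : ℂˣ).val = if u = 1 then (Fintype.card Γ : ℂ) else 0 := by
  by_cases hu : u = 1
  · rw [if_pos hu]
    simp only [hu, map_one, inv_one, Units.val_one, Finset.sum_const, Finset.card_univ,
      nsmul_eq_mul, mul_one]
    rw [← Nat.card_eq_fintype_card, ← Nat.card_eq_fintype_card,
      CommGroup.card_monoidHom_of_hasEnoughRootsOfUnity]
  · rw [if_neg hu]
    obtain ⟨χ₀, hχ₀⟩ := CommGroup.exists_apply_ne_one_of_hasEnoughRootsOfUnity Γ ℂ hu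
    set S : ℂ := ∑ χ : Γ →* ℂˣ, ((χ u)⁻¹ : ℂˣ).val with hS
    have h : ((χ₀ u)⁻¹ : ℂˣ).val * S = S := by
      rw [hS, Finset.mul_sum]
      exact Fintype.sum_equiv (Equiv.mulLeft χ₀) _ _ fun χ => by
        rw [← Units.val_mul, ← mul_inv]; rfl
    by_contra hne
    exact hχ₀ (inv_eq_one.1 (Units.ext ((mul_eq_right₀ hne).1 h)))

theorem sum_idem : ∑ χ : Γ →* ℂˣ, idem ι χ = 1 := by
  simp only [idem, ← Finset.smul_sum]
  rw [Finset.sum_comm]
  simp only [← Finset.sum_smul, sum_hom_eq, ite_smul, zero_smul, Finset.sum_ite_eq',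
    Finset.mem_univ, if_true, map_one, smul_smul]
  rw [inv_mul_cancel₀ (Nat.cast_ne_zero.2 Fintype.card_ne_zero), one_smul]

theorem idem_mul (χ χ' : Γ →* ℂˣ) :
    idem ι χ * idem ι χ' = if χ = χ' then idem ι χ' else 0 := by
  conv_lhs => rw [idem]
  simp only [smul_mul_assoc, Finset.sum_mul, mul_idem, smul_smul, ← Finset.sum_smul]
  have hc : (Fintype.card Γ : ℂ) ≠ 0 := Nat.cast_ne_zero.2 Fintype.card_ne_zero
  split_ifs with h
  · subst h
    simp [hc]
  · obtain ⟨v, hv⟩ : ∃ v, χ v ≠ χ' v := not_forall.1 fun hall => h (MonoidHom.ext hall)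
    set F : Γ → ℂ := fun u => ((χ u)⁻¹ : ℂˣ).val * (χ' u : ℂ) with hF
    have h1 : F v * ∑ u, F u = ∑ u, F u := by
      rw [Finset.mul_sum]
      exact Fintype.sum_equiv (Equiv.mulLeft v) _ _ fun u => by
        simp only [hF, Equiv.coe_mulLeft, map_mul, mul_inv, Units.val_mul]
        ring
    have h2 : ∑ u, F u = 0 := by
      by_contra hne
      refine hv (inv_mul_eq_one.1 (Units.ext ?_))
      exact (mul_eq_right₀ hne).1 h1
    show ((Fintype.card Γ : ℂ)⁻¹ * ∑ u, F u) • idem ι χ' = 0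
    rw [h2, mul_zero, zero_smul]

theorem isIdempotentElem (χ : Γ →* ℂˣ) : IsIdempotentElem (idem ι χ) := by
  show _ * _ = _
  rw [idem_mul, if_pos rfl]

/-- A non-scalar member gives a nontrivial idempotent. -/
theorem exists_nontrivial [Nontrivial A] {u : Γ} (hu : ∀ c : ℂ, ι u ≠ c • 1) :
    ∃ χ : Γ →* ℂˣ, idem ι χ ≠ 0 ∧ idem ι χ ≠ 1 := by
  by_contra hall
  push Not at hall
  have h1 : ∃ χ : Γ →* ℂˣ, idem ι χ ≠ 0 := by
    by_contra h0
    push Not at h0
    exact one_ne_zero (α := A) (by rw [← sum_idem ι, Finset.sum_eq_zero fun χ _ => h0 χ])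
  obtain ⟨χ, hχ⟩ := h1
  have h2 := mul_idem ι χ u
  rw [hall χ hχ, mul_one] at h2
  exact hu _ h2

/-- An automorphism of the group permutes the idempotents. -/
theorem conj_idem (c : Γ ≃* Γ) {a b : A} (h : ∀ u, a * ι u * b = ι (c u)) (χ : Γ →* ℂˣ) :
    a * idem ι χ * b = idem ι (χ.comp c.symm.toMonoidHom) := by
  simp only [idem, mul_smul_comm, smul_mul_assoc, Finset.mul_sum, Finset.sum_mul, h]
  congr 1
  exact Fintype.sum_equiv c.toEquiv _ _ fun u => by simp

end CfsgLib.CharDeep.CommIdem
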