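import Cfsg.Agent.Lib.DegreeTools.PDegree
import Cfsg.Agent.Lib.Char.Quotient
import Cfsg.Agent.Lib.Char.Linear
import Cfsg.Agent.Lib.Fusion.Tate
import Cfsg.Agent.Lib.PGroup.Kulakoff
import Cfsg.Agent.Lib.Solvable.CyclicAbelianPPrime.Basic

/-!
# Extending the characters of degree prime to `p` of a Sylow normalizer
-/

set_option autoImplicit false

open scoped Classical commutatorElement
open Subgroup

namespace CfsgLib.CharDeep.ExtendSylowNormalizer

open Cfsg CfsgLib CfsgLib.Char CfsgLib.Fusion.Basic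

variable {G : Type*} [Group G] [Finite G] {p : ℕ} [hp : Fact p.Prime] (P : Sylow p G)

/-- An element killed by the characters trivial on `A` lies in `A`. -/
theorem mem_of_forall_irr {N : Type*} [Group N] [Finite N] (A : Subgroup N) [A.Normal] {x : N}
    (h : ∀ θ : IrrCharacter N, (∀ a ∈ A, (θ : N → ℂ) a = (θ : N → ℂ) 1) → (θ : N → ℂ) x = (θ : N → ℂ) 1) :
    x ∈ A := by
  have := Fintype.ofFinite (N ⧸ A)
  rw [← QuotientGroup.eq_one_iff]
  refine Char.eq_one_of_forall_irr fun ψ => ?_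
  have h1 := h (irrQuotientEquiv A ψ).1 (irrQuotientEquiv A ψ).2
  exact h1

/-- The commutator subgroup of `P`, inside the normalizer. -/
def derived : Subgroup (normalizer ((P : Subgroup G) : Set G)) :=
  ⁅(P : Subgroup G), (P : Subgroup G)⁆.subgroupOf _

omit [Finite G] hp in
theorem commutator_le_self : ⁅(P : Subgroup G), (P : Subgroup G)⁆ ≤ (P : Subgroup G) :=
  commutator_le.2 fun a ha b hb => by
    rw [commutatorElement_def]; exact mul_mem (mul_mem (mul_mem ha hb) (inv_mem ha)) (inv_mem hb)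

omit [Finite G] hp in
theorem derived_normal : (derived P).Normal := by
  refine ⟨fun x hx g => ?_⟩
  simp only [derived, mem_subgroupOf, Subgroup.coe_mul, Subgroup.coe_inv] at hx ⊢
  have hconj : (P : Subgroup G).map (MulAut.conj (g : G)).toMonoidHom = (P : Subgroup G) := by
    ext y
    rw [mem_map_equiv, MulAut.conj_symm_apply]
    exact Iff.trans ((mem_normalizer_iff.1 g.2) _) (by simp [mul_assoc])
  have h := mem_map_of_mem (MulAut.conj (g : G)).toMonoidHom hx
  rwa [map_commutator, hconj] at h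

omit [Finite G] hp in
theorem derived_le : derived P ≤ (P : Subgroup G).subgroupOf _ := fun _ hx => commutator_le_self P hx

/-- The characters of the normalizer trivial on the derived subgroup of `P` have degree prime to `p`. -/
theorem not_dvd_deg (θ : IrrCharacter (normalizer ((P : Subgroup G) : Set G)))
    (hθ : ∀ a ∈ derived P, (θ : (normalizer ((P : Subgroup G) : Set G)) → ℂ) a = (θ : (normalizer ((P : Subgroup G) : Set G)) → ℂ) 1) : ¬ p ∣ charDegree (θ : (normalizer ((P : Subgroup G) : Set G)) → ℂ) := by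
  have hn := derived_normal P
  obtain ⟨ψ, hψ⟩ := (irrQuotientEquiv (derived P)).surjective ⟨θ, hθ⟩
  have hval : (θ : (normalizer ((P : Subgroup G) : Set G)) → ℂ) 1 = (ψ : normalizer ((P : Subgroup G) : Set G) ⧸ derived P → ℂ) 1 := by
    rw [show θ = (irrQuotientEquiv (derived P) ψ).1 from (congrArg Subtype.val hψ).symm]
    simp [irrQuotientEquiv]
  set mk := QuotientGroup.mk' (derived P)
  have hsurj := QuotientGroup.mk'_surjective (derived P)
  set Q := ((P : Subgroup G).subgroupOf (normalizer ((P : Subgroup G) : Set G))).map mk with hQ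
  have : Q.Normal := Subgroup.Normal.map normal_in_normalizer mk hsurj
  have hab : ∀ a b : Q, a * b = b * a := by
    rintro ⟨_, a, ha, rfl⟩ ⟨_, b, hb, rfl⟩
    refine Subtype.ext ?_
    show mk a * mk b = mk b * mk a
    refine commutatorElement_eq_one_iff_mul_comm.1 ?_
    rw [← map_commutatorElement]
    exact (QuotientGroup.eq_one_iff _).2 (by
      show ((⁅a, b⁆ : _) : G) ∈ ⁅(P : Subgroup G), (P : Subgroup G)⁆
      exact commutator_mem_commutator ha hb)
  have hdvd := DegreeTools.deg_dvd_index Q hab ψ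
  have hdeg : charDegree (θ : (normalizer ((P : Subgroup G) : Set G)) → ℂ) = charDegree (ψ : normalizer ((P : Subgroup G) : Set G) ⧸ derived P → ℂ) := by
    have h := (DegreeTools.deg_cast θ).trans (hval.trans (DegreeTools.deg_cast ψ).symm)
    exact_mod_cast h
  rw [hdeg]
  intro h
  exact P.not_dvd_index ((h.trans hdvd).trans ((index_map_dvd _ hsurj).trans
    (relIndex_dvd_index_of_le le_normalizer)))

/-- The common kernel of the extensions of the characters trivial on `A`. -/
theorem exists_common_kernel (A : Subgroup (normalizer ((P : Subgroup G) : Set G))) [A.Normal]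
    (hA : derived P ≤ A) (f : IrrCharacter (normalizer ((P : Subgroup G) : Set G)) → IrrCharacter G)
    (hf : ∀ θ : IrrCharacter (normalizer ((P : Subgroup G) : Set G)), ¬ p ∣ charDegree (θ : (normalizer ((P : Subgroup G) : Set G)) → ℂ) →
      ∀ x : (normalizer ((P : Subgroup G) : Set G)), (f θ : G → ℂ) x = (θ : normalizer ((P : Subgroup G) : Set G) → ℂ) x) :
    ∃ K : Subgroup G, K.Normal ∧ A.map (Subgroup.subtype _) ≤ K ∧
      (∀ g : G, g ∈ K ↔ ∀ θ : IrrCharacter (normalizer ((P : Subgroup G) : Set G)),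
        (∀ a ∈ A, (θ : (normalizer ((P : Subgroup G) : Set G)) → ℂ) a = (θ : (normalizer ((P : Subgroup G) : Set G)) → ℂ) 1) → (f θ : G → ℂ) g = (f θ : G → ℂ) 1) ∧
      ∀ x : normalizer ((P : Subgroup G) : Set G), (x : G) ∈ K → x ∈ A := by
  refine ⟨⨅ θ : {θ : IrrCharacter (normalizer ((P : Subgroup G) : Set G)) //
    ∀ a ∈ A, (θ : (normalizer ((P : Subgroup G) : Set G)) → ℂ) a = (θ : (normalizer ((P : Subgroup G) : Set G)) → ℂ) 1}, charKer (isCharacter_irr (f θ.1)),
    normal_iInf_normal fun _ => charKer_normal _, ?_, fun g => ?_, fun x hx => ?_⟩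
  · rintro _ ⟨a, ha, rfl⟩
    refine mem_iInf.2 fun θ => (mem_charKer _).2 ?_
    have h := hf θ.1 (not_dvd_deg P θ.1 fun b hb => θ.2 b (hA hb))
    rw [show (Subgroup.subtype _ a) = (a : G) from rfl, h a, θ.2 a ha, ← h 1, OneMemClass.coe_one]
  · simp only [mem_iInf, mem_charKer, Subtype.forall]
  · refine mem_of_forall_irr A fun θ hθ => ?_
    have h := hf θ (not_dvd_deg P θ fun b hb => hθ b (hA hb))
    have h1 := (mem_charKer (isCharacter_irr (f θ))).1 (mem_iInf.1 hx ⟨θ, hθ⟩)
    rwa [h x, ← OneMemClass.coe_one (normalizer ((P : Subgroup G) : Set G)), h 1] at h1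

section

variable (hext : ∀ θ : IrrCharacter (normalizer ((P : Subgroup G) : Set G)), ¬ p ∣ charDegree (θ : (normalizer ((P : Subgroup G) : Set G)) → ℂ) →
  ∃ χ : IrrCharacter G, ∀ x : (normalizer ((P : Subgroup G) : Set G)), (χ : G → ℂ) x = (θ : normalizer ((P : Subgroup G) : Set G) → ℂ) x)
include hext

theorem exists_complement :
    ∃ K : Subgroup G, K.Normal ∧ K ⊔ normalizer ((P : Subgroup G) : Set G) = ⊤ ∧
      K ⊓ normalizer ((P : Subgroup G) : Set G) = ⊥ := by
  set N := normalizer ((P : Subgroup G) : Set G) with hN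
  have hn := derived_normal P
  obtain ⟨f, hf⟩ : ∃ f : IrrCharacter N → IrrCharacter G, ∀ θ : IrrCharacter N, ¬ p ∣ charDegree (θ : (normalizer ((P : Subgroup G) : Set G)) → ℂ) →
      ∀ x : N, (f θ : G → ℂ) x = (θ : N → ℂ) x := by
    refine ⟨fun θ => if h : ¬ p ∣ charDegree (θ : (normalizer ((P : Subgroup G) : Set G)) → ℂ) then (hext θ h).choose else
      DegreeTools.oneChar G, fun θ h x => ?_⟩
    simp only [dif_pos h]
    exact (hext θ h).choose_spec x
  obtain ⟨L, hLn, hPL, hL, hLN⟩ := exists_common_kernel P ((P : Subgroup G).subgroupOf N) (derived_le P) f hf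
  obtain ⟨M, hMn, hDM, hM, hMN⟩ := exists_common_kernel P (derived P) le_rfl f hf
  rw [map_subgroupOf_eq_of_le le_normalizer] at hPL
  rw [derived, map_subgroupOf_eq_of_le ((commutator_le_self P).trans le_normalizer)] at hDM
  have hML : M ≤ L := fun g hg => (hL g).2 fun θ hθ => (hM g).1 hg θ fun a ha => hθ a (derived_le P ha)
  set Q : Sylow p L := P.subtype hPL with hQ
  have hQmem : ∀ x : L, x ∈ (Q : Subgroup L) ↔ (x : G) ∈ (P : Subgroup G) := fun x => Iff.rfl
  set ML := M.subgroupOf L with hMLdef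
  have hder : ∀ x : L, x ∈ ML → x ∈ (Q : Subgroup L) → x ∈ ⁅(Q : Subgroup L), (Q : Subgroup L)⁆ := by
    intro x hx hxQ
    have h1 : (x : G) ∈ ⁅(P : Subgroup G), (P : Subgroup G)⁆ :=
      hMN ⟨x, le_normalizer ((hQmem x).1 hxQ)⟩ hx
    have h2 : ⁅(Q : Subgroup L), (Q : Subgroup L)⁆.map L.subtype = ⁅(P : Subgroup G), (P : Subgroup G)⁆ := by
      rw [map_commutator, show ((Q : Subgroup L)).map L.subtype = (P : Subgroup G) from
        map_subgroupOf_eq_of_le hPL]
    rw [← h2] at h1
    exact (mem_map_iff_mem L.subtype_injective).1 h1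
  -- the normalizer of `Q` in `L`
  have hself : ∀ y : L, y • Q = Q → y ∈ (Q : Subgroup L) := by
    intro y hy
    have hy' := mem_normalizer_iff.1 (Sylow.smul_eq_iff_mem_normalizer.1 hy)
    refine hLN ⟨(y : G), mem_normalizer_iff.2 fun n => ⟨fun hn => ?_, fun hn => ?_⟩⟩ y.2
    · exact (hy' ⟨n, hPL hn⟩).1 hn
    · have hnL : n ∈ L := by
        have := hLn.conj_mem _ (hPL hn) (y : G)⁻¹
        rwa [inv_inv, mul_assoc, inv_mul_cancel_right, inv_mul_cancel_left] at this
      exact (hy' ⟨n, hnL⟩).2 hn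
  -- Burnside in the quotient
  set mk := QuotientGroup.mk' ML
  have hsurj := QuotientGroup.mk'_surjective ML
  set Qb : Sylow p (L ⧸ ML) := Q.mapSurjective hsurj with hQb
  have hQbmem : ∀ z, z ∈ (Qb : Subgroup (L ⧸ ML)) ↔ z ∈ (Q : Subgroup L).map mk := fun z => Iff.rfl
  have hnb : HasNormalPComplement p (L ⧸ ML) := by
    refine Solvable.CyclicAbelianPPrime.npc_of_burnside Qb fun y hy x hx => ?_
    have hyQ : y ∈ (Qb : Subgroup (L ⧸ ML)) := by
      obtain ⟨w, rfl⟩ := hsurj y
      set H := (Q : Subgroup L).map mk |>.comap mk with hH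
      have hQH : (Q : Subgroup L) ≤ H := le_comap_map _ _
      have hwQH : ((w • Q : Sylow p L) : Subgroup L) ≤ H := by
        rintro _ ⟨u, hu, rfl⟩
        show mk (w * u * w⁻¹) ∈ (Q : Subgroup L).map mk
        rw [map_mul, map_mul, map_inv]
        exact (mem_normalizer_iff.1 hy (mk u)).1 (mem_map_of_mem mk hu)
      obtain ⟨h, hh⟩ := MulAction.exists_smul_eq H (Q.subtype hQH) ((w • Q).subtype hwQH)
      rw [Sylow.smul_subtype] at hh
      have hh' : ((h : L) • Q) = w • Q := Sylow.subtype_injective hh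
      have hmem := hself ((h : L)⁻¹ * w) (by rw [mul_smul, ← hh', inv_smul_smul])
      have : w ∈ H := by
        have := mul_mem h.2 (hQH hmem)
        rwa [mul_inv_cancel_left] at this
      exact this
    obtain ⟨a, ha, rfl⟩ := (hQbmem x).1 hx
    obtain ⟨b, hb, rfl⟩ := (hQbmem y).1 hyQ
    refine commutatorElement_eq_one_iff_mul_comm.1 ?_
    rw [← map_commutatorElement]
    refine (QuotientGroup.eq_one_iff _).2 (hDM ?_)
    show ((⁅a, b⁆ : L) : G) ∈ _
    exact commutator_mem_commutator ((hQmem a).1 ha) ((hQmem b).1 hb)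
  have hnpc : HasNormalPComplement p L := by
    refine Fusion.Tate.npc_of_inf_pResidual_le_frattini Q fun x hx => ?_
    have h1 : mk x ∈ (Qb : Subgroup (L ⧸ ML)) ⊓ pResidual p (L ⧸ ML) :=
      ⟨mem_map_of_mem mk hx.1, map_pResidual_le mk (mem_map_of_mem mk hx.2)⟩
    rw [(npc_iff_inf Qb).1 hnb, mem_bot] at h1
    have h2 := hder x ((QuotientGroup.eq_one_iff x).1 h1) hx.1
    rw [← map_subtype_commutator] at h2
    exact map_mono (PGroup.Kulakoff.commutator_le_frattini Q.2) h2
  set C := pResidual p L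
  have hCN : (C.map L.subtype).Normal := inferInstance
  refine ⟨C.map L.subtype, hCN, ?_, ?_⟩
  · rw [eq_top_iff, ← Sylow.normalizer_sup_eq_top' P hPL, sup_le_iff]
    refine ⟨le_sup_right, fun g hg => ?_⟩
    obtain ⟨w, hw, u, hu, he⟩ := exists_eq_pResidual_mul Q ⟨g, hg⟩
    rw [show g = (w : G) * (u : G) from congrArg Subtype.val he]
    exact mul_mem (mem_sup_left (mem_map_of_mem L.subtype hw)) (mem_sup_right (le_normalizer ((hQmem u).1 hu)))
  · rw [eq_bot_iff]
    rintro g ⟨⟨w, hw, rfl⟩, hgN⟩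
    have hwQ : w ∈ (Q : Subgroup L) := (hQmem w).2 (hLN ⟨(w : G), hgN⟩ w.2)
    have h : w ∈ (Q : Subgroup L) ⊓ C := ⟨hwQ, hw⟩
    rw [(npc_iff_inf Q).1 hnpc, mem_bot] at h
    simp [h]

end

omit hp [Finite G] in
/-- A normal complement gives the extensions. -/
theorem exists_extension {H : Subgroup G} {K : Subgroup G} [K.Normal] (h1 : K ⊔ H = ⊤) (h2 : K ⊓ H = ⊥)
    (θ : IrrCharacter H) : ∃ χ : IrrCharacter G, ∀ x : H, (χ : G → ℂ) x = (θ : H → ℂ) x := by
  set f := (QuotientGroup.mk' K).comp H.subtype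
  have hinj : Function.Injective f := (injective_iff_map_eq_one f).2 fun x hx => by
    have hxK : (x : G) ∈ K := (QuotientGroup.eq_one_iff _).1 hx
    exact Subtype.ext (mem_bot.1 (h2 ▸ ⟨hxK, x.2⟩))
  have hsurj : Function.Surjective f := fun z => by
    obtain ⟨g, rfl⟩ := QuotientGroup.mk'_surjective K z
    obtain ⟨k, hk, x, hx, rfl⟩ := mem_sup_of_normal_left.1 (h1 ▸ mem_top g)
    refine ⟨⟨x, hx⟩, ?_⟩
    show QuotientGroup.mk' K x = _
    rw [map_mul, show QuotientGroup.mk' K k = 1 from (QuotientGroup.eq_one_iff k).2 hk, one_mul]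
  set e := MulEquiv.ofBijective f ⟨hinj, hsurj⟩
  refine ⟨⟨((θ : H → ℂ) ∘ e.symm) ∘ QuotientGroup.mk' K,
    IsIrrCharacter.comp_surjective (IsIrrCharacter.comp_equiv θ.2 e.symm) _
      (QuotientGroup.mk'_surjective K)⟩, fun x => ?_⟩
  show (θ : H → ℂ) (e.symm (e x)) = _
  rw [e.symm_apply_apply]

end CfsgLib.CharDeep.ExtendSylowNormalizer
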