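import Cfsg.Agent.Lib.Solvable.Basic
import Mathlib

/-!
The geometric mean of the fixed point numbers of a solvable group acting without fixed points on an abelian
group of prime power order is at most the square root of the order.
-/

set_option autoImplicit false
set_option linter.unusedSectionVars false
set_option linter.style.haveILetI false

namespace CfsgLib.CharDeep.FixedPointAverage

variable {W : Type*} [CommGroup W] [Finite W]

/-- The fixed points of an automorphism in a subgroup. -/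
def fixIn (x : MulAut W) (U : Subgroup W) : Subgroup W :=
  U ⊓ MonoidHom.eqLocus x.toMonoidHom (MonoidHom.id W)

theorem mem_fixIn {x : MulAut W} {U : Subgroup W} {u : W} : u ∈ fixIn x U ↔ u ∈ U ∧ x u = u := by
  simp [fixIn, MonoidHom.eqLocus]

theorem card_mul_le {X Y U : Subgroup W} (hX : X ≤ U) (hY : Y ≤ U) (h : X ⊓ Y = ⊥) :
    Nat.card X * Nat.card Y ≤ Nat.card U := by
  rw [← Nat.card_prod]
  refine Nat.card_le_card_of_injective (fun z : X × Y => (⟨(z.1 : W) * z.2, U.mul_mem (hX z.1.2) (hY z.2.2)⟩ : U)) ?_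
  intro z w e
  have e' : (z.1 : W) * z.2 = w.1 * w.2 := congrArg Subtype.val e
  have hm : (w.1 : W)⁻¹ * z.1 ∈ X ⊓ Y := ⟨X.mul_mem (X.inv_mem w.1.2) z.1.2, by
    rw [show (w.1 : W)⁻¹ * z.1 = w.2 * (z.2 : W)⁻¹ by
      rw [eq_mul_inv_iff_mul_eq, mul_assoc, e', inv_mul_cancel_left]]
    exact Y.mul_mem w.2.2 (Y.inv_mem z.2.2)⟩
  rw [h, Subgroup.mem_bot, inv_mul_eq_one] at hm
  rw [hm] at e'
  exact Prod.ext (Subtype.ext hm.symm) (Subtype.ext (mul_left_cancel e'))

open scoped Classical in
/-- The product of the images under the elements of a group of automorphisms. -/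
noncomputable def norm (B : Subgroup (MulAut W)) [Fintype B] : W →* W :=
  ∏ b : B, (b : MulAut W).toMonoidHom

theorem norm_apply (B : Subgroup (MulAut W)) [Fintype B] (w : W) :
    norm B w = ∏ b : B, (b : MulAut W) w := by
  simp [norm]

open scoped Classical in
/-- **The coset bound.** -/
theorem prod_fix_sq_le (A : Subgroup (MulAut W)) [Fintype A] (hcop : (Nat.card A).Coprime (Nat.card W))
    (hab : ∀ a ∈ A, ∀ b ∈ A, a * b = b * a) (g : MulAut W) (hg : ∀ a ∈ A, g * a * g⁻¹ ∈ A) (U : Subgroup W)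
    (hUA : ∀ a ∈ A, ∀ u ∈ U, a u ∈ U) (hUg : ∀ u ∈ U, g u ∈ U)
    (h0 : ∀ u ∈ U, (∀ a ∈ A, a u = u) → u = 1) :
    (∏ a : A, Nat.card (fixIn (g * (a : MulAut W)) U)) ^ 2 ≤ Nat.card U ^ Nat.card A := by
  generalize hn : Nat.card U = n
  induction n using Nat.strong_induction_on generalizing U with
  | _ n ih =>
    by_cases hU : U = ⊥
    · subst hU
      have : ∀ x : MulAut W, Nat.card (fixIn x (⊥ : Subgroup W)) = 1 := fun x => by
        rw [fixIn, bot_inf_eq, Subgroup.card_bot]
      rw [← hn]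
      simp [this]
    obtain ⟨u₀, hu₀, hu₀1⟩ := (Subgroup.bot_or_exists_ne_one U).resolve_left hU
    obtain ⟨B, -, ⟨hBA, hBg, c, hcB, v, hv, hcv⟩, hmin⟩ := Finite.exists_le_minimal
      (p := fun B : Subgroup (MulAut W) => B ≤ A ∧ (∀ b ∈ B, g * b * g⁻¹ ∈ B) ∧ ∃ c ∈ B, ∃ v ∈ U, c v ≠ v)
      (a := A) ⟨le_rfl, hg, by
        by_contra hcon
        push Not at hcon
        exact hu₀1 (h0 u₀ hu₀ fun a ha => hcon a ha u₀ hu₀)⟩
    letI := Fintype.ofFinite B
    set s := norm B with hs
    have hsmem : ∀ u ∈ U, s u ∈ U := fun u hu => by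
      rw [hs, norm_apply]
      exact Subgroup.prod_mem U fun b _ => hUA b (hBA b.2) u hu
    have hsfix : ∀ w, ∀ b ∈ B, b (s w) = s w := fun w b hb => by
      rw [hs, norm_apply, map_prod]
      exact Fintype.prod_equiv (Equiv.mulLeft (⟨b, hb⟩ : B)) _ _ fun x => rfl
    have hsA : ∀ a ∈ A, ∀ w, s (a w) = a (s w) := fun a ha w => by
      rw [hs, norm_apply, norm_apply, map_prod]
      refine Finset.prod_congr rfl fun b _ => ?_
      show ((b : MulAut W) * a) w = (a * (b : MulAut W)) w
      rw [hab b (hBA b.2) a ha]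
    have hsg : ∀ w, s (g w) = g (s w) := fun w => by
      rw [hs, norm_apply, norm_apply, map_prod]
      let f : B → B := fun b => ⟨g * b * g⁻¹, hBg b b.2⟩
      have hf : Function.Bijective f := (Finite.injective_iff_bijective).mp fun x y e => by
        have e' : g * (x : MulAut W) * g⁻¹ = g * y * g⁻¹ := congrArg Subtype.val e
        exact Subtype.ext (mul_left_cancel (mul_right_cancel e'))
      refine (Fintype.prod_bijective f hf _ _ fun b => ?_).symm
      show (g * (b : MulAut W)) w = (g * b * g⁻¹ * g) w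
      rw [inv_mul_cancel_right]
    set U₁ : Subgroup W :=
      { carrier := {u | u ∈ U ∧ ∀ b ∈ B, b u = u}
        one_mem' := ⟨U.one_mem, fun b _ => map_one b⟩
        mul_mem' := fun hx hy => ⟨U.mul_mem hx.1 hy.1, fun b hb => by rw [map_mul, hx.2 b hb, hy.2 b hb]⟩
        inv_mem' := fun hx => ⟨U.inv_mem hx.1, fun b hb => by rw [map_inv, hx.2 b hb]⟩ } with hU₁
    by_cases h1 : U₁ = ⊥
    · -- pair `a` with `a c`
      have hpair : ∀ a : A, Nat.card (fixIn (g * (a : MulAut W)) U) * Nat.card (fixIn (g * ((a * ⟨c, hBA hcB⟩ : A) : MulAut W)) U) ≤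
          Nat.card U := by
        intro a
        refine card_mul_le inf_le_left inf_le_left ((Subgroup.eq_bot_iff_forall _).mpr fun u hu => ?_)
        obtain ⟨hu1, hu2⟩ := hu
        replace hu1 := mem_fixIn.mp hu1
        replace hu2 := mem_fixIn.mp hu2
        have e1 : g ((a : MulAut W) u) = u := hu1.2
        have e2 : g ((a : MulAut W) (c u)) = u := hu2.2
        have hcu : c u = u := (a : MulAut W).injective (g.injective (e2.trans e1.symm))
        let B₀ : Subgroup (MulAut W) :=
          { carrier := {b | b ∈ B ∧ b u = u}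
            one_mem' := ⟨B.one_mem, rfl⟩
            mul_mem' := fun {x y} hx hy => ⟨B.mul_mem hx.1 hy.1, by
              show x (y u) = u
              rw [hy.2, hx.2]⟩
            inv_mem' := fun {x} hx => ⟨B.inv_mem hx.1, by
              show x.symm u = u
              rw [MulEquiv.symm_apply_eq, hx.2]⟩ }
        have hle : B ≤ B₀ := by
          refine hmin ⟨fun b hb => hBA hb.1, fun b hb => ⟨hBg b hb.1, ?_⟩, c, ⟨hcB, hcu⟩, v, hv, hcv⟩
            (fun b hb => hb.1)
          have hinv : g⁻¹ u = (a : MulAut W) u := by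
            show g.symm u = _
            rw [MulEquiv.symm_apply_eq, e1]
          show g (b (g⁻¹ u)) = u
          rw [hinv, show b ((a : MulAut W) u) = (b * (a : MulAut W)) u from rfl, hab b (hBA hb.1) a a.2]
          show g ((a : MulAut W) (b u)) = u
          rw [hb.2, e1]
        have : u ∈ U₁ := ⟨hu1.1, fun b hb => (hle hb).2⟩
        rw [h1, Subgroup.mem_bot] at this
        exact this
      have hp := Finset.prod_le_prod (s := (Finset.univ : Finset A)) (fun a _ => Nat.zero_le _) fun a _ => hpair a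
      rw [Finset.prod_mul_distrib, Finset.prod_const, Finset.card_univ, ← Nat.card_eq_fintype_card,
        Fintype.prod_equiv (Equiv.mulRight (⟨c, hBA hcB⟩ : A))
          (fun a : A => Nat.card (fixIn (g * ((a * ⟨c, hBA hcB⟩ : A) : MulAut W)) U))
          (fun a : A => Nat.card (fixIn (g * (a : MulAut W)) U)) (fun a => rfl), ← sq] at hp
      exact hn ▸ hp
    · -- the invariant decomposition
      set U₂ : Subgroup W := U ⊓ s.ker with hU₂
      have hdisj : U₁ ⊓ U₂ = ⊥ := (Subgroup.eq_bot_iff_forall _).mpr fun u ⟨hu1, hu2⟩ => by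
        have e : s u = u ^ Nat.card B := by
          rw [hs, norm_apply, Finset.prod_congr rfl fun (b : B) _ => show (b : MulAut W) u = u from hu1.2 b b.2, Finset.prod_const, Finset.card_univ,
            Nat.card_eq_fintype_card]
        have h2 : s u = 1 := hu2.2
        rw [e] at h2
        exact orderOf_eq_one_iff.mp (Nat.eq_one_of_dvd_coprimes
          (hcop.coprime_dvd_left (Subgroup.card_dvd_of_le hBA)) (orderOf_dvd_of_pow_eq_one h2)
          (orderOf_dvd_natCard u))
      have hlt₁ : U₁ < U := lt_of_le_of_ne (fun u hu => hu.1) fun e => hcv ((e.symm ▸ hv : v ∈ U₁).2 c hcB)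
      have hlt₂ : U₂ < U := lt_of_le_of_ne inf_le_left fun e => h1 (by
        rw [e, inf_eq_left.mpr hlt₁.le] at hdisj
        exact hdisj)
      have hcard : Nat.card U₁ * Nat.card U₂ ≤ Nat.card U := card_mul_le hlt₁.le hlt₂.le hdisj
      have hsplit : ∀ a : A, Nat.card (fixIn (g * (a : MulAut W)) U) ≤
          Nat.card (fixIn (g * (a : MulAut W)) U₁) * Nat.card (fixIn (g * (a : MulAut W)) U₂) := fun a => by
        set X := fixIn (g * (a : MulAut W)) U
        set f : X →* W := s.comp X.subtype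
        have h2 := f.ker.card_mul_index
        rw [Subgroup.index_ker] at h2
        rw [← h2, mul_comm]
        refine Nat.mul_le_mul ?_ ?_
        · refine Nat.card_le_card_of_injective (fun y : f.range => (⟨(y : W), ?_⟩ : fixIn (g * (a : MulAut W)) U₁))
            fun y z e => Subtype.ext (congrArg Subtype.val e :)
          obtain ⟨x, hx⟩ := y.2
          obtain ⟨hxU, hxe⟩ := mem_fixIn.mp x.2
          rw [← hx]
          refine mem_fixIn.mpr ⟨⟨hsmem _ hxU, hsfix _⟩, ?_⟩
          show g ((a : MulAut W) (s x)) = s x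
          rw [← hsA a a.2, ← hsg]
          exact congrArg s hxe
        · refine Nat.card_le_card_of_injective (fun y : f.ker => (⟨((y : X) : W), ?_⟩ : fixIn (g * (a : MulAut W)) U₂))
            fun y z e => Subtype.ext (Subtype.ext (congrArg Subtype.val e :))
          obtain ⟨hxU, hxe⟩ := mem_fixIn.mp (y : X).2
          exact mem_fixIn.mpr ⟨⟨hxU, y.2⟩, hxe⟩
      have hA1 := ih _ (hn ▸ Set.Finite.card_lt_card (Set.toFinite _) hlt₁) U₁
        (fun a ha u hu => ⟨hUA a ha u hu.1, fun b hb => by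
          show (b * a) u = a u
          rw [hab b (hBA hb) a ha]
          show a (b u) = a u
          rw [hu.2 b hb]⟩)
        (fun u hu => ⟨hUg u hu.1, fun b hb => by
          obtain ⟨b', hb'⟩ : ∃ b' : B, g * (b' : MulAut W) * g⁻¹ = b := by
            have hf : Function.Surjective (fun x : B => (⟨g * x * g⁻¹, hBg x x.2⟩ : B)) :=
              Finite.injective_iff_surjective.mp fun x y e =>
                Subtype.ext (mul_left_cancel (mul_right_cancel (congrArg Subtype.val e :)))
            obtain ⟨b', e⟩ := hf ⟨b, hb⟩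
            exact ⟨b', congrArg Subtype.val e⟩
          rw [← hb']
          show g ((b' : MulAut W) (g⁻¹ (g u))) = g u
          rw [show g⁻¹ (g u) = u from g.symm_apply_apply u, hu.2 b' b'.2]⟩)
        (fun u hu => h0 u hu.1) rfl
      have hA2 := ih _ (hn ▸ Set.Finite.card_lt_card (Set.toFinite _) hlt₂) U₂
        (fun a ha u hu => ⟨hUA a ha u hu.1, by
          show s (a u) = 1
          rw [hsA a ha, show s u = 1 from hu.2, map_one]⟩)
        (fun u hu => ⟨hUg u hu.1, by
          show s (g u) = 1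
          rw [hsg, show s u = 1 from hu.2, map_one]⟩)
        (fun u hu => h0 u hu.1) rfl
      calc (∏ a : A, Nat.card (fixIn (g * (a : MulAut W)) U)) ^ 2
          ≤ (∏ a : A, Nat.card (fixIn (g * (a : MulAut W)) U₁) * Nat.card (fixIn (g * (a : MulAut W)) U₂)) ^ 2 :=
            Nat.pow_le_pow_left (Finset.prod_le_prod (fun a _ => Nat.zero_le _) fun a _ => hsplit a) 2
        _ ≤ Nat.card U₁ ^ Nat.card A * Nat.card U₂ ^ Nat.card A := by
            rw [Finset.prod_mul_distrib, mul_pow]; exact Nat.mul_le_mul hA1 hA2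
        _ ≤ Nat.card U ^ Nat.card A := by rw [← mul_pow]; exact Nat.pow_le_pow_left hcard _
        _ = _ := by rw [hn]

open scoped Classical in
/-- **The group bound.** -/
theorem prod_fix_group {X : Type*} [Group X] [Fintype X] [Group.IsSolvable X] {p : ℕ} [Fact p.Prime]
    (hW : IsPGroup p W) (ρ : X →* MulAut W)
    (hirr : ∀ U : Subgroup W, (∀ x, ∀ u ∈ U, ρ x u ∈ U) → U = ⊥ ∨ U = ⊤) (hne : ρ ≠ 1) :
    (∏ x, Nat.card (fixIn (ρ x) ⊤)) ^ 2 ≤ Nat.card W ^ Nat.card X := by
  haveI : Group.IsSolvable ρ.range := Group.isSolvable_of_surjective ρ.rangeRestrict_surjective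
  have hR : (⊤ : Subgroup ρ.range) ≠ ⊥ := fun e => hne (MonoidHom.ext fun x => by
    have : ρ.rangeRestrict x ∈ (⊥ : Subgroup ρ.range) := e ▸ Subgroup.mem_top _
    exact congrArg Subtype.val (Subgroup.mem_bot.mp this))
  obtain ⟨A', -, ⟨hA'n, hA'1⟩, hA'min⟩ := Finite.exists_le_minimal
    (p := fun N : Subgroup ρ.range => N.Normal ∧ N ≠ ⊥) (a := ⊤) ⟨inferInstance, hR⟩
  haveI := hA'n
  obtain ⟨hc, r, hr, -, hrg⟩ := CfsgLib.Solvable.Basic.minimal_normal_solvable A' hA'1 fun M hM hMA =>
    or_iff_not_imp_left.mpr fun h => le_antisymm hMA (hA'min ⟨hM, h⟩ hMA)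
  haveI := Fact.mk hr
  set A := A'.map ρ.range.subtype with hA
  letI := Fintype.ofFinite A
  have hAc : ∀ a ∈ A, ∀ b ∈ A, a * b = b * a := by
    rintro _ ⟨a, ha, rfl⟩ _ ⟨b, hb, rfl⟩
    exact congrArg Subtype.val (CfsgLib.Solvable.Basic.isMulCommutative_subgroup_iff.1 hc _ ha _ hb)
  have hAn : ∀ x, ∀ a ∈ A, ρ x * a * (ρ x)⁻¹ ∈ A := by
    rintro x _ ⟨a, ha, rfl⟩
    exact ⟨ρ.rangeRestrict x * a * (ρ.rangeRestrict x)⁻¹, hA'n.conj_mem a ha _, rfl⟩
  -- no common fixed point
  let U₀ : Subgroup W :=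
    { carrier := {u | ∀ a ∈ A, a u = u}
      one_mem' := fun a _ => map_one a
      mul_mem' := fun hu hv a ha => by rw [map_mul, hu a ha, hv a ha]
      inv_mem' := fun hu a ha => by rw [map_inv, hu a ha] }
  have hinv : ∀ x, ∀ u ∈ U₀, ρ x u ∈ U₀ := fun x u hu a ha => by
    have h1 := hu _ (by have := hAn x⁻¹ a ha; rwa [map_inv, inv_inv] at this : (ρ x)⁻¹ * a * ρ x ∈ A)
    have := congrArg (ρ x) h1
    simpa using this
  have hU₀ : U₀ = ⊥ := by
    refine (hirr U₀ hinv).resolve_right fun e => hA'1 ((Subgroup.eq_bot_iff_forall _).mpr fun a ha => ?_)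
    exact Subtype.ext (MulEquiv.ext fun u => (e ▸ Subgroup.mem_top u : u ∈ U₀) _ ⟨a, ha, rfl⟩)
  have hrA : IsPGroup r A := hrg.map _
  have hcop : (Nat.card A).Coprime (Nat.card W) := by
    obtain ⟨i, hi⟩ := hrA.exists_card_eq
    obtain ⟨j, hj⟩ := hW.exists_card_eq
    rw [hi, hj]
    by_cases hrp : r = p
    · exfalso
      rcases Nat.eq_zero_or_pos j with rfl | hj0
      · haveI : Subsingleton W := (Nat.card_eq_one_iff_unique.mp (by simpa using hj)).1
        exact hA'1 ((Subgroup.eq_bot_iff_forall _).mpr fun a _ =>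
          Subtype.ext (MulEquiv.ext fun u => Subsingleton.elim _ _))
      obtain ⟨b, hb, hb1⟩ := hrA.exists_fixed_point_of_prime_dvd_card_of_fixed_point W
        (by rw [hj, hrp]; exact dvd_pow_self p hj0.ne') (a := (1 : W)) (fun a => map_one (a : MulAut W))
      have : b ∈ U₀ := fun a ha => hb ⟨a, ha⟩
      rw [hU₀, Subgroup.mem_bot] at this
      exact hb1 this.symm
    · exact ((Nat.coprime_primes hr Fact.out).mpr hrp).pow _ _
  have hcoset : ∀ x, (∏ a : A, Nat.card (fixIn (ρ x * (a : MulAut W)) ⊤)) ^ 2 ≤ Nat.card W ^ Nat.card A := fun x => by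
    have h := prod_fix_sq_le A hcop hAc (ρ x) (hAn x) ⊤ (fun _ _ _ _ => Subgroup.mem_top _)
      (fun _ _ => Subgroup.mem_top _) fun u _ hu => Subgroup.mem_bot.mp (hU₀ ▸ (hu : u ∈ U₀))
    rwa [Subgroup.card_top] at h
  choose t ht using fun a : A => show ∃ x, ρ x = (a : MulAut W) by
    obtain ⟨b, -, hb⟩ := a.2
    obtain ⟨x, hx⟩ := b.2
    exact ⟨x, hx.trans hb⟩
  have hswap : (∏ x, Nat.card (fixIn (ρ x) ⊤)) ^ Nat.card A = ∏ x, ∏ a : A, Nat.card (fixIn (ρ x * (a : MulAut W)) ⊤) := by
    rw [Finset.prod_comm, Nat.card_eq_fintype_card, ← Finset.card_univ, ← Finset.prod_const]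
    refine Finset.prod_congr rfl fun a _ => ?_
    exact (Fintype.prod_equiv (Equiv.mulRight (t a)) _ _ fun x => by
      simp [map_mul, ht]).symm
  refine (Nat.pow_le_pow_iff_left (n := Nat.card A) Nat.card_pos.ne').mp ?_
  rw [← pow_mul, mul_comm 2, pow_mul, hswap, ← Finset.prod_pow]
  refine le_trans (Finset.prod_le_prod (fun x _ => Nat.zero_le _) fun x _ => hcoset x) ?_
  rw [Finset.prod_const, Finset.card_univ, ← Nat.card_eq_fintype_card, ← pow_mul, ← pow_mul, mul_comm]

end CfsgLib.CharDeep.FixedPointAverage
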