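import Cfsg.Agent.Lib.CharDeep.Relative
import Cfsg.Agent.Lib.CharDeep.Clifford
import Cfsg.Agent.Lib.CharDeep.CommIdem
import Cfsg.Agent.Lib.CharDeep.DetExt

/-!
# Fully ramified characters: Sylow subgroups and `p`-complements of intermediate quotients

If `χ` is fully ramified over `Z` and `Z ≤ K` with `K` normal, the normalizer of a Sylow
intersection `R` permutes the constituents of `χ` on `R`; when the Sylow action is regular
the stabilizer of a constituent gives a `p`-complement of `H ⧸ K`.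
-/

namespace CfsgLib.CharDeep.FullyRamified

open CfsgLib CfsgLib.Char
open scoped Classical ComplexConjugate

universe u

variable {H : Type u} [Group H] [Fintype H]

/-- `χ` is fully ramified over `Z` with respect to `θ`. -/
structure Ramified (Z : Subgroup H) (χ : H → ℂ) (θ : Z → ℂ) (e : ℕ) : Prop where
  irr : Cfsg.IsIrrCharacter H χ
  irrθ : Cfsg.IsIrrCharacter Z θ
  res_eq : ∀ z : Z, χ z = (e : ℂ) * θ z
  sq : e ^ 2 = Z.index

variable {Z : Subgroup H} {χ : H → ℂ} {θ : Z → ℂ} {e : ℕ}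

theorem e_ne_zero (hR : Ramified Z χ θ e) : e ≠ 0 := fun h0 =>
  Subgroup.index_ne_zero_of_finite (H := Z) (by rw [← hR.sq, h0]; rfl)

theorem res_eq_smul (hR : Ramified Z χ θ e) :
    (fun z : Z => χ z) = (e : ℂ) • θ := funext hR.res_eq

theorem indFun_theta (hR : Ramified Z χ θ e) :
    Cfsg.indFun Z θ = (e : ℂ) • χ := by
  refine Relative.eq_smul_of_degree (IsCharacter.indFun Z (IsIrrCharacter.isCharacter hR.irrθ))
    hR.irr ?_ ?_
  · rw [classInner_indFun Z _ (IsIrrCharacter.isClassFunction hR.irr), res_eq_smul hR,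
      classInner_smul_right, classInner_irr_self hR.irrθ, Complex.conj_natCast, mul_one]
  · rw [indFun_one, ← hR.sq, show χ 1 = (e : ℂ) * θ 1 from hR.res_eq 1]
    push_cast; ring

theorem eq_of_over (hR : Ramified Z χ θ e) {ν : H → ℂ} (hν : Cfsg.IsIrrCharacter H ν)
    (h : Cfsg.classInner (fun z : Z => ν z) θ ≠ 0) : ν = χ := by
  by_contra hne
  refine h ?_
  rw [IsCharacter.classInner_comm (IsCharacter.restrict (IsIrrCharacter.isCharacter hν) Z)
    (IsIrrCharacter.isCharacter hR.irrθ),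
    ← classInner_indFun Z _ (IsIrrCharacter.isClassFunction hν), indFun_theta hR,
    classInner_smul_left, classInner_irr_ne hR.irr hν fun h' => hne h'.symm, mul_zero]

theorem vanish (hR : Ramified Z χ θ e) [Z.Normal] {g : H} (hg : g ∉ Z) : χ g = 0 := by
  have h1 := congrFun (indFun_theta hR) g
  rw [indFun_eq_zero_of_normal Z _ hg, Pi.smul_apply, smul_eq_mul, eq_comm, mul_eq_zero] at h1
  exact h1.resolve_left (Nat.cast_ne_zero.2 (e_ne_zero hR))

/-- A constituent of `χ` on an intermediate subgroup. -/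
def Cons (χ : H → ℂ) (L : Subgroup H) (ν : L → ℂ) : Prop :=
  Cfsg.IsIrrCharacter L ν ∧ Cfsg.classInner (fun l : L => χ l) ν ≠ 0

theorem exists_cons (hR : Ramified Z χ θ e) (L : Subgroup H) : ∃ ν, Cons χ L ν :=
  IsCharacter.exists_constituent (IsCharacter.restrict (IsIrrCharacter.isCharacter hR.irr) L)
    fun h0 => by
      obtain ⟨n, hn, hn'⟩ := IsIrrCharacter.apply_one_eq hR.irr
      have h1 : χ 1 = 0 := congrFun h0 1
      rw [hn'] at h1
      exact hn.ne' (Nat.cast_eq_zero.1 h1)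

theorem cons_restrict (hR : Ramified Z χ θ e) {L : Subgroup H} (hZL : Z ≤ L) {ν : L → ℂ}
    (hν : Cons χ L ν) : ∃ d : ℕ, d ≠ 0 ∧ ν ∘ Subgroup.inclusion hZL = (d : ℂ) • θ := by
  have hc := IsIrrCharacter.isCharacter hν.1
  have hc' : Cfsg.IsCharacter Z (ν ∘ Subgroup.inclusion hZL) := IsCharacter.comp hc _
  obtain ⟨k, hk, hexp⟩ := IsCharacter.exists_multiplicity hc'
  have hother : ∀ φ : Cfsg.IrrCharacter Z, (φ : Z → ℂ) ≠ θ → k φ = 0 := fun φ hne => by
    by_contra h0
    have h1 : Cfsg.classInner (ν ∘ Subgroup.inclusion hZL) (φ : Z → ℂ) ≠ 0 := by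
      rw [hk]; exact Nat.cast_ne_zero.2 h0
    have h2 := Clifford.classInner_ne_zero_trans
      (IsCharacter.restrict (IsIrrCharacter.isCharacter hR.irr) L) hν.1 hν.2
      (Subgroup.inclusion hZL) (isCharacter_irr φ) h1
    refine h2 ?_
    show Cfsg.classInner (fun z : Z => χ z) (φ : Z → ℂ) = 0
    rw [res_eq_smul hR, classInner_smul_left, classInner_irr_ne hR.irrθ φ.2 hne.symm, mul_zero]
  have heq : ν ∘ Subgroup.inclusion hZL = (k ⟨θ, hR.irrθ⟩ : ℂ) • θ := by
    funext z
    rw [hexp, Finset.sum_eq_single (⟨θ, hR.irrθ⟩ : Cfsg.IrrCharacter Z)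
      (fun φ _ hne => by rw [hother φ fun h => hne (Subtype.ext h), Nat.cast_zero, zero_mul])
      (fun h => absurd (Finset.mem_univ _) h)]
    rfl
  refine ⟨_, fun h0 => ?_, heq⟩
  obtain ⟨n, hn, hn'⟩ := IsIrrCharacter.apply_one_eq hν.1
  have h1 := congrFun heq 1
  simp [h0, hn'] at h1
  omega

/-- On a subgroup `L ⊇ Z` with `L/Z` a Sylow `p`-subgroup there is one character over `θ`. -/
theorem exists_sylow_cons (hR : Ramified Z χ θ e) [Z.Normal] {L : Subgroup H} (hZL : Z ≤ L)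
    {p k : ℕ} (hp : p.Prime) (hL : Nat.card L = Nat.card Z * p ^ k) (hpL : ¬ p ∣ L.index) :
    ∃ (ψ : L → ℂ) (m : ℕ), Cfsg.IsIrrCharacter L ψ ∧ ¬ p ∣ m ∧
      (fun l : L => χ l) = (m : ℂ) • ψ ∧ ∀ l : L, (l : H) ∉ Z → ψ l = 0 := by
  have hχL := IsCharacter.restrict (IsIrrCharacter.isCharacter hR.irr) L
  obtain ⟨ν, hν⟩ := exists_cons hR L
  obtain ⟨d, hd0, hd⟩ := cons_restrict hR hZL hν
  obtain ⟨n, hn, hn'⟩ := IsIrrCharacter.apply_one_eq hR.irrθ
  have hν1 : ν 1 = (d : ℂ) * θ 1 := congrFun hd 1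
  obtain ⟨m, hm⟩ := IsCharacter.classInner_nat hχL (IsIrrCharacter.isCharacter hν.1)
  have hm0 : m ≠ 0 := fun h0 => hν.2 (by rw [hm, h0, Nat.cast_zero])
  -- the induced character of `ν` is a multiple of `χ`
  have hI := IsCharacter.indFun L (IsIrrCharacter.isCharacter hν.1)
  have hcomm : ∀ ρ : H → ℂ, Cfsg.IsIrrCharacter H ρ → Cfsg.classInner (Cfsg.indFun L ν) ρ =
      Cfsg.classInner (fun l : L => ρ l) ν := fun ρ hρ => by
    rw [classInner_indFun L _ (IsIrrCharacter.isClassFunction hρ)]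
    exact IsCharacter.classInner_comm (IsIrrCharacter.isCharacter hν.1)
      (IsCharacter.restrict (IsIrrCharacter.isCharacter hρ) L)
  have hind1 : Cfsg.indFun L ν 1 = (m : ℂ) * χ 1 := by
    obtain ⟨c, hc, hexp⟩ := IsCharacter.exists_multiplicity hI
    rw [hexp, Finset.sum_eq_single (⟨χ, hR.irr⟩ : Cfsg.IrrCharacter H)]
    · rw [← hm, ← hcomm χ hR.irr, ← hc ⟨χ, hR.irr⟩]
    · intro ρ _ hne
      by_contra h0
      have hc0 : Cfsg.classInner (fun l : L => (ρ : H → ℂ) l) ν ≠ 0 := by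
        rw [← hcomm _ ρ.2, hc]
        exact left_ne_zero_of_mul h0
      refine hne (Subtype.ext (eq_of_over hR ρ.2 ?_))
      exact Clifford.classInner_ne_zero_trans
        (IsCharacter.restrict (isCharacter_irr ρ) L) hν.1 hc0
        (Subgroup.inclusion hZL) (IsIrrCharacter.isCharacter hR.irrθ) (by
          rw [hd, classInner_smul_left, classInner_irr_self hR.irrθ, mul_one]
          exact Nat.cast_ne_zero.2 hd0)
    · exact fun h => absurd (Finset.mem_univ _) h
  have hθ1 : θ 1 ≠ 0 := by rw [hn']; exact Nat.cast_ne_zero.2 hn.ne'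
  have hχ1 : χ 1 = (e : ℂ) * θ 1 := hR.res_eq 1
  have hdeg : L.index * d = m * e := by
    have h1 : ((L.index * d : ℕ) : ℂ) * θ 1 = ((m * e : ℕ) : ℂ) * θ 1 := by
      push_cast
      rw [mul_assoc, ← hν1, ← indFun_one, hind1, hχ1, mul_assoc]
    exact_mod_cast mul_right_cancel₀ hθ1 h1
  have hidx : Z.index = L.index * p ^ k := by
    have h1 := Z.index_mul_card
    rw [← L.index_mul_card, hL] at h1
    refine Nat.eq_of_mul_eq_mul_right (Nat.card_pos (α := Z)) ?_
    rw [h1]; ring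
  have hLd : L.index * d ^ 2 = m ^ 2 * p ^ k := by
    refine Nat.eq_of_mul_eq_mul_left (Nat.pos_of_ne_zero (Subgroup.index_ne_zero_of_finite (H := L))) ?_
    calc L.index * (L.index * d ^ 2) = (L.index * d) ^ 2 := by ring
      _ = m ^ 2 * e ^ 2 := by rw [hdeg]; ring
      _ = L.index * (m ^ 2 * p ^ k) := by rw [hR.sq, hidx]; ring
  -- the norm bound
  have hdle : d ^ 2 ≤ p ^ k := by
    have h1 : ∑ z : Z, ν (Subgroup.inclusion hZL z) * conj (ν (Subgroup.inclusion hZL z)) =
        ((Nat.card Z * d ^ 2 : ℕ) : ℂ) := by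
      refine (Relative.sum_mul_conj (ν ∘ Subgroup.inclusion hZL)).trans ?_
      rw [hd, Relative.classInner_smul_self hR.irrθ]
      push_cast; ring
    have h2 : ∑ l : L, ν l * conj (ν l) = ((Nat.card L : ℕ) : ℂ) := by
      rw [Relative.sum_mul_conj, classInner_irr_self hν.1, mul_one]
    have h1' : ∑ z : Z, ‖ν (Subgroup.inclusion hZL z)‖ ^ 2 = ((Nat.card Z * d ^ 2 : ℕ) : ℝ) := by
      apply Complex.ofReal_injective
      push_cast at h1 ⊢
      rw [← h1]
      exact Finset.sum_congr rfl fun z _ => (Complex.mul_conj' _).symm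
    have h2' : ∑ l : L, ‖ν l‖ ^ 2 = ((Nat.card L : ℕ) : ℝ) := by
      apply Complex.ofReal_injective
      push_cast at h2 ⊢
      rw [← h2]
      exact Finset.sum_congr rfl fun l _ => (Complex.mul_conj' _).symm
    have h3 : ∑ z : Z, ‖ν (Subgroup.inclusion hZL z)‖ ^ 2 ≤ ∑ l : L, ‖ν l‖ ^ 2 := by
      rw [← Finset.sum_image (f := fun l : L => ‖ν l‖ ^ 2) (g := Subgroup.inclusion hZL)
        fun a _ b _ h => Subgroup.inclusion_injective hZL h]
      exact Finset.sum_le_sum_of_subset_of_nonneg (Finset.subset_univ _) fun _ _ _ => sq_nonneg _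
    rw [h1', h2', Nat.cast_le, hL] at h3
    exact Nat.le_of_mul_le_mul_left h3 Nat.card_pos
  have hcop : Nat.Coprime (p ^ k) L.index :=
    Nat.Coprime.pow_left k ((hp.coprime_iff_not_dvd).2 hpL)
  have hd2 : d ^ 2 = p ^ k := le_antisymm hdle
    (Nat.le_of_dvd (pow_pos (Nat.pos_of_ne_zero hd0) 2)
      (hcop.dvd_of_dvd_mul_left ⟨m ^ 2, by rw [hLd]; ring⟩))
  have hm2 : m ^ 2 = L.index := by
    rw [hd2] at hLd
    exact (Nat.eq_of_mul_eq_mul_right (pow_pos hp.pos k) hLd).symm
  have hmd : m * d = e := by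
    refine Nat.pow_left_injective (two_ne_zero) ?_
    show (m * d) ^ 2 = e ^ 2
    rw [mul_pow, hm2, hd2, hR.sq, hidx]
  have hχL' : (fun l : L => χ l) = (m : ℂ) • ν := Relative.eq_smul_of_degree hχL hν.1 hm (by
    show χ ((1 : L) : H) = _
    rw [Subgroup.coe_one, hχ1, hν1, ← hmd]; push_cast; ring)
  refine ⟨ν, m, hν.1, fun hpm => hpL (hm2 ▸ dvd_pow hpm two_ne_zero), hχL', fun l hl => ?_⟩
  have h1 := congrFun hχL' l
  rw [show χ (l : H) = 0 from vanish hR hl, Pi.smul_apply, smul_eq_mul, eq_comm, mul_eq_zero] at h1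
  exact h1.resolve_left (Nat.cast_ne_zero.2 hm0)

/-- The elements normalizing `R` and fixing the function `η` on it. -/
noncomputable def stab (R : Subgroup H) (η : R → ℂ) : Subgroup H :=
  Subgroup.normalizer (R : Set H) ⊓
  { carrier := {h | ∀ x, Cfsg.extendByZero R η (h * x * h⁻¹) = Cfsg.extendByZero R η x}
    one_mem' := fun x => by simp
    mul_mem' := fun {a b} ha hb x => by
      rw [show a * b * x * (a * b)⁻¹ = a * (b * x * b⁻¹) * a⁻¹ by group]
      exact (ha _).trans (hb x)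
    inv_mem' := fun {a} ha x => by
      rw [← ha (a⁻¹ * x * a⁻¹⁻¹)]
      congr 1
      group }

theorem conj_mem_of_normalizer {R : Subgroup H} {n : H} (hn : n ∈ Subgroup.normalizer (R : Set H))
    {r : H} (hr : r ∈ R) : n * r * n⁻¹ ∈ R :=
  (Subgroup.mem_normalizer_iff.1 hn r).1 hr

/-- The conjugate of `η` by an element of the normalizer. -/
noncomputable def conjNor (R : Subgroup H) (n : H) (hn : n ∈ Subgroup.normalizer (R : Set H))
    (η : R → ℂ) : R → ℂ :=
  fun r => η ⟨n * r * n⁻¹, conj_mem_of_normalizer hn r.2⟩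

theorem mem_stab {R : Subgroup H} {η : R → ℂ} {n : H} :
    n ∈ stab R η ↔ ∃ hn : n ∈ Subgroup.normalizer (R : Set H), conjNor R n hn η = η := by
  constructor
  · rintro ⟨h1, h2⟩
    refine ⟨h1, funext fun r => ?_⟩
    have h3 := h2 (r : H)
    rw [extendByZero_apply_mem R η (conj_mem_of_normalizer h1 r.2), extendByZero_coe] at h3
    exact h3
  · rintro ⟨h1, h2⟩
    refine ⟨h1, fun x => ?_⟩
    by_cases hx : x ∈ R
    · rw [extendByZero_apply_mem R η (conj_mem_of_normalizer h1 hx),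
        extendByZero_apply_mem R η hx]
      exact congrFun h2 ⟨x, hx⟩
    · rw [extendByZero_apply_notMem R η hx, extendByZero_apply_notMem R η
        fun h => hx ((Subgroup.mem_normalizer_iff.1 h1 x).2 h)]

/-- Conjugation by the normalizer as an automorphism. -/
noncomputable def norEquiv (R : Subgroup H) (n : H) (hn : n ∈ Subgroup.normalizer (R : Set H)) :
    R ≃* R where
  toFun r := ⟨n * r * n⁻¹, conj_mem_of_normalizer hn r.2⟩
  invFun r := ⟨n⁻¹ * r * n⁻¹⁻¹, conj_mem_of_normalizer (inv_mem hn) r.2⟩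
  left_inv r := Subtype.ext (by simp [mul_assoc])
  right_inv r := Subtype.ext (by simp [mul_assoc])
  map_mul' a b := Subtype.ext (by simp [mul_assoc])

theorem classInner_conjNor {R : Subgroup H} {n : H} (hn : n ∈ Subgroup.normalizer (R : Set H))
    {f : H → ℂ} (hf : ∀ r : R, f (n * r * n⁻¹) = f r) (η : R → ℂ) :
    Cfsg.classInner (fun r : R => f r) (conjNor R n hn η) =
      Cfsg.classInner (fun r : R => f r) η := by
  unfold Cfsg.classInner
  congr 1
  refine Fintype.sum_equiv (norEquiv R n hn).toEquiv _ _ fun r => ?_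
  show f r * conj (η ⟨n * r * n⁻¹, _⟩) = f (n * r * n⁻¹) * conj (η ⟨n * r * n⁻¹, _⟩)
  rw [hf]

theorem cons_conjNor {R : Subgroup H} {n : H} (hn : n ∈ Subgroup.normalizer (R : Set H))
    (hχ : Cfsg.IsClassFunction H χ) {η : R → ℂ} (hη : Cons χ R η) :
    Cons χ R (conjNor R n hn η) :=
  ⟨IsIrrCharacter.comp_surjective hη.1 (norEquiv R n hn).toMonoidHom (norEquiv R n hn).surjective,
    by rw [classInner_conjNor hn (fun r => hχ _ _)]; exact hη.2⟩

theorem classInner_inclusion {R L : Subgroup H} (hRL : R ≤ L) (ψ : L → ℂ) (η : R → ℂ) :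
    Cfsg.classInner (fun t : R.subgroupOf L => ψ t)
        (η ∘ (Subgroup.subgroupOfEquivOfLe hRL).toMonoidHom) =
      Cfsg.classInner (ψ ∘ Subgroup.inclusion hRL) η := by
  unfold Cfsg.classInner
  rw [Nat.card_congr (Subgroup.subgroupOfEquivOfLe hRL).toEquiv]
  congr 1
  exact Fintype.sum_equiv (Subgroup.subgroupOfEquivOfLe hRL).toEquiv _ _ fun t => rfl

/-- The Sylow subgroup is transitive on the constituents on `R`. -/
theorem exists_conjNor {R L : Subgroup H} (hRL : R ≤ L) [(R.subgroupOf L).Normal]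
    {ψ : L → ℂ} (hψ : Cfsg.IsIrrCharacter L ψ) {η η' : R → ℂ} (hη : Cfsg.IsIrrCharacter R η)
    (hη' : Cfsg.IsIrrCharacter R η')
    (h : Cfsg.classInner (ψ ∘ Subgroup.inclusion hRL) η ≠ 0)
    (h' : Cfsg.classInner (ψ ∘ Subgroup.inclusion hRL) η' ≠ 0) :
    ∃ (l : H) (_ : l ∈ L) (hl : l ∈ Subgroup.normalizer (R : Set H)),
      η' = conjNor R l hl η := by
  set ε := Subgroup.subgroupOfEquivOfLe hRL
  obtain ⟨g, hg⟩ := Clifford.exists_conj_of_constituent (R.subgroupOf L) hψ
    (IsIrrCharacter.comp_surjective hη ε.toMonoidHom ε.surjective)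
    (IsIrrCharacter.comp_surjective hη' ε.toMonoidHom ε.surjective)
    (by rw [classInner_inclusion]; exact h) (by rw [classInner_inclusion]; exact h')
  have hgn : (g : H) ∈ Subgroup.normalizer (R : Set H) :=
    Subgroup.le_normalizer_of_normal_subgroupOf hRL g.2
  refine ⟨g, g.2, hgn, funext fun r => ?_⟩
  have h1 := congrFun hg (ε.symm r)
  rw [Clifford.conjFun_apply] at h1
  simp only [Function.comp_apply, MulEquiv.coe_toMonoidHom, MulEquiv.apply_symm_apply] at h1
  rw [h1]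
  rfl

/-- The orbit bound: `f ^ 2` times the orbit length is at most the index. -/
theorem sq_mult_le {R L : Subgroup H} (hRL : R ≤ L) (hLR : L ≤ Subgroup.normalizer (R : Set H))
    {ψ : L → ℂ} (hψ : Cfsg.IsIrrCharacter L ψ) (hvan : ∀ l : L, (l : H) ∉ R → ψ l = 0)
    {η : R → ℂ} (hη : Cfsg.IsIrrCharacter R η) {f : ℕ}
    (hf : Cfsg.classInner (ψ ∘ Subgroup.inclusion hRL) η = f) :
    f ^ 2 * (stab R η).relIndex L ≤ R.relIndex L := by
  set N := R.subgroupOf L
  set ε := Subgroup.subgroupOfEquivOfLe hRL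
  have hnorm : Cfsg.classInner (ψ ∘ Subgroup.inclusion hRL) (ψ ∘ Subgroup.inclusion hRL) =
      (R.relIndex L : ℂ) := by
    have h1 := Relative.norm_restrict_of_vanish hψ N fun l hl => hvan l hl
    have h2 : Cfsg.classInner (fun n : N => ψ n) (fun n : N => ψ n) =
        Cfsg.classInner (ψ ∘ Subgroup.inclusion hRL) (ψ ∘ Subgroup.inclusion hRL) :=
      classInner_inclusion hRL ψ (ψ ∘ Subgroup.inclusion hRL)
    rw [← h2]
    refine mul_left_cancel₀ (card_ne_zero (G := N)) (h1.trans ?_)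
    rw [← Nat.cast_mul, mul_comm (Nat.card N)]
    exact congrArg Nat.cast N.index_mul_card.symm
  obtain ⟨k, hk, -⟩ := IsCharacter.exists_multiplicity
    (IsCharacter.comp (IsIrrCharacter.isCharacter hψ) (Subgroup.inclusion hRL))
  have hsum : ∑ φ : Cfsg.IrrCharacter R, k φ ^ 2 = R.relIndex L := by
    rw [classInner_eq_sum_irr (IsCharacter.isClassFunction
      (IsCharacter.comp (IsIrrCharacter.isCharacter hψ) (Subgroup.inclusion hRL)))] at hnorm
    have h1 : ((∑ φ : Cfsg.IrrCharacter R, k φ ^ 2 : ℕ) : ℂ) = ((R.relIndex L : ℕ) : ℂ) := by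
      rw [← hnorm, Nat.cast_sum]
      refine Finset.sum_congr rfl fun φ _ => ?_
      rw [IsCharacter.classInner_comm (isCharacter_irr φ)
        (IsCharacter.comp (IsIrrCharacter.isCharacter hψ) (Subgroup.inclusion hRL)), hk]
      push_cast; ring
    exact_mod_cast h1
  -- the orbit of `η`
  let T := (stab R η).subgroupOf L
  let Φ : L ⧸ T → Cfsg.IrrCharacter R := fun q =>
    ⟨conjNor R ((q.out : H))⁻¹ (inv_mem (hLR q.out.2)) η,
      IsIrrCharacter.comp_surjective hη (norEquiv R _ (inv_mem (hLR q.out.2))).toMonoidHom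
        (norEquiv R _ (inv_mem (hLR q.out.2))).surjective⟩
  have hinj : Function.Injective Φ := by
    intro a b hab
    rw [← QuotientGroup.out_eq' a, ← QuotientGroup.out_eq' b, QuotientGroup.eq]
    show ((a.out⁻¹ * b.out : L) : H) ∈ stab R η
    refine mem_stab.2 ⟨hLR (a.out⁻¹ * b.out).2, funext fun r => ?_⟩
    have h1 := congrFun (congrArg Subtype.val hab)
      ⟨(b.out : H) * r * (b.out : H)⁻¹, conj_mem_of_normalizer (hLR b.out.2) r.2⟩
    simp only [Φ, conjNor] at h1
    refine (Eq.trans ?_ (h1.trans ?_))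
    · exact congrArg η (Subtype.ext (by simp [mul_assoc]))
    · exact congrArg η (Subtype.ext (by simp [mul_assoc]))
  have hval : ∀ q, k (Φ q) = f := fun q => by
    apply Nat.cast_injective (R := ℂ)
    have he : ψ ∘ Subgroup.inclusion hRL = fun r : R => Cfsg.extendByZero L ψ r :=
      funext fun r => (extendByZero_apply_mem L ψ (hRL r.2)).symm
    rw [← hk, ← hf, he]
    refine classInner_conjNor (inv_mem (hLR q.out.2)) (fun r => ?_) η
    rw [extendByZero_apply_mem L ψ (mul_mem (mul_mem (inv_mem q.out.2) (hRL r.2))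
      (inv_mem (inv_mem q.out.2))), extendByZero_apply_mem L ψ (hRL r.2)]
    exact IsIrrCharacter.isClassFunction hψ (⟨r, hRL r.2⟩ : L) q.out⁻¹
  calc f ^ 2 * (stab R η).relIndex L = ∑ q : L ⧸ T, k (Φ q) ^ 2 := by
        simp only [hval, Finset.sum_const, Finset.card_univ, smul_eq_mul]
        rw [mul_comm]
        congr 1
        rw [← Nat.card_eq_fintype_card]
        rfl
    _ = ∑ φ ∈ Finset.univ.image Φ, k φ ^ 2 := by
        rw [Finset.sum_image fun a _ b _ h => hinj h]
    _ ≤ ∑ φ, k φ ^ 2 := Finset.sum_le_sum_of_subset (Finset.subset_univ _)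
    _ = R.relIndex L := hsum

/-- If on the Sylow intersection the multiplicity of a constituent is at least the order of its
inertia quotient, the quotient `H ⧸ K` has a `p`-complement. -/
theorem exists_pComplement (hR : Ramified Z χ θ e) [Z.Normal] (K : Subgroup H) [K.Normal]
    (hZK : Z ≤ K) (p : ℕ) [Fact p.Prime]
    (hbound : ∀ (L : Subgroup H) (ψ : L → ℂ) (m : ℕ), IsPGroup p (L.map (QuotientGroup.mk' K)) →
      Cfsg.IsIrrCharacter L ψ → ¬ p ∣ m → (fun l : L => χ l) = (m : ℂ) • ψ → Z ≤ L →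
      ∀ (η : (K ⊓ L : Subgroup H) → ℂ) (f : ℕ), Cons χ (K ⊓ L) η →
      Cfsg.classInner (ψ ∘ Subgroup.inclusion (inf_le_right : K ⊓ L ≤ L)) η = f → f ≠ 0 →
      (K ⊓ L).relIndex (stab (K ⊓ L) η ⊓ L) ≤ f) :
    ∃ M : Subgroup (H ⧸ K), M.index = p ^ (Nat.card (H ⧸ K)).factorization p := by
  have hp : p.Prime := Fact.out
  set π := QuotientGroup.mk' Z with hπ
  have hπs : Function.Surjective π := QuotientGroup.mk'_surjective Z
  haveI hKb : (K.map π).Normal := Subgroup.Normal.map inferInstance π hπs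
  obtain ⟨P₀⟩ := (inferInstance : Nonempty (Sylow p (K.map π)))
  set D := (P₀ : Subgroup (K.map π)).map (K.map π).subtype with hD
  obtain ⟨S, hS⟩ := (P₀.isPGroup'.map (K.map π).subtype).exists_le_sylow
  have hDS : (K.map π) ⊓ (S : Subgroup (H ⧸ Z)) = D := by
    refine le_antisymm ?_ (le_inf (Subgroup.map_subtype_le _) hS)
    rintro x ⟨hx1, hx2⟩
    have h1 := P₀.is_maximal' (Q := (S : Subgroup (H ⧸ Z)).subgroupOf (K.map π))
      (S.isPGroup'.comap_of_injective (K.map π).subtype (K.map π).subtype_injective)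
      (fun y hy => hS (Subgroup.mem_map_of_mem _ hy))
    refine Subgroup.mem_map.2 ⟨⟨x, hx1⟩, ?_, rfl⟩
    rw [← h1]; exact hx2
  set L := (S : Subgroup (H ⧸ Z)).comap π with hLdef
  have hZL : Z ≤ L := fun z hz => by
    show π z ∈ (S : Subgroup (H ⧸ Z))
    rw [show π z = 1 from (QuotientGroup.eq_one_iff z).2 hz]
    exact one_mem _
  obtain ⟨k, hk⟩ := IsPGroup.iff_card.1 S.isPGroup'
  have hcard : Nat.card L = Nat.card Z * p ^ k := by
    have h1 := L.index_mul_card
    rw [← Z.index_mul_card, hLdef, Subgroup.index_comap_of_surjective _ hπs] at h1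
    refine Nat.eq_of_mul_eq_mul_left (Nat.pos_of_ne_zero
      (Subgroup.index_ne_zero_of_finite (H := (S : Subgroup (H ⧸ Z))))) ?_
    rw [h1, show Z.index = Nat.card (H ⧸ Z) from rfl,
      ← (S : Subgroup (H ⧸ Z)).index_mul_card, hk]
    ring
  have hpL : ¬ p ∣ L.index := by
    rw [hLdef, Subgroup.index_comap_of_surjective _ hπs]
    exact S.not_dvd_index
  obtain ⟨ψ, m, hψ, hm, hχL, hvan⟩ := exists_sylow_cons hR hZL hp hcard hpL
  have hm0 : (m : ℂ) ≠ 0 := Nat.cast_ne_zero.2 fun h => hm (h ▸ dvd_zero p)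
  set R := K ⊓ L with hRdef
  have hRL : R ≤ L := inf_le_right
  haveI hRnorm : (R.subgroupOf L).Normal := ⟨fun a ha g =>
    ⟨(inferInstance : K.Normal).conj_mem _ ha.1 _,
      L.mul_mem (L.mul_mem g.2 (Subgroup.mem_subgroupOf.1 ha).2) (L.inv_mem g.2)⟩⟩
  have hLR : L ≤ Subgroup.normalizer (R : Set H) :=
    Subgroup.le_normalizer_of_normal_subgroupOf hRL
  have hR_eq : R = D.comap π := by
    rw [← hDS, Subgroup.comap_inf, Subgroup.comap_map_eq_self (by rw [QuotientGroup.ker_mk']; exact hZK)]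
  -- the Frattini argument
  have hFrat : ∀ q : H, ∃ n ∈ Subgroup.normalizer (R : Set H), n⁻¹ * q ∈ K := by
    intro q
    have h1 : π q ∈ Subgroup.normalizer (D : Set (H ⧸ Z)) ⊔ K.map π := by
      rw [hD, Sylow.normalizer_sup_eq_top P₀]; trivial
    obtain ⟨a, ha, b, hb, hab⟩ := Subgroup.mem_sup_of_normal_right.1 h1
    obtain ⟨n, rfl⟩ := hπs a
    refine ⟨n, ?_, ?_⟩
    · rw [Subgroup.mem_normalizer_iff]
      intro x
      rw [hR_eq, Subgroup.mem_comap, Subgroup.mem_comap, map_mul, map_mul, map_inv]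
      exact Subgroup.mem_normalizer_iff.1 ha (π x)
    · have h2 : n⁻¹ * q ∈ (K.map π).comap π := by
        rw [Subgroup.mem_comap, map_mul, map_inv, ← hab, inv_mul_cancel_left]
        exact hb
      rwa [Subgroup.comap_map_eq_self (by rw [QuotientGroup.ker_mk']; exact hZK)] at h2
  set N := Subgroup.normalizer (R : Set H) with hN
  obtain ⟨η, hη⟩ := exists_cons hR R
  have hψR : (fun r : R => χ r) = (m : ℂ) • (ψ ∘ Subgroup.inclusion hRL) :=
    funext fun r => congrFun hχL (Subgroup.inclusion hRL r)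
  have hover : ∀ η', Cons χ R η' →
      Cfsg.classInner (ψ ∘ Subgroup.inclusion hRL) η' ≠ 0 := fun η' h' h0 =>
    h'.2 (by rw [hψR, classInner_smul_left, h0, mul_zero])
  obtain ⟨f, hf⟩ := IsCharacter.classInner_nat
    (IsCharacter.comp (IsIrrCharacter.isCharacter hψ) (Subgroup.inclusion hRL))
    (IsIrrCharacter.isCharacter hη.1)
  have hf0 : f ≠ 0 := fun h => hover η hη (by rw [hf, h, Nat.cast_zero])
  set M := stab R η with hM
  have hMN : M ≤ N := inf_le_left
  have hRM : R ≤ M := fun r hr => mem_stab.2 ⟨hLR (hRL hr), funext fun x =>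
    IsIrrCharacter.isClassFunction hη.1 x ⟨r, hr⟩⟩
  -- `M ⊓ L = R`
  have hML : M ⊓ L = R := by
    refine le_antisymm (Subgroup.relIndex_eq_one.1 ?_) (le_inf hRM hRL)
    have hb := hbound L ψ m (by
      have h1 : (L.map (QuotientGroup.mk' K)) =
          (S : Subgroup (H ⧸ Z)).map (QuotientGroup.map Z K (MonoidHom.id H) hZK) := by
        rw [← Subgroup.map_comap_eq_self_of_surjective hπs (S : Subgroup (H ⧸ Z)),
          Subgroup.map_map]
        rfl
      rw [h1]
      exact S.isPGroup'.map _) hψ hm hχL hZL η f hη hf hf0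
    have hineq := sq_mult_le hRL hLR hψ (fun l hl => hvan l fun hz => hl ⟨hZK hz, l.2⟩) hη.1 hf
    rw [← hM] at hineq
    have h2 := Subgroup.relIndex_mul_relIndex R (M ⊓ L) L (le_inf hRM hRL) inf_le_right
    rw [Subgroup.inf_relIndex_right] at h2
    rw [← h2] at hineq
    have h3 : f ^ 2 ≤ R.relIndex (M ⊓ L) :=
      Nat.le_of_mul_le_mul_right hineq (Nat.pos_of_ne_zero Subgroup.index_ne_zero_of_finite)
    have h4 : 0 < R.relIndex (M ⊓ L) := Nat.pos_of_ne_zero Subgroup.index_ne_zero_of_finite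
    nlinarith
  -- `N = L M`
  have htrans : ∀ n ∈ N, ∃ l ∈ L, l⁻¹ * n ∈ M := by
    intro n hn
    obtain ⟨l, hl, hl', hll⟩ := exists_conjNor hRL hψ hη.1
      (cons_conjNor (inv_mem hn) (IsIrrCharacter.isClassFunction hR.irr) hη).1
      (hover η hη) (hover _ (cons_conjNor (inv_mem hn) (IsIrrCharacter.isClassFunction hR.irr) hη))
    refine ⟨l⁻¹, inv_mem hl, ?_⟩
    rw [inv_inv]
    refine mem_stab.2 ⟨mul_mem hl' hn, funext fun r => ?_⟩
    have h1 := congrFun hll ⟨n * r * n⁻¹, conj_mem_of_normalizer hn r.2⟩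
    simp only [conjNor] at h1
    show η ⟨l * n * r * (l * n)⁻¹, _⟩ = η r
    refine (Eq.trans ?_ (h1.symm.trans ?_))
    · exact congrArg η (Subtype.ext (by simp [mul_assoc]))
    · exact congrArg η (Subtype.ext (by simp [mul_assoc]))
  have hidx : M.relIndex N = R.relIndex L := by
    rw [← hML, Subgroup.inf_relIndex_right]
    symm
    refine Nat.card_congr (Equiv.ofBijective _
      ⟨(Subgroup.quotientSubgroupOfEmbeddingOfLE M hLR).injective, fun y => ?_⟩)
    obtain ⟨⟨n, hn⟩, rfl⟩ := QuotientGroup.mk_surjective y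
    obtain ⟨l, hl, hl'⟩ := htrans n hn
    refine ⟨QuotientGroup.mk ⟨l, hl⟩, ?_⟩
    rw [Subgroup.quotientSubgroupOfEmbeddingOfLE_apply_mk, QuotientGroup.eq]
    exact hl'
  have hpk : ∃ j, R.relIndex L = p ^ j := by
    have h1 := Subgroup.relIndex_mul_relIndex Z R L (le_inf hZK hZL) hRL
    have h2 : Z.relIndex L = p ^ k := by
      refine Nat.eq_of_mul_eq_mul_left (Nat.card_pos (α := Z)) ?_
      rw [← hcard, mul_comm, Subgroup.relIndex,
        ← Nat.card_congr (Subgroup.subgroupOfEquivOfLe hZL).toEquiv, Subgroup.index_mul_card]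
    obtain ⟨j, -, hj⟩ := (Nat.dvd_prime_pow hp).1 (Dvd.intro_left _ (h1.trans h2))
    exact ⟨j, hj⟩
  obtain ⟨j, hj⟩ := hpk
  set g : N →* H ⧸ K := (QuotientGroup.mk' K).comp N.subtype with hg
  have hgs : Function.Surjective g := fun y => by
    obtain ⟨q, rfl⟩ := QuotientGroup.mk'_surjective K y
    obtain ⟨n, hn, hnq⟩ := hFrat q
    exact ⟨⟨n, hn⟩, (QuotientGroup.eq).2 hnq⟩
  refine ⟨(M.subgroupOf N).map g, ?_⟩
  obtain ⟨i, -, hi⟩ := (Nat.dvd_prime_pow hp).1
    (((M.subgroupOf N).index_map_dvd hgs).trans (dvd_of_eq (hidx.trans hj)))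
  have hcop : ¬ p ∣ Nat.card ((M.subgroupOf N).map g) := by
    intro hd
    refine hpL (hd.trans ?_)
    have h1 : Nat.card ((M.subgroupOf N).map g) ∣ R.relIndex M := by
      rw [hg, ← Subgroup.map_map, Subgroup.map_subgroupOf_eq_of_le hMN,
        ← Subgroup.relIndex_ker M (QuotientGroup.mk' K), QuotientGroup.ker_mk']
      exact Subgroup.relIndex_dvd_of_le_left M inf_le_left
    have h3 := Subgroup.relIndex_mul_relIndex R M N hRM hMN
    have h4 := Subgroup.relIndex_mul_relIndex R L N hRL hLR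
    rw [hidx, ← h4, mul_comm (R.relIndex L)] at h3
    have h5 : R.relIndex M = L.relIndex N :=
      Nat.eq_of_mul_eq_mul_right (Nat.pos_of_ne_zero Subgroup.index_ne_zero_of_finite) h3
    exact h1.trans (h5 ▸ Subgroup.relIndex_dvd_index_of_le hLR)
  rw [hi]
  congr 1
  have h6 := ((M.subgroupOf N).map g).index_mul_card
  rw [hi] at h6
  rw [← h6, Nat.factorization_mul (pow_ne_zero _ hp.ne_zero) Nat.card_pos.ne', Finsupp.add_apply,
    hp.factorization_pow, Finsupp.single_eq_same, Nat.factorization_eq_zero_of_not_dvd hcop,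
    add_zero]

theorem inf_relIndex_of_le {K L T : Subgroup H} (hTL : T ≤ L) :
    (K ⊓ L).relIndex T = K.relIndex T := by
  unfold Subgroup.relIndex
  congr 1
  ext t
  simp only [Subgroup.mem_subgroupOf, Subgroup.mem_inf]
  exact ⟨fun h => h.1, fun h => ⟨h, hTL t.2⟩⟩

/-- A character over `θ` is a constituent of `χ`. -/
theorem cons_of_over (hR : Ramified Z χ θ e) {L : Subgroup H} (hZL : Z ≤ L) {ν : L → ℂ}
    (hν : Cfsg.IsIrrCharacter L ν)
    (h : Cfsg.classInner (ν ∘ Subgroup.inclusion hZL) θ ≠ 0) : Cons χ L ν := by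
  refine ⟨hν, ?_⟩
  have hI := IsCharacter.indFun L (IsIrrCharacter.isCharacter hν)
  obtain ⟨ρ, hρ, hρν⟩ := IsCharacter.exists_constituent hI fun h0 => by
    obtain ⟨n, hn, hn'⟩ := IsIrrCharacter.apply_one_eq hν
    have h1 := congrFun h0 1
    rw [indFun_one, hn', Pi.zero_apply, mul_eq_zero, Nat.cast_eq_zero, Nat.cast_eq_zero] at h1
    exact h1.elim Subgroup.index_ne_zero_of_finite hn.ne'
  rw [classInner_indFun L _ (IsIrrCharacter.isClassFunction hρ),
    IsCharacter.classInner_comm (IsIrrCharacter.isCharacter hν)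
      (IsCharacter.restrict (IsIrrCharacter.isCharacter hρ) L)] at hρν
  rwa [eq_of_over hR hρ (Clifford.classInner_ne_zero_trans
    (IsCharacter.restrict (IsIrrCharacter.isCharacter hρ) L) hν hρν (Subgroup.inclusion hZL)
    (IsIrrCharacter.isCharacter hR.irrθ) h)] at hρν

end CfsgLib.CharDeep.FullyRamified
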