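import Mathlib.GroupTheory.Sylow
import Mathlib.GroupTheory.Subgroup.Centralizer
import Mathlib.Data.ZMod.Basic
import Mathlib.GroupTheory.Perm.Sign

/-!
# Homocyclic Sylow 2-subgroups of rank two
-/

namespace CfsgLib.CharDeep.Homocyclic

open Subgroup

theorem two_nsmul_eq_zero_iff {m : ℕ} (x : ZMod (2 ^ (m + 1))) :
    x + x = 0 ↔ x = 0 ∨ x = ((2 ^ m : ℕ) : ZMod (2 ^ (m + 1))) := by
  constructor
  · intro h
    have h1 : ((x.val + x.val : ℕ) : ZMod (2 ^ (m + 1))) = 0 := by
      rw [Nat.cast_add, ZMod.natCast_zmod_val]; exact h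
    rw [ZMod.natCast_eq_zero_iff] at h1
    have h2 : x.val < 2 ^ (m + 1) := x.val_lt
    obtain ⟨c, hc⟩ := h1
    have h3 : 2 ^ (m + 1) = 2 * 2 ^ m := by ring
    have hpos : 0 < 2 ^ m := Nat.two_pow_pos m
    have hc' : x.val + x.val = 2 * 2 ^ m * c := hc.trans (by rw [← h3])
    have h2' : x.val < 2 * 2 ^ m := h2.trans_eq h3
    have hc2 : c < 2 := by nlinarith
    rw [← ZMod.natCast_zmod_val x]
    interval_cases c
    · exact Or.inl (by rw [show x.val = 0 by omega, Nat.cast_zero])
    · exact Or.inr (by rw [show x.val = 2 ^ m by omega])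
  · rintro (rfl | rfl)
    · simp
    · rw [← Nat.cast_add, ← two_mul, ← pow_succ', ZMod.natCast_self]

variable {G : Type*} [Group G] [Finite G]

theorem card_involutions (P : Sylow 2 G) (m : ℕ) (hm : 1 ≤ m)
    (e : (P : Subgroup G) ≃* Multiplicative (ZMod (2 ^ m) × ZMod (2 ^ m))) :
    Nat.card {t : (P : Subgroup G) // orderOf t = 2} = 3 := by
  classical
  obtain ⟨m, rfl⟩ := Nat.exists_eq_add_of_le' hm
  set h : ZMod (2 ^ (m + 1)) := ((2 ^ m : ℕ) : ZMod (2 ^ (m + 1))) with hh
  have h0 : h ≠ 0 := by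
    rw [hh, Ne, ZMod.natCast_eq_zero_iff]
    intro hd
    have := Nat.le_of_dvd (Nat.two_pow_pos m) hd
    rw [pow_succ] at this
    have := Nat.two_pow_pos m
    omega
  rw [Nat.card_congr (Equiv.subtypeEquiv (q := fun v : ZMod (2 ^ (m + 1)) × ZMod (2 ^ (m + 1)) =>
    v ∈ ({(h, 0), (0, h), (h, h)} : Finset _)) (e.toEquiv.trans Multiplicative.toAdd) fun t => ?_)]
  · rw [Nat.card_eq_fintype_card, Fintype.card_coe]
    rw [Finset.card_insert_of_notMem (by simp [h0, Ne.symm h0]),
      Finset.card_insert_of_notMem (by simp [h0.symm, Ne.symm h0]), Finset.card_singleton]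
  · rw [← e.orderOf_eq t, orderOf_eq_prime_iff]
    obtain ⟨⟨a, b⟩, hab⟩ : ∃ v, Multiplicative.ofAdd v = e t := ⟨_, ofAdd_toAdd _⟩
    simp only [Equiv.trans_apply, MulEquiv.toEquiv_eq_coe, MulEquiv.coe_toEquiv, EquivLike.coe_coe,
      ← hab, toAdd_ofAdd, pow_two, ← ofAdd_add, ofAdd_eq_one, Prod.mk_add_mk, Prod.mk_eq_zero,
      two_nsmul_eq_zero_iff, ← hh, Ne, Finset.mem_insert, Finset.mem_singleton, Prod.mk.injEq]
    constructor
    · rintro ⟨⟨h1 | h1, h2 | h2⟩, hne⟩ <;> subst h1 <;> subst h2 <;> simp_all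
    · rintro (⟨rfl, rfl⟩ | ⟨rfl, rfl⟩ | ⟨rfl, rfl⟩) <;> simp [h0]

/-- An element of the normalizer fixing every involution of an abelian Sylow 2-subgroup
centralizes it. -/
theorem mem_centralizer_of_fix (P : Sylow 2 G) (hab : ∀ x ∈ (P : Subgroup G), ∀ y ∈ (P : Subgroup G),
      x * y = y * x) {n : G} (hn : n ∈ normalizer ((P : Subgroup G) : Set G))
    (hfix : ∀ t ∈ (P : Subgroup G), orderOf t = 2 → n * t = t * n) :
    n ∈ centralizer ((P : Subgroup G) : Set G) := by
  classical
  set C := centralizer ((P : Subgroup G) : Set G)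
  set N := normalizer ((P : Subgroup G) : Set G)
  have hPC : (P : Subgroup G) ≤ C := fun x hx => mem_centralizer_iff.2 fun y hy => hab y hy x hx
  have hodd : ¬ 2 ∣ C.relIndex N := fun h2 =>
    P.not_dvd_index (h2.trans ((Subgroup.relIndex_dvd_of_le_left N hPC).trans
      (Dvd.intro _ (Subgroup.relIndex_mul_index (le_normalizer (H := (P : Subgroup G)))))))
  have hCn : (C.subgroupOf N).Normal :=
    (Subgroup.normal_subgroupOf_iff_le_normalizer
      (Subgroup.centralizer_le_normalizer ((P : Subgroup G) : Set G))).2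
        (fun g hg => mem_normalizer_iff.2 fun z => by
          simp only [mem_centralizer_iff]
          constructor
          · intro hz y hy
            have h := hz _ ((mem_normalizer_iff.1 (N.inv_mem hg) y).1 hy)
            rw [inv_inv] at h
            calc y * (g * z * g⁻¹) = g * (g⁻¹ * y * g * z) * g⁻¹ := by group
              _ = g * (z * (g⁻¹ * y * g)) * g⁻¹ := by rw [h]
              _ = _ := by group
          · intro hz y hy
            have h := hz _ ((mem_normalizer_iff.1 hg y).1 hy)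
            calc y * z = g⁻¹ * (g * y * g⁻¹ * (g * z * g⁻¹)) * g := by group
              _ = g⁻¹ * (g * z * g⁻¹ * (g * y * g⁻¹)) * g := by rw [h]
              _ = _ := by group)
  set r := C.relIndex N
  have hr : n ^ r ∈ C := Subgroup.pow_index_mem (C.subgroupOf N) ⟨n, hn⟩
  obtain ⟨a, ha⟩ := P.2.exists_card_eq
  suffices key : ∀ k : ℕ, ∀ x ∈ (P : Subgroup G), x ^ 2 ^ k = 1 → n * x = x * n by
    refine mem_centralizer_iff.2 fun x hx => (key a x hx ?_).symm
    refine orderOf_dvd_iff_pow_eq_one.1 (ha ▸ ?_)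
    exact Subgroup.orderOf_dvd_natCard _ hx
  intro k
  induction k with
  | zero => intro x _ hx; simp only [pow_zero, pow_one] at hx; simp [hx]
  | succ k ih =>
    intro x hx hxk
    have h2 : n * x ^ 2 = x ^ 2 * n :=
      ih _ ((P : Subgroup G).pow_mem hx 2) (by rw [← pow_mul, ← pow_succ']; exact hxk)
    set y := n * x * n⁻¹ * x⁻¹ with hy
    have hnx : n * x * n⁻¹ ∈ (P : Subgroup G) := (mem_normalizer_iff.1 hn x).1 hx
    have hyP : y ∈ (P : Subgroup G) :=
      (P : Subgroup G).mul_mem hnx ((P : Subgroup G).inv_mem hx)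
    have hy2 : y ^ 2 = 1 := by
      rw [hy, (Commute.mul_pow (hab _ hnx _ ((P : Subgroup G).inv_mem hx)) 2), conj_pow, h2,
        mul_inv_cancel_right, inv_pow, mul_inv_cancel]
    have hny : n * y = y * n := by
      by_cases hy1 : y = 1
      · simp [hy1]
      · exact hfix y hyP (orderOf_eq_prime hy2 hy1)
    have hpow : ∀ i : ℕ, n ^ i * x = y ^ i * x * n ^ i := by
      intro i
      induction i with
      | zero => simp
      | succ i ih' =>
        have hc : Commute n (y ^ i) := (Commute.pow_right hny i)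
        calc n ^ (i + 1) * x = n * (n ^ i * x) := by rw [pow_succ', mul_assoc]
          _ = n * y ^ i * (x * n ^ i) := by rw [ih']; simp [mul_assoc]
          _ = y ^ i * (n * x) * n ^ i := by rw [hc.eq]; simp [mul_assoc]
          _ = y ^ i * (y * x * n) * n ^ i := by rw [show y * x * n = n * x by rw [hy]; group]
          _ = _ := by rw [pow_succ y, pow_succ' n]; simp [mul_assoc]
    have h3 : y ^ r = 1 := by
      have h4 := hpow r
      rw [← (mem_centralizer_iff.1 hr x hx), mul_assoc] at h4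
      exact mul_right_cancel (h4.symm.trans (one_mul _).symm)
    have h5 : y = 1 := by
      have h6 : orderOf y ∣ 1 := by
        have := Nat.dvd_gcd (orderOf_dvd_of_pow_eq_one hy2) (orderOf_dvd_of_pow_eq_one h3)
        rwa [(Nat.prime_two.coprime_iff_not_dvd.2 hodd).gcd_eq_one] at this
      exact orderOf_eq_one_iff.1 (Nat.dvd_one.1 h6)
    calc n * x = y * x * n := by rw [hy]; group
      _ = x * n := by rw [h5, one_mul]

/-- Description of `N(P)/C(P)`. -/
theorem normalizer_structure (P : Sylow 2 G) (m : ℕ) (hm : 1 ≤ m)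
    (e : (P : Subgroup G) ≃* Multiplicative (ZMod (2 ^ m) × ZMod (2 ^ m))) :
    ((centralizer (P : Set G)).relIndex (normalizer (P : Set G)) = 1 ∨
      (centralizer (P : Set G)).relIndex (normalizer (P : Set G)) = 3) ∧
    (∀ n ∈ normalizer (P : Set G), n ∉ centralizer (P : Set G) →
      ∀ t ∈ (P : Subgroup G), orderOf t = 2 → n * t ≠ t * n) ∧
    ((centralizer (P : Set G)).relIndex (normalizer (P : Set G)) ≠ 1 →
      ∀ s t : G, s ∈ (P : Subgroup G) → t ∈ (P : Subgroup G) → orderOf s = 2 → orderOf t = 2 →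
        ∃ n ∈ normalizer (P : Set G), n * s * n⁻¹ = t) := by
  classical
  have hab : ∀ x ∈ (P : Subgroup G), ∀ y ∈ (P : Subgroup G), x * y = y * x := fun x hx y hy =>
    congrArg Subtype.val (e.injective (by rw [map_mul, map_mul, mul_comm]) :
      (⟨x, hx⟩ * ⟨y, hy⟩ : (P : Subgroup G)) = ⟨y, hy⟩ * ⟨x, hx⟩)
  set T := {t : (P : Subgroup G) // orderOf t = 2}
  have hT : Nat.card T = 3 := card_involutions P m hm e
  set N := normalizer ((P : Subgroup G) : Set G)
  set C := centralizer ((P : Subgroup G) : Set G)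
  letI : MulAction N T :=
    { smul := fun n t => ⟨⟨(n : G) * t * (n : G)⁻¹, (mem_normalizer_iff.1 n.2 _).1 t.1.2⟩, by
        rw [← Subgroup.orderOf_coe]
        show orderOf ((n : G) * t * (n : G)⁻¹) = 2
        rw [show (n : G) * t * (n : G)⁻¹ = MulAut.conj (n : G) t from rfl, MulEquiv.orderOf_eq,
          Subgroup.orderOf_coe, t.2]⟩
      one_smul := fun t => Subtype.ext (Subtype.ext (by
        show ((1 : N) : G) * t * ((1 : N) : G)⁻¹ = t
        simp))
      mul_smul := fun a b t => Subtype.ext (Subtype.ext (by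
        show ((a * b : N) : G) * t * ((a * b : N) : G)⁻¹ = (a : G) * (b * t * (b : G)⁻¹) * (a : G)⁻¹
        rw [Subgroup.coe_mul]; group)) }
  set σ := MulAction.toPermHom N T
  have hfix : ∀ (n : N) (t : T), n • t = t ↔ (n : G) * t = t * n := fun n t => by
    rw [Subtype.ext_iff, Subtype.ext_iff, ← mul_inv_eq_iff_eq_mul]
    exact Iff.rfl
  have hker : σ.ker = C.subgroupOf N := by
    ext n
    rw [MonoidHom.mem_ker, Equiv.Perm.ext_iff, Subgroup.mem_subgroupOf]
    constructor
    · intro h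
      exact mem_centralizer_of_fix P hab n.2 fun t ht ho =>
        (hfix n ⟨⟨t, ht⟩, by rw [← Subgroup.orderOf_coe]; exact ho⟩).1 (h _)
    · intro h t
      exact (hfix n t).2 (mem_centralizer_iff.1 h t t.1.2).symm
  have hPC : (P : Subgroup G) ≤ C := fun x hx => mem_centralizer_iff.2 fun y hy => hab y hy x hx
  have hodd : ¬ 2 ∣ C.relIndex N := fun h2 =>
    P.not_dvd_index (h2.trans ((Subgroup.relIndex_dvd_of_le_left N hPC).trans
      (Dvd.intro _ (Subgroup.relIndex_mul_index (le_normalizer (H := (P : Subgroup G)))))))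
  have h6 : C.relIndex N ∣ 6 := by
    show (C.subgroupOf N).index ∣ 6
    rw [← hker, Subgroup.index_ker]
    refine (Subgroup.card_subgroup_dvd_card _).trans ?_
    have : Fintype T := Fintype.ofFinite T
    rw [Nat.card_eq_fintype_card, Fintype.card_perm, ← Nat.card_eq_fintype_card, hT]
    rfl
  have hval : C.relIndex N = 1 ∨ C.relIndex N = 3 := by
    have := Nat.le_of_dvd (by norm_num) h6
    interval_cases hc : C.relIndex N <;> revert h6 hodd <;> decide
  have hfree : ∀ n ∈ N, n ∉ C → ∀ t ∈ (P : Subgroup G), orderOf t = 2 → n * t ≠ t * n := by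
    intro n hn hnC t ht ho hnt
    refine hnC ?_
    have h3 : (⟨n, hn⟩ : N) ^ C.relIndex N ∈ C.subgroupOf N := by
      have : (C.subgroupOf N).Normal := hker ▸ inferInstance
      exact Subgroup.pow_index_mem _ _
    rw [← hker, MonoidHom.mem_ker, map_pow] at h3
    set π := σ ⟨n, hn⟩ with hπ
    have hπt : π ⟨⟨t, ht⟩, by rw [← Subgroup.orderOf_coe]; exact ho⟩ =
        ⟨⟨t, ht⟩, by rw [← Subgroup.orderOf_coe]; exact ho⟩ := (hfix _ _).2 hnt
    have hπ1 : π = 1 := by
      have : Fintype T := Fintype.ofFinite T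
      have hd : ∀ (f : Equiv.Perm (Fin 3)) (i : Fin 3), f i = i → f ^ 3 = 1 → f = 1 := by decide
      have hcard : Fintype.card T = 3 := by rw [← Nat.card_eq_fintype_card, hT]
      let ψ := Fintype.equivFinOfCardEq hcard
      have hf3 : π ^ 3 = 1 := by
        rcases hval with h | h
        · rw [h, pow_one] at h3; rw [h3, one_pow]
        · rwa [h] at h3
      have h7 := hd (ψ.permCongr π) (ψ _) (by rw [Equiv.permCongr_apply, ψ.symm_apply_apply, hπt])
        (by
          rw [← Equiv.permCongrHom_coe, ← map_pow, hf3, map_one])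
      exact ψ.permCongrHom.injective (h7.trans (map_one _).symm)
    have : (⟨n, hn⟩ : N) ∈ C.subgroupOf N := hker ▸ MonoidHom.mem_ker.2 hπ1
    exact this
  refine ⟨hval, hfree, fun hne s t hs ht hso hto => ?_⟩
  obtain ⟨n, hn, hnC⟩ : ∃ n ∈ N, n ∉ C := by
    by_contra h
    push Not at h
    exact hne (Subgroup.relIndex_eq_one.2 h)
  set π := σ ⟨n, hn⟩ with hπ
  have hnofix : ∀ u : T, π u ≠ u := fun u hu =>
    hfree n hn hnC u u.1.2 (by rw [Subgroup.orderOf_coe]; exact u.2) ((hfix _ u).1 hu)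
  have : Fintype T := Fintype.ofFinite T
  have hcard : Fintype.card T = 3 := by rw [← Nat.card_eq_fintype_card, hT]
  let ψ := Fintype.equivFinOfCardEq hcard
  have hd : ∀ f : Equiv.Perm (Fin 3), (∀ i, f i ≠ i) → ∀ i j, i = j ∨ f i = j ∨ f (f i) = j := by
    decide
  let s' : T := ⟨⟨s, hs⟩, by rw [← Subgroup.orderOf_coe]; exact hso⟩
  let t' : T := ⟨⟨t, ht⟩, by rw [← Subgroup.orderOf_coe]; exact hto⟩
  have hcase := hd (ψ.permCongr π) (fun i h => hnofix (ψ.symm i) (ψ.injective (by
    rw [Equiv.permCongr_apply] at h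
    rw [h, ψ.apply_symm_apply]))) (ψ s') (ψ t')
  simp only [Equiv.permCongr_apply, ψ.symm_apply_apply, ψ.injective.eq_iff] at hcase
  rcases hcase with h | h | h
  · exact ⟨1, N.one_mem, by
      rw [one_mul, inv_one, mul_one]
      exact congrArg (fun u : T => ((u.1 : (P : Subgroup G)) : G)) h⟩
  · exact ⟨n, hn, congrArg (fun u : T => ((u.1 : (P : Subgroup G)) : G)) h⟩
  · refine ⟨n * n, N.mul_mem hn hn, ?_⟩
    have h' : n * (n * s * n⁻¹) * n⁻¹ = t :=
      congrArg (fun u : T => ((u.1 : (P : Subgroup G)) : G)) h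
    rw [← h']; group

end CfsgLib.CharDeep.Homocyclic
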