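import Cfsg.Agent.Lib.Blocks.Basic
import Cfsg.Agent.Lib.CharDeep.IrrTools

/-!
# The algebra homomorphism out of the endomorphisms of an irreducible representation
-/

set_option autoImplicit false
set_option linter.unusedSectionVars false

open scoped Classical

namespace CfsgLib.CharDeep.HomogLift

open Module

variable {N : Type*} [Group N] [Fintype N] {U V : Type*} [AddCommGroup U] [Module ℂ U]
  [FiniteDimensional ℂ U] [AddCommGroup V] [Module ℂ V] [FiniteDimensional ℂ V]
  (σ : Representation ℂ N U) [σ.IsIrreducible] (π : Representation ℂ N V)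

include σ in
theorem finrank_ne_zero : (finrank ℂ U : ℂ) ≠ 0 := by
  have := IrrTools.apply_ne_zero_of_isIrreducible σ
  exact Nat.cast_ne_zero.2 finrank_pos.ne'

theorem card_ne_zero' : (Nat.card N : ℂ) ≠ 0 := Nat.cast_ne_zero.2 Nat.card_pos.ne'

/-- Averaging an endomorphism over an irreducible representation. -/
theorem average_eq (B : Module.End ℂ U) :
    (finrank ℂ U : ℂ) • ∑ x : N, σ x * B * σ x⁻¹
      = ((Nat.card N : ℂ) * LinearMap.trace ℂ U B) • (1 : Module.End ℂ U) := by
  set S := ∑ x : N, σ x * B * σ x⁻¹ with hS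
  obtain ⟨c, hc⟩ := IrrTools.exists_smul_of_commute σ S fun g => by
    simp only [hS, Finset.sum_mul, Finset.mul_sum]
    refine (Fintype.sum_equiv (Equiv.mulLeft g) _ _ fun x => ?_).symm
    show σ g * (σ x * B * σ x⁻¹) = σ (g * x) * B * σ (g * x)⁻¹ * σ g
    rw [mul_inv_rev, map_mul, map_mul]
    simp only [mul_assoc]
    rw [← map_mul σ g⁻¹ g, inv_mul_cancel, map_one, mul_one]
  have ht : LinearMap.trace ℂ U S = (Nat.card N : ℂ) * LinearMap.trace ℂ U B := by
    rw [hS, map_sum, Finset.sum_congr rfl fun x _ => ?_, Finset.sum_const, Finset.card_univ,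
      nsmul_eq_mul, Nat.card_eq_fintype_card]
    rw [LinearMap.trace_mul_comm, ← mul_assoc, ← map_mul, inv_mul_cancel, map_one, one_mul]
  rw [hc, map_smul, LinearMap.trace_one, smul_eq_mul] at ht
  rw [hc, smul_smul, mul_comm, ht]

/-- Every endomorphism is recovered from its traces against the representation. -/
theorem schur_sum (A : Module.End ℂ U) :
    (finrank ℂ U : ℂ) • ∑ x : N, LinearMap.trace ℂ U (A * σ x⁻¹) • σ x
      = (Nat.card N : ℂ) • A := by
  have hrank : ∀ (f : U →ₗ[ℂ] ℂ) (w : U), (finrank ℂ U : ℂ) • ∑ x : N,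
      LinearMap.trace ℂ U (f.smulRight w * σ x⁻¹) • σ x
        = (Nat.card N : ℂ) • f.smulRight w := by
    intro f w
    refine LinearMap.ext fun v => ?_
    have h := LinearMap.congr_fun (average_eq σ (f.smulRight v)) w
    simp only [LinearMap.smul_apply, LinearMap.sum_apply, Module.End.mul_apply,
      LinearMap.smulRight_apply, map_smul, Module.End.one_apply] at h ⊢
    rw [LinearMap.trace_smulRight] at h
    have e : ∀ x : N, LinearMap.trace ℂ U (f.smulRight w * σ x⁻¹) = f (σ x⁻¹ w) := fun x => by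
      rw [show f.smulRight w * σ x⁻¹ = (f ∘ₗ σ x⁻¹).smulRight w from rfl,
        LinearMap.trace_smulRight, LinearMap.comp_apply]
    simp only [e]
    rw [h, smul_smul]
  let b := Module.finBasis ℂ U
  have hA : A = ∑ i, (b.coord i).smulRight (A (b i)) := by
    refine b.ext fun j => ?_
    simp [LinearMap.sum_apply, Finsupp.single_apply, eq_comm]
  rw [hA]
  simp only [Finset.sum_mul, map_sum, Finset.sum_smul]
  rw [Finset.sum_comm, Finset.smul_sum, Finset.smul_sum]
  exact Finset.sum_congr rfl fun i _ => hrank _ _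

/-- The candidate for the homomorphism sending `σ n` to `π n`. -/
noncomputable def lift : Module.End ℂ U →ₗ[ℂ] Module.End ℂ V :=
  ((finrank ℂ U : ℂ) / (Nat.card N : ℂ)) •
    ∑ x : N, ((LinearMap.trace ℂ U) ∘ₗ LinearMap.mulRight ℂ (σ x⁻¹)).smulRight (π x)

theorem lift_apply (A : Module.End ℂ U) :
    lift σ π A = ((finrank ℂ U : ℂ) / (Nat.card N : ℂ)) •
      ∑ x : N, LinearMap.trace ℂ U (A * σ x⁻¹) • π x := by
  simp [lift, LinearMap.sum_apply]

theorem eq_sum (A : Module.End ℂ U) :
    A = ((finrank ℂ U : ℂ) / (Nat.card N : ℂ)) •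
      ∑ x : N, LinearMap.trace ℂ U (A * σ x⁻¹) • σ x := by
  rw [div_eq_inv_mul, ← smul_smul, schur_sum, smul_smul, inv_mul_cancel₀ card_ne_zero', one_smul]

include σ in
/-- Linear maps out of the endomorphisms are determined on the image of an irreducible
representation. -/
theorem linearMap_ext {P : Type*} [AddCommGroup P] [Module ℂ P]
    {f f' : Module.End ℂ U →ₗ[ℂ] P} (h : ∀ x, f (σ x) = f' (σ x)) : f = f' :=
  LinearMap.ext fun A => by
    rw [eq_sum σ A]
    simp only [map_smul, map_sum, h]

variable {m : ℕ} (hm : ∀ x, π.character x = (m : ℂ) * σ.character x)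

theorem idempotent_eq_one_of_trace {Z : Module.End ℂ V} (hZ : IsIdempotentElem Z)
    (ht : LinearMap.trace ℂ V Z = (finrank ℂ V : ℂ)) : Z = 1 := by
  have hp := (LinearMap.isProj_range_iff_isIdempotentElem Z).2 hZ
  rw [hp.trace, Nat.cast_inj] at ht
  have htop := Submodule.eq_top_of_finrank_eq ht
  refine LinearMap.ext fun v => ?_
  obtain ⟨w, rfl⟩ : v ∈ LinearMap.range Z := htop ▸ Submodule.mem_top
  rw [← Module.End.mul_apply, hZ.eq, Module.End.one_apply]

include hm in
theorem lift_sigma (n : N) : lift σ π (σ n) = π n := by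
  set d : ℂ := (finrank ℂ U : ℂ)
  set Nc : ℂ := (Nat.card N : ℂ)
  set φ : Cfsg.IrrCharacter N := ⟨σ.character, IrrTools.isIrrCharacter_character σ⟩
  set Z : Module.End ℂ V := (d / Nc) • ∑ y : N, σ.character y⁻¹ • π y with hZdef
  have hd : d ≠ 0 := finrank_ne_zero σ
  have hN : Nc ≠ 0 := card_ne_zero'
  have hφ1 : σ.character 1 = d := Representation.char_one σ
  have hZ : IsIdempotentElem Z := by
    show Z * Z = Z
    simp only [hZdef, smul_mul_smul_comm, Finset.sum_mul, Finset.mul_sum]
    have e : ∑ i : N, ∑ j : N, (σ.character i⁻¹ * σ.character j⁻¹) • (π i * π j)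
        = ∑ z : N, (Nc / d * σ.character z⁻¹) • π z := by
      have h1 : ∀ z : N, ∑ i : N, σ.character i⁻¹ * σ.character (z⁻¹ * i) = Nc / d * σ.character z⁻¹ := by
        intro z
        have h := CfsgLib.Blocks.gen_orth φ φ z⁻¹
        rw [if_pos rfl] at h
        simp only [φ, hφ1] at h
        rw [div_mul_eq_mul_div, ← h]
        refine Fintype.sum_equiv (Equiv.inv N) _ _ fun i => ?_
        show σ.character i⁻¹ * σ.character (z⁻¹ * i) = σ.character i⁻¹ * σ.character (i⁻¹⁻¹ * z⁻¹)
        rw [inv_inv, Representation.char_mul_comm]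
      simp only [← h1, Finset.sum_smul]
      rw [Finset.sum_comm (f := fun z i => (σ.character i⁻¹ * σ.character (z⁻¹ * i)) • π z)]
      refine Finset.sum_congr rfl fun i _ => ?_
      refine Fintype.sum_equiv (Equiv.mulLeft i) _ _ fun j => ?_
      simp [map_mul]
    rw [Finset.sum_comm, e, Finset.smul_sum, Finset.smul_sum]
    refine Finset.sum_congr rfl fun z _ => ?_
    rw [smul_smul, smul_smul]
    congr 1
    field_simp
  have hZt : LinearMap.trace ℂ V Z = (finrank ℂ V : ℂ) := by
    rw [hZdef, map_smul, map_sum]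
    have h := CfsgLib.Blocks.gen_orth φ φ 1
    rw [if_pos rfl] at h
    simp only [φ, hφ1, mul_one] at h
    have e : ∑ y : N, LinearMap.trace ℂ V (σ.character y⁻¹ • π y) = (m : ℂ) * (Nc * d / d) := by
      rw [← h, Finset.mul_sum]
      refine Finset.sum_congr rfl fun y _ => ?_
      rw [map_smul, smul_eq_mul, show LinearMap.trace ℂ V (π y) = π.character y from rfl, hm]
      ring
    rw [e, smul_eq_mul, ← Representation.char_one π, hm, hφ1]
    field_simp
  have hZ1 := idempotent_eq_one_of_trace hZ hZt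
  rw [lift_apply]
  refine Eq.trans ?_ (mul_one (π n))
  rw [← hZ1, hZdef, mul_smul_comm, Finset.mul_sum]
  congr 1
  refine Fintype.sum_equiv (Equiv.mulLeft n⁻¹) _ _ fun x => ?_
  show _ = π n * σ.character (n⁻¹ * x)⁻¹ • π (n⁻¹ * x)
  rw [mul_smul_comm, ← map_mul π, mul_inv_cancel_left]
  congr 1
  show LinearMap.trace ℂ U (σ n * σ x⁻¹) = σ.character (n⁻¹ * x)⁻¹
  rw [mul_inv_rev, inv_inv, Representation.char_mul_comm, ← map_mul]
  rfl

include hm in
theorem lift_one : lift σ π 1 = 1 := by
  have h := lift_sigma σ π hm 1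
  simpa using h

include hm in
theorem lift_mul (A B : Module.End ℂ U) : lift σ π (A * B) = lift σ π A * lift σ π B := by
  conv_lhs => rw [eq_sum σ A, eq_sum σ B]
  rw [lift_apply σ π A, lift_apply σ π B]
  simp only [smul_mul_smul_comm, Finset.sum_mul, Finset.mul_sum, map_smul, map_sum, ← map_mul,
    lift_sigma σ π hm]

include hm in
theorem trace_lift_mul (A : Module.End ℂ U) (y : N) :
    LinearMap.trace ℂ V (lift σ π A * π y) = (m : ℂ) * LinearMap.trace ℂ U (A * σ y) := by
  rw [lift_apply]
  conv_rhs => rw [eq_sum σ A]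
  simp only [smul_mul_assoc, Finset.sum_mul, map_smul, map_sum, ← map_mul, smul_eq_mul,
    Finset.mul_sum]
  refine Finset.sum_congr rfl fun x _ => ?_
  rw [show LinearMap.trace ℂ V (π (x * y)) = π.character (x * y) from rfl, hm]
  show _ = _ * (_ * (_ * σ.character (x * y)))
  ring

include hm in
theorem lift_injective (hm0 : m ≠ 0) : Function.Injective (lift σ π) := by
  refine (injective_iff_map_eq_zero _).2 fun A hA => ?_
  rw [eq_sum σ A]
  refine smul_eq_zero.2 (Or.inr (Finset.sum_eq_zero fun x _ => ?_))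
  have h := trace_lift_mul σ π hm A x⁻¹
  rw [hA, zero_mul, map_zero, eq_comm, mul_eq_zero] at h
  rw [h.resolve_left (Nat.cast_ne_zero.2 hm0), zero_smul]

end CfsgLib.CharDeep.HomogLift
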