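import Cfsg.Agent.Lib.CharDeep.HomogLift
import Cfsg.Agent.Lib.CharDeep.CommIdem
import Mathlib.GroupTheory.Commutator.Basic
import Mathlib.LinearAlgebra.Determinant

/-!
# Operators implementing conjugation inside the commutant of a normal subgroup
-/

set_option autoImplicit false
set_option linter.unusedSectionVars false

open scoped Classical commutatorElement

namespace CfsgLib.CharDeep.Implementers

open Module CfsgLib.CharDeep.HomogLift

variable {G : Type*} [Group G] [Fintype G] {K C : Subgroup G} [K.Normal] [C.Normal] [Fintype K]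
  [Fintype C] {U W : Type*} [AddCommGroup U] [Module ℂ U] [FiniteDimensional ℂ U]
  [AddCommGroup W] [Module ℂ W] [FiniteDimensional ℂ W]

/-- An irreducible representation and one with the same character differ by a unit. -/
theorem exists_unit_of_character_eq {N : Type*} [Group N] [Finite N] (σ σ' : Representation ℂ N U)
    [σ.IsIrreducible] (h : σ'.character = σ.character) :
    ∃ A : (Module.End ℂ U)ˣ, ∀ x, (A : Module.End ℂ U) * σ x = σ' x * A := by
  obtain ⟨φ⟩ := IrrTools.nonempty_equiv_of_character_eq σ σ' h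
  refine ⟨⟨φ.toLinearEquiv.toLinearMap, φ.toLinearEquiv.symm.toLinearMap,
    LinearMap.ext fun v => φ.toLinearEquiv.apply_symm_apply v,
    LinearMap.ext fun v => φ.toLinearEquiv.symm_apply_apply v⟩, fun x => ?_⟩
  exact φ.toIntertwiningMap.isIntertwining' x

/-- Restriction to a smaller subgroup. -/
abbrev res (hCK : C ≤ K) (σ : Representation ℂ K U) : Representation ℂ C U :=
  σ.comp (Subgroup.inclusion hCK)

/-- The scalar units. -/
noncomputable def scal : ℂˣ →* (Module.End ℂ U)ˣ :=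
  Units.map (algebraMap ℂ (Module.End ℂ U)).toMonoidHom

theorem scal_val (d : ℂˣ) : ((scal d : (Module.End ℂ U)ˣ) : Module.End ℂ U) = (d : ℂ) • 1 :=
  Algebra.algebraMap_eq_smul_one _

theorem scal_comm (d : ℂˣ) (u : (Module.End ℂ U)ˣ) : Commute (scal d) u :=
  Units.ext (Algebra.commutes (d : ℂ) (u : Module.End ℂ U))

theorem scal_injective [Nontrivial U] : Function.Injective (scal : ℂˣ → (Module.End ℂ U)ˣ) :=
  Units.map_injective (FaithfulSMul.algebraMap_injective ℂ (Module.End ℂ U))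

variable (hCK : C ≤ K) (σ : Representation ℂ K U) [σ.IsIrreducible] (ρ : Representation ℂ C W)
  [ρ.IsIrreducible]

/-- Commutation with the image of the smaller subgroup. -/
def Comm (X : Module.End ℂ U) : Prop := ∀ c : C, Commute X (res hCK σ c)

theorem comm_lift {X : Module.End ℂ U} (hX : Comm hCK σ X) (R : Module.End ℂ W) :
    Commute (lift ρ (res hCK σ) R) X := by
  show _ * X = X * _
  rw [lift_apply, smul_mul_assoc, mul_smul_comm, Finset.sum_mul, Finset.mul_sum]
  congr 1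
  exact Finset.sum_congr rfl fun c _ => by rw [smul_mul_assoc, mul_smul_comm, (hX c).eq]

variable {g : ℕ} (hm : ∀ c, (res hCK σ).character c = (g : ℂ) * ρ.character c)

/-- The homomorphism out of the endomorphisms of `ρ`, on units. -/
noncomputable def ulift : (Module.End ℂ W)ˣ →* (Module.End ℂ U)ˣ :=
  Units.map
    { toFun := lift ρ (res hCK σ)
      map_one' := lift_one ρ _ hm
      map_mul' := lift_mul ρ _ hm }

theorem ulift_val (R : (Module.End ℂ W)ˣ) :
    (ulift hCK σ ρ hm R : Module.End ℂ U) = lift ρ (res hCK σ) R := rfl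

/-- `u` commutes with `C` and implements conjugation by `x` up to a factor from `C`. -/
def Impl (x : G) (u : (Module.End ℂ U)ˣ) : Prop :=
  Comm hCK σ (u : Module.End ℂ U) ∧ ∃ R : (Module.End ℂ W)ˣ, ∀ k : K,
    ((ulift hCK σ ρ hm R * u : (Module.End ℂ U)ˣ) : Module.End ℂ U) * σ k
      = σ (MulAut.conjNormal x k) * ((ulift hCK σ ρ hm R * u : (Module.End ℂ U)ˣ) : Module.End ℂ U)

theorem comm_ulift {u : (Module.End ℂ U)ˣ} (hu : Comm hCK σ (u : Module.End ℂ U))
    (R : (Module.End ℂ W)ˣ) : Commute (ulift hCK σ ρ hm R) u :=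
  Units.ext (comm_lift hCK σ ρ hu (R : Module.End ℂ W))

theorem impl_mul {x y : G} {a b : (Module.End ℂ U)ˣ} (ha : Impl hCK σ ρ hm x a)
    (hb : Impl hCK σ ρ hm y b) : Impl hCK σ ρ hm (x * y) (a * b) := by
  obtain ⟨hac, R, hR⟩ := ha
  obtain ⟨hbc, S, hS⟩ := hb
  refine ⟨fun c => by rw [Units.val_mul]; exact (hac c).mul_left (hbc c), R * S, fun k => ?_⟩
  have e : ulift hCK σ ρ hm (R * S) * (a * b)
      = (ulift hCK σ ρ hm R * a) * (ulift hCK σ ρ hm S * b) := by
    rw [map_mul, mul_assoc, mul_assoc, ← mul_assoc (ulift hCK σ ρ hm S),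
      (comm_ulift hCK σ ρ hm hac S).eq, mul_assoc]
  rw [e, Units.val_mul, mul_assoc, hS, ← mul_assoc, hR, mul_assoc, map_mul, MulAut.mul_apply]

theorem impl_inv {x : G} {a : (Module.End ℂ U)ˣ} (ha : Impl hCK σ ρ hm x a) :
    Impl hCK σ ρ hm x⁻¹ a⁻¹ := by
  obtain ⟨hac, R, hR⟩ := ha
  refine ⟨fun c => Commute.units_inv_left (hac c), R⁻¹, fun k => ?_⟩
  have e : ulift hCK σ ρ hm R⁻¹ * a⁻¹ = (ulift hCK σ ρ hm R * a)⁻¹ := by
    rw [map_inv, (comm_ulift hCK σ ρ hm hac R).eq, mul_inv_rev]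
  rw [e, Units.inv_mul_eq_iff_eq_mul, ← mul_assoc, hR, Units.mul_inv_cancel_right,
    ← MulAut.mul_apply, ← map_mul, mul_inv_cancel, map_one, MulAut.one_apply]

theorem impl_of_mem (c : C) : Impl hCK σ ρ hm c 1 := by
  refine ⟨fun d => Commute.one_left _, ρ.toHomUnits c, fun k => ?_⟩
  rw [mul_one, ulift_val, MonoidHom.coe_toHomUnits, lift_sigma ρ _ hm]
  show σ (Subgroup.inclusion hCK c) * σ k = σ _ * σ (Subgroup.inclusion hCK c)
  rw [← map_mul, ← map_mul]
  refine congrArg σ (Subtype.ext ?_)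
  simp [mul_assoc]

theorem impl_one : Impl hCK σ ρ hm 1 1 := impl_of_mem hCK σ ρ hm 1

theorem impl_pow {x : G} {a : (Module.End ℂ U)ˣ} (ha : Impl hCK σ ρ hm x a) (k : ℕ) :
    Impl hCK σ ρ hm (x ^ k) (a ^ k) := by
  induction k with
  | zero => simpa using impl_one hCK σ ρ hm
  | succ k ih => rw [pow_succ, pow_succ]; exact impl_mul hCK σ ρ hm ih ha

theorem impl_scal_mul {x : G} {a : (Module.End ℂ U)ˣ} (ha : Impl hCK σ ρ hm x a) (d : ℂˣ) :
    Impl hCK σ ρ hm x (scal d * a) := by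
  obtain ⟨hac, R, hR⟩ := ha
  refine ⟨fun c => ?_, R, fun k => ?_⟩
  · rw [Units.val_mul, scal_val, smul_mul_assoc, one_mul]
    exact (hac c).smul_left _
  · rw [← mul_assoc, ← (scal_comm d _).eq, mul_assoc]
    simp only [Units.val_mul, scal_val, smul_mul_assoc, mul_smul_comm, one_mul] at hR ⊢
    rw [hR k]

theorem impl_unique (hg : g ≠ 0) {x : G} {a b : (Module.End ℂ U)ˣ}
    (ha : Impl hCK σ ρ hm x a) (hb : Impl hCK σ ρ hm x b) : ∃ d : ℂˣ, b = scal d * a := by
  obtain ⟨hac, R, hR⟩ := ha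
  obtain ⟨hbc, S, hS⟩ := hb
  haveI := IrrTools.apply_ne_zero_of_isIrreducible σ
  set A := ulift hCK σ ρ hm R * a
  set B := ulift hCK σ ρ hm S * b
  obtain ⟨c, hc⟩ := IrrTools.exists_smul_of_commute σ ((A⁻¹ * B : (Module.End ℂ U)ˣ) : Module.End ℂ U)
    fun k => by
      rw [Units.val_mul, mul_assoc, hS, ← mul_assoc, ← mul_assoc]
      congr 1
      rw [Units.inv_mul_eq_iff_eq_mul, ← mul_assoc, hR, Units.mul_inv_cancel_right]
  have hBA : (B : Module.End ℂ U) = c • (A : Module.End ℂ U) := by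
    have h1 : (A : Module.End ℂ U) * ((A⁻¹ * B : (Module.End ℂ U)ˣ) : Module.End ℂ U) = B := by
      rw [← Units.val_mul, mul_inv_cancel_left]
    rw [← h1, hc, mul_smul_comm, mul_one]
  set X : Module.End ℂ U := ((b * a⁻¹ : (Module.End ℂ U)ˣ) : Module.End ℂ U) with hXdef
  have hXc : Comm hCK σ X := fun d => by
    rw [hXdef, Units.val_mul]
    exact (hbc d).mul_left (Commute.units_inv_left (hac d))
  set Y : Module.End ℂ W := c • ((S⁻¹ * R : (Module.End ℂ W)ˣ) : Module.End ℂ W) with hYdef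
  have hXY : X = lift ρ (res hCK σ) Y := by
    rw [hYdef, map_smul, ← ulift_val hCK σ ρ hm, map_mul, map_inv]
    have h1 : b = (ulift hCK σ ρ hm S)⁻¹ * B := (inv_mul_cancel_left _ b).symm
    rw [hXdef, h1, Units.val_mul, Units.val_mul, hBA, mul_smul_comm, smul_mul_assoc,
      ← Units.val_mul, ← Units.val_mul]
    congr 2
    simp only [A, mul_assoc, mul_inv_cancel, mul_one]
  obtain ⟨d, hd⟩ := IrrTools.exists_smul_of_commute ρ Y fun e => by
    refine lift_injective ρ (res hCK σ) hm hg ?_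
    rw [lift_mul ρ _ hm, lift_mul ρ _ hm, ← hXY, lift_sigma ρ _ hm]
    exact (hXc e).eq
  have hX1 : X = d • (1 : Module.End ℂ U) := by rw [hXY, hd, map_smul, lift_one ρ _ hm]
  have hd0 : d ≠ 0 := fun h0 => by
    rw [h0, zero_smul] at hX1
    exact (b * a⁻¹).ne_zero hX1
  refine ⟨Units.mk0 d hd0, mul_inv_eq_iff_eq_mul.1 (Units.ext ?_)⟩
  rw [scal_val, Units.val_mk0]
  exact hX1

variable (hinvσ : ∀ (x : G) (k : K), σ.character (MulAut.conjNormal x k) = σ.character k)
  (hinvρ : ∀ (x : G) (c : C), ρ.character (MulAut.conjNormal x c) = ρ.character c)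

include hinvσ hinvρ in
theorem exists_impl (x : G) : ∃ a, Impl hCK σ ρ hm x a := by
  obtain ⟨A, hA⟩ := exists_unit_of_character_eq σ
    (σ.comp (MulAut.conjNormal (H := K) x).toMonoidHom) (funext fun k => hinvσ x k)
  obtain ⟨R, hR⟩ := exists_unit_of_character_eq ρ
    (ρ.comp (MulAut.conjNormal (H := C) x).toMonoidHom) (funext fun c => hinvρ x c)
  refine ⟨(ulift hCK σ ρ hm R)⁻¹ * A, fun c => ?_, R, fun k => ?_⟩
  · have h1 : (A : Module.End ℂ U) * res hCK σ c
        = res hCK σ (MulAut.conjNormal x c) * A := by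
      show (A : Module.End ℂ U) * σ _ = σ _ * _
      rw [hA]
      exact congrArg (· * (A : Module.End ℂ U)) (congrArg σ (Subtype.ext rfl))
    have h2 : (ulift hCK σ ρ hm R : Module.End ℂ U) * res hCK σ c
        = res hCK σ (MulAut.conjNormal x c) * ulift hCK σ ρ hm R := by
      rw [ulift_val, ← lift_sigma ρ (res hCK σ) hm c, ← lift_mul ρ _ hm, hR,
        lift_mul ρ _ hm]
      exact congrArg (· * _) (lift_sigma ρ (res hCK σ) hm _)
    show _ * _ = _ * _
    rw [Units.val_mul, mul_assoc, h1, Units.inv_mul_eq_iff_eq_mul, ← mul_assoc, ← mul_assoc, h2,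
      Units.mul_inv_cancel_right]
  · rw [mul_inv_cancel_left]
    exact hA k

/-- The commutant of the smaller subgroup. -/
def commSub : Submodule ℂ (Module.End ℂ U) where
  carrier := {X | Comm hCK σ X}
  add_mem' hX hY c := (hX c).add_left (hY c)
  zero_mem' c := Commute.zero_left _
  smul_mem' r X hX c := (hX c).smul_left r

include hm in
theorem finrank_commSub : finrank ℂ (commSub hCK σ) = g * g := by
  let e : commSub hCK σ ≃ₗ[ℂ] Representation.IntertwiningMap (res hCK σ) (res hCK σ) :=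
    { toFun := fun X => ⟨X.1, fun c => (X.2 c).eq⟩
      map_add' := fun _ _ => rfl
      map_smul' := fun _ _ => rfl
      invFun := fun f => ⟨f.toLinearMap, fun c => f.isIntertwining' c⟩
      left_inv := fun _ => rfl
      right_inv := fun _ => rfl }
  have h := IrrTools.classInner_eq_finrank (res hCK σ) (res hCK σ)
  rw [← e.finrank_eq, show (res hCK σ).character = (g : ℂ) • ρ.character from funext hm,
    CfsgLib.Char.classInner_smul_left, CfsgLib.Char.classInner_smul_right,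
    CfsgLib.Char.classInner_irr_self (IrrTools.isIrrCharacter_character ρ)] at h
  simp only [Complex.conj_natCast, mul_one] at h
  exact_mod_cast h.symm

include hm in
theorem scal_pow_finrank (hg : g ≠ 0) {a b : (Module.End ℂ U)ˣ}
    (ha : Comm hCK σ (a : Module.End ℂ U)) (hb : Comm hCK σ (b : Module.End ℂ U)) {d : ℂˣ}
    (h : a * b = scal d * (b * a)) : d ^ (g * g) = 1 := by
  have hmem : ∀ {u : (Module.End ℂ U)ˣ}, Comm hCK σ (u : Module.End ℂ U) →
      ∀ X ∈ commSub hCK σ, LinearMap.mulLeft ℂ (u : Module.End ℂ U) X ∈ commSub hCK σ :=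
    fun hu X hX c => (hu c).mul_left (hX c)
  set La := (LinearMap.mulLeft ℂ (a : Module.End ℂ U)).restrict (hmem ha)
  set Lb := (LinearMap.mulLeft ℂ (b : Module.End ℂ U)).restrict (hmem hb)
  have hne : ∀ {u : (Module.End ℂ U)ˣ} (hu : Comm hCK σ (u : Module.End ℂ U)),
      LinearMap.det ((LinearMap.mulLeft ℂ (u : Module.End ℂ U)).restrict (hmem hu)) ≠ 0 := by
    intro u hu h0
    have h1 : (LinearMap.mulLeft ℂ (u : Module.End ℂ U)).restrict (hmem hu)
        * (LinearMap.mulLeft ℂ ((u⁻¹ : (Module.End ℂ U)ˣ) : Module.End ℂ U)).restrict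
          (hmem fun c => Commute.units_inv_left (hu c)) = 1 :=
      LinearMap.ext fun X => Subtype.ext (Units.mul_inv_cancel_left u X.1)
    have h2 := congrArg LinearMap.det h1
    rw [map_mul, map_one, h0, zero_mul] at h2
    exact zero_ne_one h2
  have h1 : La * Lb = (d : ℂ) • (Lb * La) := LinearMap.ext fun X => Subtype.ext (by
    show (a : Module.End ℂ U) * ((b : Module.End ℂ U) * X.1)
      = (d : ℂ) • ((b : Module.End ℂ U) * ((a : Module.End ℂ U) * X.1))
    rw [← mul_assoc, ← Units.val_mul, h, Units.val_mul, scal_val, smul_mul_assoc, one_mul,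
      smul_mul_assoc, Units.val_mul, mul_assoc])
  have h2 := congrArg LinearMap.det h1
  rw [LinearMap.det_smul, map_mul, map_mul, mul_comm (LinearMap.det Lb),
    finrank_commSub hCK σ ρ hm] at h2
  refine Units.ext ?_
  rw [Units.val_pow_eq_pow_val, Units.val_one]
  exact ((mul_eq_right₀ (mul_ne_zero (hne ha) (hne hb))).1 h2.symm)

section Family

variable {J : Subgroup G} (hCJ : C ≤ J) (hJab : ∀ i ∈ J, ∀ j ∈ J, ⁅i, j⁆ ∈ C) {N : ℕ}
  (hN : ∀ j ∈ J, j ^ N ∈ C) (hN0 : N ≠ 0) (hcop : Nat.Coprime N (g * g)) (hg : g ≠ 0)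

include hg in
theorem exists_scal_of_mem {x : G} (hx : x ∈ C) {a : (Module.End ℂ U)ˣ}
    (ha : Impl hCK σ ρ hm x a) : ∃ d : ℂˣ, a = scal d := by
  obtain ⟨d, hd⟩ := impl_unique hCK σ ρ hm hg (impl_of_mem hCK σ ρ hm ⟨x, hx⟩) ha
  exact ⟨d, by rw [hd, mul_one]⟩

include hJab hN hcop hg in
theorem impl_commute {i j : G} (hi : i ∈ J) (hj : j ∈ J) {a b : (Module.End ℂ U)ˣ}
    (ha : Impl hCK σ ρ hm i a) (hb : Impl hCK σ ρ hm j b) : Commute a b := by
  haveI := IrrTools.apply_ne_zero_of_isIrreducible σ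
  have hc : Impl hCK σ ρ hm ⁅i, j⁆ (a * b * a⁻¹ * b⁻¹) :=
    impl_mul hCK σ ρ hm (impl_mul hCK σ ρ hm (impl_mul hCK σ ρ hm ha hb)
      (impl_inv hCK σ ρ hm ha)) (impl_inv hCK σ ρ hm hb)
  obtain ⟨d, hd⟩ := exists_scal_of_mem hCK σ ρ hm hg (hJab i hi j hj) hc
  rw [mul_inv_eq_iff_eq_mul] at hd
  obtain ⟨μ, hμ⟩ := exists_scal_of_mem hCK σ ρ hm hg (hN i hi) (impl_pow hCK σ ρ hm ha N)
  have hk : ∀ k : ℕ, a ^ k * b * (a ^ k)⁻¹ = scal (d ^ k) * b := by
    intro k
    induction k with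
    | zero => simp
    | succ k ih =>
      rw [pow_succ', mul_inv_rev, show a * a ^ k * b * ((a ^ k)⁻¹ * a⁻¹)
          = a * (a ^ k * b * (a ^ k)⁻¹) * a⁻¹ by simp only [mul_assoc],
        ih, ← mul_assoc, ← (scal_comm (d ^ k) a).eq,
        show scal (d ^ k) * a * b * a⁻¹ = scal (d ^ k) * (a * b * a⁻¹) by simp only [mul_assoc],
        hd, ← mul_assoc, ← map_mul, ← pow_succ]
  have h1 : d ^ N = 1 := by
    have h2 := hk N
    rw [hμ, (scal_comm μ b).eq, mul_inv_cancel_right, eq_comm, mul_eq_right,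
      ← map_one (scal (U := U))] at h2
    exact scal_injective h2
  have hab : a * b = scal d * (b * a) := by
    rw [← mul_assoc, ← hd, inv_mul_cancel_right]
  have h2 := scal_pow_finrank hCK σ ρ hm hg ha.1 hb.1 hab
  have h3 : d ^ N.gcd (g * g) = 1 := pow_gcd_eq_one.2 ⟨h1, h2⟩
  rw [hcop, pow_one] at h3
  rw [h3, map_one, one_mul] at hab
  exact hab

/-- The finite group of normalised implementers of members of `J`. -/
def family : Subgroup (Module.End ℂ U)ˣ :=
  Subgroup.closure {u | u ^ N = 1 ∧ ∃ j ∈ J, Impl hCK σ ρ hm j u}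

include hJab hN hcop hg in
theorem mem_family {u : (Module.End ℂ U)ˣ} :
    u ∈ family hCK σ ρ hm (J := J) (N := N) ↔ u ^ N = 1 ∧ ∃ j ∈ J, Impl hCK σ ρ hm j u := by
  refine ⟨fun hu => ?_, fun hu => Subgroup.subset_closure hu⟩
  induction hu using Subgroup.closure_induction with
  | mem x hx => exact hx
  | one => exact ⟨one_pow N, 1, one_mem J, impl_one hCK σ ρ hm⟩
  | mul x y _ _ hx hy =>
    obtain ⟨hxN, i, hi, hx⟩ := hx
    obtain ⟨hyN, j, hj, hy⟩ := hy
    refine ⟨?_, i * j, mul_mem hi hj, impl_mul hCK σ ρ hm hx hy⟩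
    rw [(impl_commute hCK σ ρ hm hJab hN hcop hg hi hj hx hy).mul_pow, hxN, hyN, one_mul]
  | inv x _ hx =>
    obtain ⟨hxN, i, hi, hx⟩ := hx
    exact ⟨by rw [inv_pow, hxN, inv_one], i⁻¹, inv_mem hi, impl_inv hCK σ ρ hm hx⟩

include hJab hN hcop hg hN0 in
theorem finite_family : (family hCK σ ρ hm (J := J) (N := N) : Set (Module.End ℂ U)ˣ).Finite := by
  haveI := IrrTools.apply_ne_zero_of_isIrreducible σ
  haveI : NeZero N := ⟨hN0⟩
  have hsub : (family hCK σ ρ hm (J := J) (N := N) : Set (Module.End ℂ U)ˣ) ⊆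
      ⋃ j ∈ (J : Set G), {u | u ^ N = 1 ∧ Impl hCK σ ρ hm j u} := fun u hu => by
    obtain ⟨huN, j, hj, hu⟩ := (mem_family hCK σ ρ hm hJab hN hcop hg).1 hu
    exact Set.mem_biUnion hj ⟨huN, hu⟩
  refine Set.Finite.subset (Set.Finite.biUnion (Set.toFinite _) fun j _ => ?_) hsub
  rcases ({u | u ^ N = 1 ∧ Impl hCK σ ρ hm j u} : Set (Module.End ℂ U)ˣ).eq_empty_or_nonempty
    with h | ⟨u₀, hu₀N, hu₀⟩
  · rw [h]; exact Set.finite_empty
  have hfin : (rootsOfUnity N ℂ : Set ℂˣ).Finite :=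
    Set.finite_coe_iff.1 (inferInstanceAs (Finite (rootsOfUnity N ℂ)))
  refine Set.Finite.subset (hfin.image fun d => scal d * u₀) ?_
  rintro u ⟨huN, hu⟩
  obtain ⟨d, rfl⟩ := impl_unique hCK σ ρ hm hg hu₀ hu
  refine ⟨d, (mem_rootsOfUnity N d).2 (scal_injective (U := U) ?_), rfl⟩
  rw [(scal_comm d u₀).mul_pow, hu₀N, mul_one] at huN
  rw [map_pow, huN, map_one]

include hJab hN hcop hg hN0 hinvσ hinvρ in
/-- Either `J` centralises `K/C`, or the commutant has a nontrivial idempotent whose conjugates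
are orthogonal. -/
theorem dichotomy (hvan : ∀ k : K, (k : G) ∉ C → σ.character k = 0) :
    (∀ j ∈ J, ∀ k ∈ K, ⁅j, k⁆ ∈ C) ∨
      ∃ e : Module.End ℂ U, IsIdempotentElem e ∧ Comm hCK σ e ∧ e ≠ 0 ∧ e ≠ 1 ∧
        ∀ (x : G) (a : (Module.End ℂ U)ˣ), (∀ j, j ∈ J ↔ x * j * x⁻¹ ∈ J) →
          Impl hCK σ ρ hm x a →
            (a : Module.End ℂ U) * e * ((a⁻¹ : (Module.End ℂ U)ˣ) : Module.End ℂ U) = e ∨
            (a : Module.End ℂ U) * e * ((a⁻¹ : (Module.End ℂ U)ˣ) : Module.End ℂ U) * e = 0 := by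
  haveI := IrrTools.apply_ne_zero_of_isIrreducible σ
  by_cases hall : ∀ u ∈ family hCK σ ρ hm (J := J) (N := N), ∃ d : ℂˣ, u = scal d
  · left
    intro j hj k hk
    obtain ⟨a, ha⟩ := exists_impl hCK σ ρ hm hinvσ hinvρ j
    obtain ⟨μ, hμ⟩ := exists_scal_of_mem hCK σ ρ hm hg (hN j hj) (impl_pow hCK σ ρ hm ha N)
    obtain ⟨ν, hν⟩ : ∃ ν : ℂˣ, ν ^ N = μ := by
      obtain ⟨z, hz⟩ := IsAlgClosed.exists_pow_nat_eq (μ : ℂ) (Nat.pos_of_ne_zero hN0)
      have hz0 : z ≠ 0 := fun h0 => μ.ne_zero (by rw [← hz, h0, zero_pow hN0])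
      exact ⟨Units.mk0 z hz0, Units.ext (by simp [hz])⟩
    obtain ⟨d, hd⟩ := hall (scal ν⁻¹ * a) ((mem_family hCK σ ρ hm hJab hN hcop hg).2
      ⟨by rw [(scal_comm _ a).mul_pow, hμ, ← map_pow, ← map_mul, inv_pow, hν, inv_mul_cancel,
        map_one], j, hj, impl_scal_mul hCK σ ρ hm ha _⟩)
    have ha' : a = scal (ν * d) := by
      rw [map_mul, ← hd, ← mul_assoc, ← map_mul, mul_inv_cancel, map_one, one_mul]
    obtain ⟨-, R, hR⟩ := ha
    have h1 := hR ⟨k, hk⟩
    rw [ha', Units.val_mul, scal_val, mul_smul_comm, mul_one, smul_mul_assoc, mul_smul_comm] at h1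
    have h2 := smul_right_injective (Module.End ℂ U) (ν * d).ne_zero h1
    rw [ulift_val] at h2
    set k' : K := ⟨k, hk⟩
    set x : K := MulAut.conjNormal j k' * k'⁻¹ with hx
    by_contra hxC
    have hxC' : (x : G) ∉ C := by
      simpa [hx, commutatorElement_def] using hxC
    -- `σ x` lies in the span of the smaller group
    set R' : Module.End ℂ W := (R : Module.End ℂ W) * ((finrank ℂ W : ℂ) / Nat.card C) •
      ∑ c : C, LinearMap.trace ℂ W (((R⁻¹ : (Module.End ℂ W)ˣ) : Module.End ℂ W) * ρ c⁻¹)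
        • ρ (MulAut.conjNormal k c) with hR'
    have hσx : σ x = lift ρ (res hCK σ) R' := by
      have h3 : σ (MulAut.conjNormal j k') = lift ρ (res hCK σ) R * σ k'
          * lift ρ (res hCK σ) ((R⁻¹ : (Module.End ℂ W)ˣ) : Module.End ℂ W) := by
        rw [h2, mul_assoc, ← lift_mul ρ _ hm, Units.mul_inv, lift_one ρ _ hm, mul_one]
      rw [hx, map_mul, h3, lift_apply ρ _ ((R⁻¹ : (Module.End ℂ W)ˣ) : Module.End ℂ W), hR',
        lift_mul ρ _ hm, map_smul, map_sum]
      simp only [map_smul, lift_sigma ρ _ hm, mul_smul_comm, smul_mul_assoc, Finset.mul_sum,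
        Finset.sum_mul]
      congr 1
      refine Finset.sum_congr rfl fun c _ => ?_
      congr 1
      rw [mul_assoc, mul_assoc]
      congr 1
      show σ k' * (σ (Subgroup.inclusion hCK c) * σ k'⁻¹) = σ _
      rw [← map_mul, ← map_mul]
      exact congrArg σ (Subtype.ext (by simp [k', mul_assoc]))
    have hzero : R' = 0 := by
      rw [eq_sum ρ R']
      refine smul_eq_zero.2 (Or.inr (Finset.sum_eq_zero fun c _ => ?_))
      have h4 := trace_lift_mul ρ (res hCK σ) hm R' c⁻¹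
      rw [← hσx] at h4
      have h5 : LinearMap.trace ℂ U (σ x * res hCK σ c⁻¹) = 0 := by
        show LinearMap.trace ℂ U (σ x * σ _) = 0
        rw [← map_mul]
        exact hvan _ fun h => hxC' (by simpa using C.mul_mem h (C.inv_mem (c⁻¹).2))
      rw [h5, eq_comm, mul_eq_zero] at h4
      rw [h4.resolve_left (Nat.cast_ne_zero.2 hg), zero_smul]
    rw [hzero, map_zero] at hσx
    have h6 : σ x * σ x⁻¹ = 1 := by rw [← map_mul, mul_inv_cancel, map_one]
    rw [hσx, zero_mul] at h6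
    exact zero_ne_one h6
  · right
    push Not at hall
    obtain ⟨u₀, hu₀, hns⟩ := hall
    set Γ := family hCK σ ρ hm (J := J) (N := N)
    haveI : Finite Γ := (finite_family hCK σ ρ hm hJab hN hN0 hcop hg).to_subtype
    letI : Fintype Γ := Fintype.ofFinite _
    letI : CommGroup Γ :=
      { (inferInstance : Group Γ) with
        mul_comm := fun u v => by
          obtain ⟨-, i, hi, hu⟩ := (mem_family hCK σ ρ hm hJab hN hcop hg).1 u.2
          obtain ⟨-, j, hj, hv⟩ := (mem_family hCK σ ρ hm hJab hN hcop hg).1 v.2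
          exact Subtype.ext (impl_commute hCK σ ρ hm hJab hN hcop hg hi hj hu hv) }
    let ι : Γ →* Module.End ℂ U :=
      { toFun := fun u => ((u : (Module.End ℂ U)ˣ) : Module.End ℂ U)
        map_one' := rfl
        map_mul' := fun _ _ => rfl }
    obtain ⟨χ, hχ0, hχ1⟩ := CommIdem.exists_nontrivial ι (u := ⟨u₀, hu₀⟩) fun c hc => by
      rcases eq_or_ne c 0 with rfl | hc0
      · exact u₀.ne_zero (by simpa [ι] using hc)
      · exact hns (Units.mk0 c hc0) (Units.ext (by rw [scal_val]; exact hc))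
    refine ⟨CommIdem.idem ι χ, CommIdem.isIdempotentElem ι χ, ?_, hχ0, hχ1, fun x a hx ha => ?_⟩
    · intro c
      rw [CommIdem.idem]
      refine Commute.smul_left (Commute.sum_left _ _ _ fun u _ => Commute.smul_left ?_ _) _
      obtain ⟨-, j, -, hu⟩ := (mem_family hCK σ ρ hm hJab hN hcop hg).1 u.2
      exact hu.1 c
    have hconj : ∀ {y : G} {b : (Module.End ℂ U)ˣ}, (∀ j ∈ J, y * j * y⁻¹ ∈ J) →
        Impl hCK σ ρ hm y b → ∀ u ∈ Γ, b * u * b⁻¹ ∈ Γ := by
      intro y b hy hb u hu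
      obtain ⟨huN, j, hj, hu⟩ := (mem_family hCK σ ρ hm hJab hN hcop hg).1 hu
      exact (mem_family hCK σ ρ hm hJab hN hcop hg).2 ⟨by rw [conj_pow, huN, mul_one, mul_inv_cancel],
        y * j * y⁻¹, hy j hj, impl_mul hCK σ ρ hm (impl_mul hCK σ ρ hm hb hu)
          (impl_inv hCK σ ρ hm hb)⟩
    have hx' : ∀ j ∈ J, x⁻¹ * j * x⁻¹⁻¹ ∈ J := fun j hj => by
      rw [inv_inv, hx]
      simpa [mul_assoc] using hj
    let c : Γ ≃* Γ :=
      { toFun := fun u => ⟨a * u * a⁻¹, hconj (fun j => (hx j).1) ha u u.2⟩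
        invFun := fun u => ⟨a⁻¹ * u * a⁻¹⁻¹, hconj hx' (impl_inv hCK σ ρ hm ha) u u.2⟩
        left_inv := fun u => Subtype.ext (by simp [mul_assoc])
        right_inv := fun u => Subtype.ext (by simp [mul_assoc])
        map_mul' := fun u v => Subtype.ext (by simp [mul_assoc]) }
    rw [CommIdem.conj_idem ι c (a := (a : Module.End ℂ U))
      (b := ((a⁻¹ : (Module.End ℂ U)ˣ) : Module.End ℂ U)) (fun u => rfl) χ]
    by_cases hcχ : χ.comp c.symm.toMonoidHom = χ
    · left; rw [hcχ]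
    · right; rw [CommIdem.idem_mul, if_neg hcχ]

end Family

end CfsgLib.CharDeep.Implementers
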