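import Cfsg.Agent.Lib.CharDeep.Relative
import Cfsg.Agent.Lib.Solvable.FrattiniFitting

/-!
# Berger's lemma, descent through chief factors, induced irreducible characters
-/

set_option autoImplicit false
set_option linter.unusedSectionVars false

open scoped ComplexConjugate Classical commutatorElement

namespace CfsgLib.CharDeep.Relative

open CfsgLib.Char

variable {G : Type*} [Group G] [Fintype G]

theorem classInner_ne_zero_of_common {X Y : G → ℂ} (hX : Cfsg.IsCharacter G X)
    (hY : Cfsg.IsCharacter G Y) {μ : G → ℂ} (hμ : Cfsg.IsIrrCharacter G μ)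
    (h1 : Cfsg.classInner X μ ≠ 0) (h2 : Cfsg.classInner Y μ ≠ 0) :
    Cfsg.classInner X Y ≠ 0 := by
  obtain ⟨m, hm, -⟩ := IsCharacter.exists_multiplicity hX
  obtain ⟨m', hm', -⟩ := IsCharacter.exists_multiplicity hY
  rw [classInner_eq_sum_irr (IsCharacter.isClassFunction hX)]
  have hterm : ∀ φ : Cfsg.IrrCharacter G,
      Cfsg.classInner X φ * Cfsg.classInner (φ : G → ℂ) Y = ((m φ * m' φ : ℕ) : ℂ) := fun φ => by
    rw [hm, IsCharacter.classInner_comm (isCharacter_irr φ) hY, hm', Nat.cast_mul]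
  rw [Finset.sum_congr rfl fun φ _ => hterm φ, ← Nat.cast_sum, Nat.cast_ne_zero]
  intro h0
  have := Finset.sum_eq_zero_iff.1 h0 ⟨μ, hμ⟩ (Finset.mem_univ _)
  rcases Nat.mul_eq_zero.1 this with h | h
  · exact h1 ((hm ⟨μ, hμ⟩).trans (by rw [h, Nat.cast_zero]))
  · exact h2 ((hm' ⟨μ, hμ⟩).trans (by rw [h, Nat.cast_zero]))

/-- A character inducing an irreducible character is irreducible. -/
theorem irr_of_indFun_irr (S : Subgroup G) [Fintype S] {ξ : S → ℂ} (hξ : Cfsg.IsCharacter S ξ)
    (h : Cfsg.IsIrrCharacter G (Cfsg.indFun S ξ)) : Cfsg.IsIrrCharacter S ξ := by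
  obtain ⟨μ, hμ, hne⟩ := IsCharacter.exists_constituent hξ fun h0 =>
    IsIrrCharacter.apply_one_ne_zero h (by rw [indFun_one, h0, Pi.zero_apply, mul_zero])
  have hI := IsCharacter.indFun S (IsIrrCharacter.isCharacter hμ)
  have hI0 : Cfsg.indFun S μ ≠ 0 := fun h0 => by
    have h1 := congrFun h0 1
    rw [indFun_one, Pi.zero_apply, mul_eq_zero] at h1
    exact h1.elim (Nat.cast_ne_zero.2 Subgroup.index_ne_zero_of_finite)
      (IsIrrCharacter.apply_one_ne_zero hμ)
  obtain ⟨ν, hν, hνne⟩ := IsCharacter.exists_constituent hI hI0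
  have hνe : Cfsg.indFun S ξ = ν := by
    by_contra hd
    have h0 := classInner_irr_ne h hν hd
    rw [classInner_indFun S ξ (IsIrrCharacter.isClassFunction hν)] at h0
    rw [classInner_indFun S μ (IsIrrCharacter.isClassFunction hν)] at hνne
    refine classInner_ne_zero_of_common hξ
      (IsCharacter.restrict (IsIrrCharacter.isCharacter hν) S) hμ hne ?_ h0
    rwa [IsCharacter.classInner_comm (IsCharacter.restrict (IsIrrCharacter.isCharacter hν) S)
      (IsIrrCharacter.isCharacter hμ)]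
  obtain ⟨a, b, ha, hb, hab, heq⟩ := IsCharacter.constituent_degree_le hξ hμ hne
  obtain ⟨a', b', ha', hb', hab', -⟩ := IsCharacter.constituent_degree_le hI hν hνne
  rw [← hνe, indFun_one, hb] at ha'
  rw [indFun_one, ha] at hb'
  have e1 : a' = S.index * b := by exact_mod_cast ha'.symm
  have e2 : b' = S.index * a := by exact_mod_cast hb'.symm
  have h3 : b ≤ a := Nat.le_of_mul_le_mul_left (by omega)
    (Nat.pos_of_ne_zero Subgroup.index_ne_zero_of_finite (n := S.index))
  rw [heq (le_antisymm hab h3)]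
  exact hμ

theorem mem_normalizer_of_conj {S : Subgroup G} {g : G} (h : ∀ x ∈ S, g * x * g⁻¹ ∈ S) :
    g ∈ Subgroup.normalizer (S : Set G) := by
  have he : S.map (MulAut.conj g).toMonoidHom = S :=
    Subgroup.eq_of_le_of_card_ge (by rintro _ ⟨x, hx, rfl⟩; exact h x hx)
      (Subgroup.card_map_of_injective (MulAut.conj g).injective).ge
  refine Subgroup.mem_normalizer_iff.2 fun x => ⟨h x, fun hx => ?_⟩
  rw [← he] at hx
  obtain ⟨y, hy, hye⟩ := hx
  rwa [← show y = x from (MulAut.conj g).injective hye]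

theorem relIndex_sup_left' (K H : Subgroup G) [K.Normal] :
    H.relIndex (K ⊔ H) = H.relIndex K := by
  refine Nat.eq_of_mul_eq_mul_right (Nat.card_pos (α := H)) ?_
  have e1 := (H.subgroupOf (K ⊔ H)).index_mul_card
  have e2 := (K.subgroupOf (K ⊔ H)).index_mul_card
  have e3 := (K.subgroupOf H).index_mul_card
  have e4 := (H.subgroupOf K).index_mul_card
  rw [Nat.card_congr (Subgroup.subgroupOfEquivOfLe (le_sup_right : H ≤ K ⊔ H)).toEquiv] at e1
  rw [Nat.card_congr (Subgroup.subgroupOfEquivOfLe (le_sup_left : K ≤ K ⊔ H)).toEquiv] at e2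
  rw [show Nat.card (K.subgroupOf H) = Nat.card (H ⊓ K : Subgroup G) by
    rw [← Subgroup.inf_subgroupOf_left]
    exact Nat.card_congr (Subgroup.subgroupOfEquivOfLe inf_le_left).toEquiv] at e3
  rw [show Nat.card (H.subgroupOf K) = Nat.card (H ⊓ K : Subgroup G) by
    rw [← Subgroup.inf_subgroupOf_right]
    exact Nat.card_congr (Subgroup.subgroupOfEquivOfLe inf_le_right).toEquiv] at e4
  have e5 : K.relIndex (K ⊔ H) = K.relIndex H := Subgroup.relIndex_sup_left H K
  show (H.subgroupOf (K ⊔ H)).index * Nat.card H = (H.subgroupOf K).index * Nat.card H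
  rw [e1, ← e2]
  change K.relIndex (K ⊔ H) * _ = _
  rw [e5, ← e4]
  conv_rhs => rw [← e3]
  simp only [Subgroup.relIndex]
  ring

theorem indFun_top {χ : G → ℂ} (hχ : Cfsg.IsClassFunction G χ) :
    Cfsg.indFun (⊤ : Subgroup G) (fun t : (⊤ : Subgroup G) => χ t) = χ := by
  funext g
  have h := indFun_apply_of_normal (⊤ : Subgroup G) (fun t : (⊤ : Subgroup G) => χ t)
    ⟨g, Subgroup.mem_top g⟩
  rw [Finset.sum_congr rfl fun x _ => (hχ g x :), Finset.sum_const, Finset.card_univ,
    nsmul_eq_mul, Subgroup.card_top, ← Nat.card_eq_fintype_card, ← mul_assoc,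
    inv_mul_cancel₀ CfsgLib.Char.card_ne_zero, one_mul] at h
  exact h

/-- With no square chief index and homogeneous restrictions the restriction is irreducible. -/
theorem irr_restrict_of_homogeneous {χ : G → ℂ} (hχ : Cfsg.IsIrrCharacter G χ) (N : Subgroup G)
    [N.Normal] (hsolv : Group.IsSolvable (G ⧸ N))
    (hsq : ∀ L K : Subgroup G, L.Normal → K.Normal → N ≤ L → L < K →
      (∀ M : Subgroup G, M.Normal → L ≤ M → M ≤ K → M = L ∨ M = K) → ¬ IsSquare (L.relIndex K))
    (hhom : ∀ M : Subgroup G, M.Normal → N ≤ M → Homogeneous χ M) :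
    Cfsg.IsIrrCharacter N fun n : N => χ n := by
  suffices H : ∀ m : ℕ, ∀ K : Subgroup G, Nat.card K = m → K.Normal → N ≤ K →
      Cfsg.IsIrrCharacter K (fun k : K => χ k) → Cfsg.IsIrrCharacter N fun n : N => χ n from
    H _ ⊤ rfl inferInstance le_top (IsIrrCharacter.comp_equiv hχ Subgroup.topEquiv)
  intro m
  induction m using Nat.strong_induction_on with
  | _ m IH =>
    intro K hm hK hNK hirr
    rcases hNK.eq_or_lt with rfl | hlt
    · exact hirr
    obtain ⟨L, hle, ⟨hLn, hLK⟩, hmax⟩ := Finite.exists_le_maximal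
      (p := fun L : Subgroup G => L.Normal ∧ L < K) ⟨inferInstance, hlt⟩
    have hchief : ∀ M : Subgroup G, M.Normal → L ≤ M → M ≤ K → M = L ∨ M = K := by
      intro M hM hLM hMK
      rcases hMK.eq_or_lt with he | hl
      · exact Or.inr he
      · exact Or.inl (le_antisymm (hmax ⟨hM, hl⟩ hLM) hLM)
    have hsolvL : Group.IsSolvable (G ⧸ L) :=
      Group.isSolvable_of_surjective (f := QuotientGroup.map N L (MonoidHom.id G) hle) (by
        intro q
        obtain ⟨g, rfl⟩ := QuotientGroup.mk'_surjective L q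
        exact ⟨QuotientGroup.mk' N g, rfl⟩)
    obtain ⟨hab, -⟩ := chief_solvable hsolvL hLK hchief
    obtain ⟨φ, e, hφ, he⟩ := hhom L hLn hle
    have h1 := chief_homogeneous hLK.le hchief hab hirr
      (fun g n => IsIrrCharacter.isClassFunction hχ (n : G) g) hφ he
    have he1 : e = 1 := h1.resolve_right fun h2 => hsq L K hLn hK hle hLK hchief
      ⟨e, by rw [← h2, sq]⟩
    subst he1
    refine IH (Nat.card L) ?_ L rfl hLn hle ?_
    · rw [← hm]
      refine lt_of_le_of_ne (Subgroup.card_le_of_le hLK.le) fun hc => hLK.ne ?_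
      exact Subgroup.eq_of_le_of_card_ge hLK.le hc.ge
    · rw [show (fun n : L => χ n) = φ by rw [he, Nat.cast_one, one_smul]]
      exact hφ

/-- Berger's lemma. -/
theorem berger {H L : Subgroup G} [L.Normal] (hLH : L ≤ H) (hmax : IsCoatom H)
    (hsolv : Group.IsSolvable (G ⧸ L)) {ϑ : H → ℂ} (hϑ : Cfsg.IsIrrCharacter H ϑ)
    (hϑL : Cfsg.IsIrrCharacter L (fun x : L => ϑ ⟨(x : G), hLH x.2⟩))
    (hind : Cfsg.IsIrrCharacter G (Cfsg.indFun H ϑ))
    (hhom : ∀ M : Subgroup G, M.Normal → L ≤ M → Homogeneous (Cfsg.indFun H ϑ) M) : False := by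
  set χ := Cfsg.indFun H ϑ with hχdef
  set C := H.normalCore
  have hCH : C ≤ H := H.normalCore_le
  have hLC : L ≤ C := (Subgroup.normal_le_normalCore (H := H) (N := L)).2 hLH
  have hϑc := IsIrrCharacter.isCharacter hϑ
  have hϑcl := IsIrrCharacter.isClassFunction hϑ
  set θ : C → ℂ := fun c => ϑ ⟨(c : G), hCH c.2⟩ with hθdef
  have hθ : Cfsg.IsIrrCharacter C θ :=
    irr_of_comp_irr (Subgroup.inclusion hLC) (IsCharacter.comp hϑc (Subgroup.inclusion hCH)) hϑL
  have hsolvC : Group.IsSolvable (G ⧸ C) :=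
    Group.isSolvable_of_surjective (f := QuotientGroup.map L C (MonoidHom.id G) hLC) (by
      intro q
      obtain ⟨g, rfl⟩ := QuotientGroup.mk'_surjective C q
      exact ⟨QuotientGroup.mk' L g, rfl⟩)
  have hCtop : C < ⊤ := lt_top_iff_ne_top.2 fun h => hmax.1 (top_le_iff.1 (h ▸ hCH))
  obtain ⟨K, hKn, hCK, -, hchief⟩ := exists_chief hCtop
  obtain ⟨hab, p, a, hp, hpa⟩ := chief_solvable hsolvC hCK hchief
  have hKH : ¬ K ≤ H := fun h => hCK.not_ge ((Subgroup.normal_le_normalCore (H := H) (N := K)).2 h)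
  have hsupKH : K ⊔ H = ⊤ := hmax.2 _ (lt_of_le_of_ne le_sup_right fun h => hKH (h ▸ le_sup_left))
  have hKnorm : K ≤ Subgroup.normalizer ((K ⊓ H : Subgroup G) : Set G) := by
    intro k hk
    have : ∀ x ∈ K ⊓ H, k * x * k⁻¹ ∈ K ⊓ H := fun x hx => by
      have h1 : ⁅k, x⁆ ∈ C := hab (Subgroup.commutator_mem_commutator hk hx.1)
      rw [show k * x * k⁻¹ = ⁅k, x⁆ * x by simp [commutatorElement_def]]
      exact ⟨K.mul_mem (hCK.le h1) hx.1, H.mul_mem (hCH h1) hx.2⟩
    exact mem_normalizer_of_conj this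
  have hKHn : (K ⊓ H).Normal := by
    rw [← Subgroup.normalizer_eq_top_iff, ← top_le_iff, ← hsupKH]
    refine sup_le hKnorm fun h hh => mem_normalizer_of_conj fun y hy => ?_
    exact ⟨hKn.conj_mem y hy.1 h, H.mul_mem (H.mul_mem hh hy.2) (H.inv_mem hh)⟩
  have hKC : K ⊓ H = C := le_antisymm ((Subgroup.normal_le_normalCore).2 inf_le_right)
    (le_inf hCK.le hCH)
  set n := H.index with hndef
  have hn0 : (n : ℂ) ≠ 0 := Nat.cast_ne_zero.2 Subgroup.index_ne_zero_of_finite
  have hnK : C.relIndex K = n := by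
    rw [← hKC, Subgroup.inf_relIndex_left, hndef, ← Subgroup.relIndex_top_right (H := H), ← hsupKH]
    exact (relIndex_sup_left' K H).symm
  -- restrictions of `χ`
  have hχH : Cfsg.classInner (fun h : H => χ h) ϑ = 1 := by
    rw [IsCharacter.classInner_comm (IsCharacter.restrict (IsIrrCharacter.isCharacter hind) H) hϑc,
      ← classInner_indFun H ϑ (IsIrrCharacter.isClassFunction hind), ← hχdef,
      classInner_irr_self hind]
  have hχC : (fun c : C => χ c) = (n : ℂ) • θ := by
    obtain ⟨φ, e, hφ, he⟩ := hhom C inferInstance hLC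
    have hne : Cfsg.classInner (fun c : C => χ c) θ ≠ 0 :=
      Clifford.classInner_ne_zero_trans
        (IsCharacter.restrict (IsIrrCharacter.isCharacter hind) H) hϑ
        (by rw [hχH]; exact one_ne_zero) (Subgroup.inclusion hCH) (IsIrrCharacter.isCharacter hθ)
        (by
          show Cfsg.classInner θ θ ≠ 0
          rw [classInner_irr_self hθ]; exact one_ne_zero)
    have hφθ : φ = θ := by
      by_contra hd
      rw [he, classInner_smul_left, classInner_irr_ne hφ hθ hd, mul_zero] at hne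
      exact hne rfl
    rw [hφθ] at he
    have h1 := congrFun he 1
    simp only [Pi.smul_apply, smul_eq_mul, OneMemClass.coe_one] at h1
    rw [hχdef, indFun_one] at h1
    have h2 : θ 1 = ϑ 1 := rfl
    rw [h2] at h1
    rw [he, ← mul_right_cancel₀ (IsIrrCharacter.apply_one_ne_zero hϑ) h1]
  have hvan : ∀ k ∈ K, k ∉ C → χ k = 0 := fun k hk hkC => by
    refine indFun_eq_zero_of_forall H ϑ fun x hx => hkC ?_
    have h1 : x⁻¹ * k * x ∈ C := hKC ▸ ⟨by simpa using hKn.conj_mem k hk x⁻¹, hx⟩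
    have h2 := (inferInstance : C.Normal).conj_mem _ h1 x
    simpa [mul_assoc] using h2
  by_cases hKtop : K = ⊤
  · have hHC : H = C := by rw [← hKC, hKtop, top_inf_eq]
    have h1 : Cfsg.classInner (fun h : H => χ h) ϑ = n := by
      rw [show (fun h : H => χ h) = (n : ℂ) • ϑ from funext fun h =>
        congrFun hχC ⟨(h : G), hHC ▸ h.2⟩, classInner_smul_left, classInner_irr_self hϑ, mul_one]
    rw [hχH] at h1
    exact hmax.1 (Subgroup.index_eq_one.1 (by exact_mod_cast h1.symm))
  obtain ⟨φ, f, hφ, hχK⟩ := hhom K hKn (hLC.trans hCK.le)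
  have hf0 : (f : ℂ) ≠ 0 := Nat.cast_ne_zero.2 (mult_ne_zero hind hχK)
  have hf2 : f * f = n := by
    have h1 := norm_restrict_of_vanish hφ (C.subgroupOf K) fun k hk => by
      have h2 := congrFun hχK k
      simp only [Pi.smul_apply, smul_eq_mul] at h2
      rw [hvan k k.2 fun h => hk h] at h2
      exact (mul_eq_zero.1 h2.symm).resolve_left hf0
    have hres : (fun x : C.subgroupOf K => φ x)
        = ((n : ℂ) / f) • (θ ∘ Subgroup.subgroupOfEquivOfLe hCK.le) := funext fun x => by
      have h2 := congrFun hχK (x : K)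
      have h3 := congrFun hχC (Subgroup.subgroupOfEquivOfLe hCK.le x)
      simp only [Pi.smul_apply, smul_eq_mul, Function.comp_apply] at h2 h3 ⊢
      rw [div_mul_eq_mul_div, eq_div_iff hf0, mul_comm, ← h2, ← h3]
      rfl
    rw [hres, classInner_smul_left, classInner_smul_right,
      classInner_irr_self (IsIrrCharacter.comp_equiv hθ _), mul_one,
      ← Subgroup.index_mul_card (C.subgroupOf K), ← Subgroup.relIndex, hnK, Nat.cast_mul,
      mul_comm (n : ℂ) (Nat.card (C.subgroupOf K) : ℂ)] at h1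
    have h2 := mul_left_cancel₀ CfsgLib.Char.card_ne_zero h1
    rw [map_div₀, Complex.conj_natCast, Complex.conj_natCast, div_mul_div_comm,
      div_eq_iff (mul_ne_zero hf0 hf0), mul_right_inj' hn0] at h2
    exact_mod_cast h2.symm
  -- the next chief factor
  obtain ⟨M, hMn, hKM, -, hchiefM⟩ := exists_chief (lt_top_iff_ne_top.2 hKtop)
  have hsolvK : Group.IsSolvable (G ⧸ K) :=
    Group.isSolvable_of_surjective (f := QuotientGroup.map C K (MonoidHom.id G) hCK.le) (by
      intro q
      obtain ⟨g, rfl⟩ := QuotientGroup.mk'_surjective K q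
      exact ⟨QuotientGroup.mk' C g, rfl⟩)
  obtain ⟨-, q, b, hq, hqb⟩ := chief_solvable hsolvK hKM hchiefM
  have hsupMH : M ⊔ H = ⊤ := top_le_iff.1 (hsupKH ▸ sup_le_sup_right hKM.le H)
  set J := H.subgroupOf M with hJdef
  suffices hJn : K ≤ Subgroup.normalizer ((M ⊓ H : Subgroup G) : Set G) by
    have hJnorm : (M ⊓ H).Normal := by
      rw [← Subgroup.normalizer_eq_top_iff, ← top_le_iff, ← hsupKH]
      refine sup_le hJn fun h hh => mem_normalizer_of_conj fun y hy => ?_
      exact ⟨hMn.conj_mem y hy.1 h, H.mul_mem (H.mul_mem hh hy.2) (H.inv_mem hh)⟩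
    have hJC : M ⊓ H ≤ C := (Subgroup.normal_le_normalCore).2 inf_le_right
    refine hKM.not_ge fun m hm => ?_
    obtain ⟨k, hk, h, hh, rfl⟩ := Subgroup.mem_sup_of_normal_left.1 (hsupKH ▸ Subgroup.mem_top m)
    refine K.mul_mem hk (hCK.le (hJC ⟨?_, hh⟩))
    simpa using M.mul_mem (M.inv_mem (hKM.le hk)) hm
  have hCJ : C ≤ M ⊓ H := le_inf (hCK.le.trans hKM.le) hCH
  by_cases hpq : q = p
  · subst hpq
    -- `M/C` is a `p`-group, so it centralizes `K/C`
    haveI := Fact.mk hq
    let π := QuotientGroup.mk' C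
    have hcardM : Nat.card (M.map π) = q ^ (a + b) := by
      rw [← Subgroup.relIndex_ker, QuotientGroup.ker_mk',
        ← Subgroup.relIndex_mul_relIndex C K M hCK.le hKM.le, hpa, hqb, pow_add]
    haveI : Group.IsNilpotent (M.map π) := (IsPGroup.of_card hcardM).isNilpotent
    haveI : (K.map π).Normal := hKn.map π (QuotientGroup.mk'_surjective C)
    haveI : (M.map π).Normal := hMn.map π (QuotientGroup.mk'_surjective C)
    have hKMle : K.map π ≤ M.map π := Subgroup.map_mono hKM.le
    have hne : (K.map π).subgroupOf (M.map π) ≠ ⊥ := fun h0 => by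
      have h1 := Subgroup.map_subgroupOf_eq_of_le hKMle
      rw [h0, Subgroup.map_bot, eq_comm, Subgroup.map_eq_bot_iff, QuotientGroup.ker_mk'] at h1
      exact hCK.not_ge h1
    have h1 := CfsgLib.Solvable.FrattiniFitting.inf_center_ne_bot _ hne
    set Z := (K ⊓ (Subgroup.centralizer ((M.map π : Subgroup (G ⧸ C)) : Set (G ⧸ C))).comap π)
    have hZn : Z.Normal := inferInstance
    rcases hchief Z hZn (le_inf hCK.le fun c hc => by
      rw [Subgroup.mem_comap, show π c = 1 from (QuotientGroup.eq_one_iff c).2 hc]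
      exact one_mem _) inf_le_left with hZ | hZ
    · exfalso
      refine h1 (eq_bot_iff.2 fun x hx => ?_)
      obtain ⟨hxK, hxc⟩ := hx
      obtain ⟨k, hk, hke⟩ := (hxK : (x : G ⧸ C) ∈ K.map π)
      have hkZ : k ∈ Z := ⟨hk, Subgroup.mem_comap.2 (Subgroup.mem_centralizer_iff.2 fun y hy => by
        rw [hke]
        exact congrArg Subtype.val (Subgroup.mem_center_iff.1 hxc ⟨y, hy⟩))⟩
      rw [hZ] at hkZ
      refine Subgroup.mem_bot.2 (Subtype.ext ?_)
      exact hke.symm.trans ((QuotientGroup.eq_one_iff k).2 hkZ)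
    · intro k hk
      refine mem_normalizer_of_conj fun y hy => ?_
      have h2 : π y * π k = π k * π y :=
        Subgroup.mem_centralizer_iff.1 (Subgroup.mem_comap.1 (hZ.symm ▸ hk : k ∈ Z).2) _
          ⟨y, hy.1, rfl⟩
      have h3 : ⁅k, y⁆ ∈ C := by
        rw [← QuotientGroup.eq_one_iff]
        show π ⁅k, y⁆ = 1
        rw [map_commutatorElement, commutatorElement_eq_one_iff_mul_comm, h2]
      show k * y * k⁻¹ ∈ M ⊓ H
      rw [show k * y * k⁻¹ = ⁅k, y⁆ * y by simp [commutatorElement_def]]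
      exact (M ⊓ H).mul_mem (hCJ h3) hy
  -- coprime case
  obtain ⟨η, e, hη, hχM⟩ := hhom M hMn (hLC.trans (hCK.le.trans hKM.le))
  have he0 : (e : ℂ) ≠ 0 := Nat.cast_ne_zero.2 (mult_ne_zero hind hχM)
  have hηc := IsIrrCharacter.isCharacter hη
  let εK : K.subgroupOf M ≃* K := Subgroup.subgroupOfEquivOfLe hKM.le
  have hηK : (fun x : K.subgroupOf M => η x) = ((f : ℂ) / e) • (φ ∘ εK) := funext fun x => by
    have h2 := congrFun hχM (x : M)
    have h3 := congrFun hχK (εK x)
    simp only [Pi.smul_apply, smul_eq_mul, Function.comp_apply] at h2 h3 ⊢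
    rw [div_mul_eq_mul_div, eq_div_iff he0, mul_comm, ← h2, ← h3]
    rfl
  have hinner : Cfsg.classInner (fun x : K.subgroupOf M => η x) (φ ∘ εK) = (f : ℂ) / e := by
    rw [hηK, classInner_smul_left, classInner_irr_self (IsIrrCharacter.comp_equiv hφ _), mul_one]
  obtain ⟨d, hd1, hdvd⟩ := degree_ratio_dvd hη (K.subgroupOf M)
    (IsIrrCharacter.comp_equiv hφ εK) (by rw [hinner]; exact div_ne_zero hf0 he0)
  have hde : d * e = f := by
    have h1 := congrFun hηK 1
    simp only [Pi.smul_apply, smul_eq_mul, OneMemClass.coe_one] at h1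
    rw [hd1] at h1
    have h2 := mul_right_cancel₀
      (IsIrrCharacter.apply_one_ne_zero (IsIrrCharacter.comp_equiv hφ εK)) h1
    rw [eq_div_iff he0] at h2
    exact_mod_cast h2
  have hef : e = f := by
    have h1 : d ∣ q ^ b := hqb ▸ hdvd
    have h2 : d ∣ p ^ a := by
      rw [← hpa, hnK, ← hf2, ← hde]
      exact dvd_mul_of_dvd_left (dvd_mul_right d e) _
    rw [← hde, Nat.eq_one_of_dvd_coprimes (((Nat.coprime_primes hq hp).2 hpq).pow b a) h1 h2,
      one_mul]
  set ξ : J → ℂ := fun j => ϑ ⟨((j : M) : G), j.2⟩ with hξdef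
  let fJ : J →* H :=
    { toFun := fun j => ⟨((j : M) : G), j.2⟩, map_one' := rfl, map_mul' := fun _ _ => rfl }
  have hξc : Cfsg.IsCharacter J ξ := IsCharacter.comp hϑc fJ
  let gC : C →* J :=
    { toFun := fun c => ⟨⟨(c : G), (hCJ c.2).1⟩, (hCJ c.2).2⟩
      map_one' := rfl, map_mul' := fun _ _ => rfl }
  have hξ : Cfsg.IsIrrCharacter J ξ := irr_of_comp_irr gC hξc hθ
  have hMack : (fun m : M => χ m) = Cfsg.indFun J ξ := by
    rw [hχdef, hξdef]
    exact indFun_restrict_of_sup hsupMH hϑcl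
  have hJidx : J.index = n := by
    show H.relIndex M = H.index
    rw [← Subgroup.relIndex_top_right (H := H), ← hsupMH]
    exact (relIndex_sup_left' M H).symm
  have hηJ : Cfsg.classInner (fun j : J => η j) ξ = f := by
    rw [IsCharacter.classInner_comm (IsCharacter.restrict hηc J) hξc,
      ← classInner_indFun J ξ (IsIrrCharacter.isClassFunction hη), ← hMack, hχM,
      classInner_smul_left, classInner_irr_self hη, mul_one, hef]
  have hη1 : η 1 = (f : ℂ) * ξ 1 := by
    have h1 := congrFun hχM 1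
    have h2 := congrFun hχC 1
    simp only [Pi.smul_apply, smul_eq_mul, OneMemClass.coe_one] at h1 h2
    rw [h2, hef, ← hf2, Nat.cast_mul, mul_assoc] at h1
    exact (mul_left_cancel₀ hf0 h1).symm
  have hres := eq_smul_of_degree (IsCharacter.restrict hηc J) hξ hηJ hη1
  have hsumJ : ∑ j : J, η j * conj (η j) = (Nat.card M : ℂ) := by
    rw [sum_mul_conj, hres, classInner_smul_self hξ, ← Subgroup.index_mul_card J, hJidx, ← hf2]
    push_cast
    ring
  have hvanJ : ∀ m : M, m ∉ J → η m = 0 := by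
    have h2 : ∑ m ∈ Finset.univ.filter (fun m : M => m ∉ J), Complex.normSq (η m) = 0 := by
      have h1 : ∑ m : M, η m * conj (η m) = (Nat.card M : ℂ) := by
        rw [sum_mul_conj, classInner_irr_self hη, mul_one]
      rw [← Finset.sum_filter_add_sum_filter_not Finset.univ (fun m : M => m ∈ J),
        Finset.sum_subtype (Finset.univ.filter fun m : M => m ∈ J)
          (fun m => Finset.mem_filter.trans (and_iff_right (Finset.mem_univ m)))
          (fun m : M => η m * conj (η m)), hsumJ, add_eq_left] at h1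
      simp only [Complex.mul_conj] at h1
      exact_mod_cast h1
    intro m hm
    exact Complex.normSq_eq_zero.1 ((Finset.sum_eq_zero_iff_of_nonneg fun x _ =>
      Complex.normSq_nonneg _).1 h2 m (Finset.mem_filter.2 ⟨Finset.mem_univ _, hm⟩))
  set U := J.normalCore with hUdef
  have hUJ : U ≤ J := J.normalCore_le
  have hCU : ∀ c : C, (gC c : M) ∈ U := fun c x => by
    have h2 := (inferInstance : C.Normal).conj_mem _ c.2 (x : G)
    exact ((hCJ h2).2 :)
  let gU : C →* U :=
    { toFun := fun c => ⟨(gC c : M), hCU c⟩, map_one' := rfl, map_mul' := fun _ _ => rfl }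
  have hξU : Cfsg.IsIrrCharacter U fun u : U => ξ ⟨(u : M), hUJ u.2⟩ :=
    irr_of_comp_irr gU (IsCharacter.comp hξc (Subgroup.inclusion hUJ)) hθ
  have hsupp : ∀ m : M, m ∉ U → η m = 0 := by
    intro m hm
    obtain ⟨x, hx⟩ := not_forall.1 hm
    rw [← IsIrrCharacter.isClassFunction hη m x]
    exact hvanJ _ hx
  have hUJeq : U = J := by
    have h1 := norm_restrict_of_vanish hη U hsupp
    rw [show (fun u : U => η u) = (f : ℂ) • (fun u : U => ξ ⟨(u : M), hUJ u.2⟩) from
      funext fun u => congrFun hres ⟨(u : M), hUJ u.2⟩, classInner_smul_self hξU,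
      ← Subgroup.index_mul_card J, hJidx, ← hf2] at h1
    push_cast at h1
    rw [mul_comm (Nat.card U : ℂ)] at h1
    have h2 := mul_left_cancel₀ (mul_ne_zero hf0 hf0) h1
    exact Subgroup.eq_of_le_of_card_ge hUJ (le_of_eq (by exact_mod_cast h2.symm))
  haveI hJn : J.Normal := hUJeq ▸ inferInstance
  intro k hk
  refine mem_normalizer_of_conj fun y hy => ?_
  have h2 := hJn.conj_mem ⟨y, hy.1⟩ hy.2 ⟨k, hKM.le hk⟩
  exact ⟨hMn.conj_mem y hy.1 k, h2⟩

end CfsgLib.CharDeep.Relative
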