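import Cfsg.Agent.Lib.CharDeep.HomogLift
import Cfsg.Agent.Lib.CharDeep.RelativeSteps

/-!
# Systems of imprimitivity from idempotents
-/

set_option autoImplicit false
set_option linter.unusedSectionVars false

open scoped Classical

namespace CfsgLib.CharDeep.Imprimitive

open Module CfsgLib.Char CfsgLib.CharDeep.HomogLift

section Idempotent

variable {G : Type*} [Group G] [Fintype G] {V : Type*} [AddCommGroup V] [Module ℂ V]
  [FiniteDimensional ℂ V] (π : Representation ℂ G V)

theorem isCharacter_trace_idem {T : Subgroup G} {e : Module.End ℂ V} (he : IsIdempotentElem e)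
    (hc : ∀ t ∈ T, π t * e = e * π t) :
    Cfsg.IsCharacter T fun t : T => LinearMap.trace ℂ V (π t * e) := by
  have hmem : ∀ (t : T) (v : V), v ∈ LinearMap.range e → π t v ∈ LinearMap.range e := by
    rintro t _ ⟨w, rfl⟩
    exact ⟨π t w, (LinearMap.congr_fun (hc t t.2) w).symm⟩
  let τ : Representation ℂ T (LinearMap.range e) :=
    { toFun := fun t => (π t).restrict (hmem t)
      map_one' := LinearMap.ext fun v => Subtype.ext (by simp)
      map_mul' := fun a b => LinearMap.ext fun v => Subtype.ext (by simp) }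
  convert CfsgLib.Char.isCharacter_of_rep τ using 1
  funext t
  have hall : ∀ v : V, (π t * e) v ∈ LinearMap.range e := fun v => hmem t _ ⟨v, rfl⟩
  rw [← LinearMap.trace_restrict_eq_of_forall_mem (LinearMap.range e) (π t * e) hall]
  refine congrArg (LinearMap.trace ℂ _) (LinearMap.ext fun v => Subtype.ext ?_)
  obtain ⟨w, hw⟩ := v.2
  show π t (e v) = π t v
  rw [← hw, ← Module.End.mul_apply e e, he.eq]

/-- An idempotent with mutually orthogonal conjugates induces. -/
theorem induced_of_idempotent [π.IsIrreducible] {T : Subgroup G} {e : Module.End ℂ V}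
    (he : IsIdempotentElem e) (he0 : e ≠ 0) (hc : ∀ t ∈ T, π t * e = e * π t)
    (horth : ∀ g ∉ T, e * (π g * e * π g⁻¹) = 0) :
    ∃ ψ : T → ℂ, Cfsg.IsIrrCharacter T ψ ∧ Cfsg.indFun T ψ = π.character := by
  haveI : Fintype T := Fintype.ofFinite T
  haveI : Fintype (G ⧸ T) := Fintype.ofFinite _
  set χ := π.character
  have hχ : Cfsg.IsIrrCharacter G χ := CfsgLib.Char.isIrrCharacter_of_rep π
  set ψ : T → ℂ := fun t => LinearMap.trace ℂ V (π t * e) with hψdef
  have hψ : Cfsg.IsCharacter T ψ := isCharacter_trace_idem π he hc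
  have hψ' : Cfsg.IsCharacter T fun t : T => LinearMap.trace ℂ V (π t * (1 - e)) :=
    isCharacter_trace_idem π he.one_sub fun t ht => by
      rw [mul_sub, sub_mul, mul_one, one_mul, hc t ht]
  have hψ1 : ψ 1 = (finrank ℂ (LinearMap.range e) : ℂ) := by
    rw [hψdef]
    simp only [OneMemClass.coe_one, map_one, one_mul]
    exact ((LinearMap.isProj_range_iff_isIdempotentElem e).2 he).trace
  have hψ0 : ψ ≠ 0 := fun h0 => he0 (by
    rw [h0, Pi.zero_apply, eq_comm, Nat.cast_eq_zero, Submodule.finrank_eq_zero,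
      LinearMap.range_eq_bot] at hψ1
    exact hψ1)
  have hres : (fun t : T => χ t) = ψ + fun t : T => LinearMap.trace ℂ V (π t * (1 - e)) :=
    funext fun t => by
      show LinearMap.trace ℂ V (π t) = LinearMap.trace ℂ V (π t * e)
        + LinearMap.trace ℂ V (π t * (1 - e))
      rw [mul_sub, mul_one, map_sub, add_sub_cancel]
  have hI := IsCharacter.indFun T hψ
  have hne : Cfsg.classInner (Cfsg.indFun T ψ) χ ≠ 0 := by
    rw [classInner_indFun T ψ (IsIrrCharacter.isClassFunction hχ), hres, classInner_add_right]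
    obtain ⟨a, ha⟩ := IsCharacter.classInner_nat hψ hψ
    obtain ⟨b, hb⟩ := IsCharacter.classInner_nat hψ hψ'
    rw [ha, hb, ← Nat.cast_add, Nat.cast_ne_zero]
    intro h0
    refine hψ0 (classInner_self_eq_zero.1 ?_)
    rw [ha, show a = 0 by omega, Nat.cast_zero]
  obtain ⟨a, b, ha, hb, hab, heq⟩ := IsCharacter.constituent_degree_le hI hχ hne
  have hconj : ∀ g x : G, π g * (π x * e * π x⁻¹) * π g⁻¹ = π (g * x) * e * π (g * x)⁻¹ :=
    fun g x => by rw [mul_inv_rev, map_mul, map_mul]; simp only [mul_assoc]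
  set S := ∑ q : G ⧸ T, π q.out * e * π q.out⁻¹ with hS
  have hcancel : ∀ g : G, π g⁻¹ * π g = 1 := fun g => by rw [← map_mul, inv_mul_cancel, map_one]
  have hSi : IsIdempotentElem S := by
    show S * S = S
    rw [hS, Finset.sum_mul]
    refine Finset.sum_congr rfl fun q _ => ?_
    rw [Finset.mul_sum, Finset.sum_eq_single q]
    · simp only [mul_assoc]
      rw [← mul_assoc (π q.out⁻¹), hcancel, one_mul, ← mul_assoc e e, he.eq]
    · intro q' _ hne
      have hnT : q.out⁻¹ * q'.out ∉ T := fun h => hne (by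
        rw [← QuotientGroup.out_eq' q, ← QuotientGroup.out_eq' q']
        exact (QuotientGroup.eq.2 h).symm)
      have h1 := horth _ hnT
      rw [map_mul, mul_inv_rev, inv_inv, map_mul] at h1
      have h2 : π q.out * (e * (π q.out⁻¹ * π q'.out * e * (π q'.out⁻¹ * π q.out))) * π q.out⁻¹ = 0 := by
        rw [h1, mul_zero, zero_mul]
      rw [← h2]
      simp only [mul_assoc]
      rw [← map_mul π q.out q.out⁻¹, mul_inv_cancel, map_one, mul_one]
    · simp
  have hSt : LinearMap.trace ℂ V S = (T.index : ℂ) * ψ 1 := by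
    rw [hS, map_sum, hψ1, ← ((LinearMap.isProj_range_iff_isIdempotentElem e).2 he).trace,
      Subgroup.index, Nat.card_eq_fintype_card]
    rw [Finset.sum_congr rfl fun q _ => ?_, Finset.sum_const, Finset.card_univ, nsmul_eq_mul]
    rw [LinearMap.trace_mul_comm, ← mul_assoc, hcancel, one_mul]
  rw [← indFun_one T ψ, hb, ((LinearMap.isProj_range_iff_isIdempotentElem S).2 hSi).trace,
    Nat.cast_inj] at hSt
  have hχ1 : χ 1 = (finrank ℂ V : ℂ) := Representation.char_one π
  rw [ha, Nat.cast_inj] at hχ1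
  have hle := Submodule.finrank_le (LinearMap.range S)
  have hI' := heq (le_antisymm hab (by omega))
  exact ⟨ψ, irr_of_indFun_irr' hψ (hI'.symm ▸ hχ), hI'⟩
where
  irr_of_indFun_irr' {G : Type _} [Group G] [Fintype G] {T : Subgroup G} [Fintype T] {ψ : T → ℂ}
      (h1 : Cfsg.IsCharacter T ψ) (h2 : Cfsg.IsIrrCharacter G (Cfsg.indFun T ψ)) :
      Cfsg.IsIrrCharacter T ψ := Relative.irr_of_indFun_irr T h1 h2

end Idempotent

end CfsgLib.CharDeep.Imprimitive
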