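import Cfsg.Agent.Lib.CharDeep.Implementers
import Cfsg.Agent.Lib.CharDeep.Imprimitive

/-!
# An induced irreducible character with a coprime commuting section is induced from above
-/

set_option autoImplicit false
set_option linter.unusedSectionVars false

open scoped Classical commutatorElement

namespace CfsgLib.CharDeep.Imprimitive

open Module CfsgLib.Char CfsgLib.CharDeep.HomogLift CfsgLib.CharDeep.Implementers

variable {G : Type*} [Group G] [Fintype G] {K C H : Subgroup G} [K.Normal] [C.Normal]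
  [Fintype K] [Fintype C] [Fintype H] {V U W X : Type*}
  [AddCommGroup V] [Module ℂ V] [FiniteDimensional ℂ V]
  [AddCommGroup U] [Module ℂ U] [FiniteDimensional ℂ U]
  [AddCommGroup W] [Module ℂ W] [FiniteDimensional ℂ W]
  [AddCommGroup X] [Module ℂ X] [FiniteDimensional ℂ X]

/-- Either the commutator of `J` and `K` lies in `C`, or the character is induced from a proper
overgroup of `K`. -/
theorem induced_or_commutator_le (π : Representation ℂ G V) [π.IsIrreducible]
    (σ : Representation ℂ K U) [σ.IsIrreducible] (ρ : Representation ℂ C W) [ρ.IsIrreducible]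
    (τ : Representation ℂ H X) [τ.IsIrreducible]
    (hCK : C ≤ K) (hCH : C ≤ H) (hKH : K ⊓ H = C) (hsup : K ⊔ H = ⊤)
    (hπ : π.character = Cfsg.indFun H τ.character)
    {f g a : ℕ} (hσ : ∀ k : K, π.character k = (f : ℂ) * σ.character k)
    (hρ : ∀ c, (res hCK σ).character c = (g : ℂ) * ρ.character c)
    (hτ : ∀ c, (res hCH τ).character c = (a : ℂ) * ρ.character c)
    (hvan : ∀ k : K, (k : G) ∉ C → σ.character k = 0) (hgn : g * g = H.index)
    {J : Subgroup G} (hHJ : ∀ h ∈ H, ∀ j, j ∈ J ↔ h * j * h⁻¹ ∈ J)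
    (hJab : ∀ i ∈ J, ∀ j ∈ J, ⁅i, j⁆ ∈ C) (hcop : Nat.Coprime (C.relIndex J) H.index) :
    (∃ (T : Subgroup G) (ψ : T → ℂ), K ≤ T ∧ T ≠ ⊤ ∧ Cfsg.IsIrrCharacter T ψ ∧
      Cfsg.indFun T ψ = π.character) ∨ ∀ j ∈ J, ∀ k ∈ K, ⁅j, k⁆ ∈ C := by
  haveI := IrrTools.apply_ne_zero_of_isIrreducible π
  haveI := IrrTools.apply_ne_zero_of_isIrreducible σ
  haveI := IrrTools.apply_ne_zero_of_isIrreducible τ
  haveI := IrrTools.apply_ne_zero_of_isIrreducible ρ
  have hf : f ≠ 0 := fun h0 => by
    have h1 := hσ 1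
    rw [OneMemClass.coe_one, h0, Nat.cast_zero, zero_mul, Representation.char_one,
      Nat.cast_eq_zero] at h1
    exact finrank_pos.ne' h1
  have hg : g ≠ 0 := fun h0 => by
    rw [h0, zero_mul] at hgn
    exact Subgroup.index_ne_zero_of_finite hgn.symm
  have ha : a ≠ 0 := fun h0 => by
    have h1 := hτ 1
    rw [h0, Nat.cast_zero, zero_mul, Representation.char_one, Nat.cast_eq_zero] at h1
    exact finrank_pos.ne' h1
  have hinvσ : ∀ (x : G) (k : K), σ.character (MulAut.conjNormal x k) = σ.character k := by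
    intro x k
    refine mul_left_cancel₀ (Nat.cast_ne_zero.2 hf) ?_
    rw [← hσ, ← hσ, MulAut.conjNormal_apply, Representation.char_conj]
  have hinvρ : ∀ (x : G) (c : C), ρ.character (MulAut.conjNormal x c) = ρ.character c := by
    intro x c
    refine mul_left_cancel₀ (Nat.cast_ne_zero.2 hg) ?_
    rw [← hρ, ← hρ]
    show σ.character (Subgroup.inclusion hCK _) = σ.character (Subgroup.inclusion hCK _)
    rw [← hinvσ x (Subgroup.inclusion hCK c)]
    exact congrArg σ.character (Subtype.ext rfl)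
  have hN : ∀ j ∈ J, j ^ C.relIndex J ∈ C := fun j hj =>
    Subgroup.pow_index_mem (C.subgroupOf J) ⟨j, hj⟩
  have hN0 : C.relIndex J ≠ 0 := Subgroup.index_ne_zero_of_finite
  rcases dichotomy hCK σ ρ hρ hinvσ hinvρ hJab hN hN0 (hgn ▸ hcop) hg hvan with
    hcase | ⟨e, he, hec, he0, he1, hperm⟩
  · exact Or.inr hcase
  left
  -- the embedding of `τ`
  set πK : Representation ℂ K V := π.comp K.subtype with hπK
  set πH : Representation ℂ H V := π.comp H.subtype with hπH
  obtain ⟨ι, hι0⟩ : ∃ ι : Representation.IntertwiningMap τ πH, ι ≠ 0 := by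
    have h1 : Cfsg.classInner πH.character τ.character = 1 := by
      have hπi := isIrrCharacter_of_rep π
      rw [IsCharacter.classInner_comm (isCharacter_of_rep πH) (isCharacter_of_rep τ),
        show πH.character = (fun h : H => π.character h) from rfl,
        ← classInner_indFun H τ.character (IsIrrCharacter.isClassFunction hπi), ← hπ,
        classInner_irr_self hπi]
    rw [IrrTools.classInner_eq_finrank, Nat.cast_eq_one] at h1
    haveI := Module.nontrivial_of_finrank_eq_succ h1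
    exact exists_ne 0
  have hιinj : Function.Injective ι :=
    (Representation.IsIrreducible.injective_or_eq_zero ι).resolve_right hι0
  have hιτ : ∀ (h : H) (v : X), π h (ι v) = ι (τ h v) := fun h v =>
    (LinearMap.congr_fun (ι.isIntertwining' h) v).symm
  have hιC : ∀ (c : C) (v : X), π c (ι v) = ι (res hCH τ c v) := fun c v =>
    hιτ (Subgroup.inclusion hCH c) v
  have hdec : ∀ x : G, ∃ (k : K) (h : H), (k : G) * h = x := fun x => by
    obtain ⟨k, hk, h, hh, rfl⟩ := Subgroup.mem_sup_of_normal_left.1 (hsup ▸ Subgroup.mem_top x)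
    exact ⟨⟨k, hk⟩, ⟨h, hh⟩, rfl⟩
  -- cosets of `C` in `K`
  set C' := C.subgroupOf K with hC'
  letI : Fintype (K ⧸ C') := Fintype.ofFinite _
  have hout : ∀ k : K, ∃ c : C,
      (Quotient.out (k : K ⧸ C')) * Subgroup.inclusion hCK c = k := fun k => by
    obtain ⟨c, hc⟩ := QuotientGroup.mk_out_eq_mul C' k
    refine ⟨⟨((c : K) : G)⁻¹, C.inv_mem c.2⟩, Subtype.ext ?_⟩
    rw [hc]
    simp
  let L : ((K ⧸ C') → X) →ₗ[ℂ] V :=
    ∑ q : K ⧸ C', (π ((Quotient.out q : K) : G) ∘ₗ ι.toLinearMap) ∘ₗ LinearMap.proj q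
  have hL : ∀ u, L u = ∑ q : K ⧸ C', π ((Quotient.out q : K) : G) (ι (u q)) := fun u => by
    simp [L, LinearMap.sum_apply]
  have hLmem : ∀ (k : K) (v : X), π k (ι v) ∈ LinearMap.range L := fun k v => by
    obtain ⟨c, hc⟩ := hout k
    refine ⟨Pi.single (k : K ⧸ C') (res hCH τ c v), ?_⟩
    rw [hL, Finset.sum_eq_single (k : K ⧸ C') (fun q _ hne => by
      rw [Pi.single_eq_of_ne hne, map_zero, map_zero]) (fun h => absurd (Finset.mem_univ _) h),
      Pi.single_eq_same, ← hιC, ← Module.End.mul_apply, ← map_mul]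
    exact congrArg (fun x : K => π (x : G) (ι v)) hc
  have hLtop : LinearMap.range L = ⊤ := by
    refine (IrrTools.eq_bot_or_top_of_invariant π _ fun x u hu => ?_).resolve_left fun h0 => ?_
    · obtain ⟨w, rfl⟩ := hu
      obtain ⟨k, h, rfl⟩ := hdec x
      rw [hL, map_sum]
      refine Submodule.sum_mem _ fun q _ => ?_
      rw [← Module.End.mul_apply, ← map_mul,
        show (k : G) * h * ((Quotient.out q : K) : G)
          = ((k * MulAut.conjNormal (h : G) (Quotient.out q) : K) : G) * h by simp [mul_assoc],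
        map_mul, Module.End.mul_apply, hιτ]
      exact hLmem _ _
    · obtain ⟨v, hv⟩ := exists_ne (0 : X)
      refine hv (hιinj ?_)
      have h1 := hLmem 1 v
      rw [h0, Submodule.mem_bot, OneMemClass.coe_one, map_one, Module.End.one_apply] at h1
      rw [h1, map_zero]
  have hidx : Fintype.card (K ⧸ C') = H.index := by
    rw [← Nat.card_eq_fintype_card, ← Subgroup.index]
    show C.relIndex K = _
    rw [← hKH, Subgroup.inf_relIndex_left, ← Subgroup.relIndex_top_right (H := H), ← hsup]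
    exact (Relative.relIndex_sup_left' K H).symm
  have hLbij : Function.Bijective L := by
    have hs : Function.Surjective L := LinearMap.range_eq_top.1 hLtop
    refine ⟨(LinearMap.injective_iff_surjective_of_finrank_eq_finrank ?_).2 hs, hs⟩
    have h1 := congrFun hπ 1
    rw [indFun_one, Representation.char_one, Representation.char_one, ← Nat.cast_mul,
      Nat.cast_inj] at h1
    rw [Module.finrank_pi_fintype, Finset.sum_const, Finset.card_univ, smul_eq_mul, hidx, h1]
  have hext : ∀ {F F' : Module.End ℂ V},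
      (∀ (k : K) (v : X), F (π k (ι v)) = F' (π k (ι v))) → F = F' := by
    intro F F' hFF
    refine LinearMap.ext fun u => ?_
    obtain ⟨w, rfl⟩ := hLbij.2 u
    rw [hL, map_sum, map_sum]
    exact Finset.sum_congr rfl fun q _ => hFF _ _
  -- the operators on `V`
  set Ψ := lift σ πK
  have hΨσ : ∀ k : K, Ψ (σ k) = π k := fun k => lift_sigma σ πK hσ k
  let L' : Module.End ℂ U → (((K ⧸ C') → X) →ₗ[ℂ] V) := fun Y =>
    ∑ q : K ⧸ C', ((π ((Quotient.out q : K) : G) * Ψ Y) ∘ₗ ι.toLinearMap) ∘ₗ LinearMap.proj q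
  let Φ : Module.End ℂ U → Module.End ℂ V := fun Y =>
    L' Y ∘ₗ (LinearEquiv.ofBijective L hLbij).symm.toLinearMap
  have hΦ : ∀ {Y : Module.End ℂ U}, Comm hCK σ Y → ∀ (k : K) (v : X),
      Φ Y (π k (ι v)) = π k (Ψ Y (ι v)) := by
    intro Y hY k v
    obtain ⟨c, hc⟩ := hout k
    have h1 : L (Pi.single (k : K ⧸ C') (res hCH τ c v)) = π k (ι v) := by
      rw [hL, Finset.sum_eq_single (k : K ⧸ C') (fun q _ hne => by
        rw [Pi.single_eq_of_ne hne, map_zero, map_zero]) (fun h => absurd (Finset.mem_univ _) h),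
        Pi.single_eq_same, ← hιC, ← Module.End.mul_apply, ← map_mul]
      exact congrArg (fun x : K => π (x : G) (ι v)) hc
    have h2 : Ψ Y * π c = π c * Ψ Y := by
      have e : π c = Ψ (res hCK σ c) := (hΨσ (Subgroup.inclusion hCK c)).symm
      rw [e, ← lift_mul σ πK hσ, ← lift_mul σ πK hσ, (hY c).eq]
    show L' Y ((LinearEquiv.ofBijective L hLbij).symm (π k (ι v))) = _
    rw [← h1, LinearEquiv.ofBijective_symm_apply_apply]
    simp only [L', LinearMap.sum_apply, LinearMap.comp_apply, LinearMap.proj_apply]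
    rw [Finset.sum_eq_single (k : K ⧸ C') (fun q _ hne => by
        rw [Pi.single_eq_of_ne hne, map_zero, map_zero]) (fun h => absurd (Finset.mem_univ _) h),
      Pi.single_eq_same]
    show (π ((Quotient.out (k : K ⧸ C') : K) : G) * Ψ Y) (ι (res hCH τ c v)) = _
    rw [← hιC, ← Module.End.mul_apply _ (π c), mul_assoc, h2, ← mul_assoc, ← map_mul,
      Module.End.mul_apply]
    exact congrArg (fun x : K => π (x : G) (Ψ Y (ι v))) hc
  have hΦπ : ∀ {Y : Module.End ℂ U}, Comm hCK σ Y → ∀ k : K, Φ Y * π k = π k * Φ Y := by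
    intro Y hY k
    refine hext fun k' v => ?_
    rw [Module.End.mul_apply, Module.End.mul_apply, hΦ hY, ← Module.End.mul_apply (π k),
      ← Module.End.mul_apply (π k), ← map_mul]
    exact hΦ hY (k * k') v
  have hΦΨ : ∀ {Y : Module.End ℂ U}, Comm hCK σ Y → ∀ Z : Module.End ℂ U,
      Φ Y * Ψ Z = Ψ Z * Φ Y := by
    intro Y hY Z
    exact LinearMap.congr_fun (linearMap_ext σ (f := LinearMap.mulLeft ℂ (Φ Y) ∘ₗ Ψ)
      (f' := LinearMap.mulRight ℂ (Φ Y) ∘ₗ Ψ) fun k => by
        show Φ Y * Ψ (σ k) = Ψ (σ k) * Φ Y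
        rw [hΨσ, hΦπ hY]) Z
  have hΦmul : ∀ {Y Z : Module.End ℂ U}, Comm hCK σ Y → Comm hCK σ Z →
      Φ Y * Φ Z = Φ (Z * Y) := by
    intro Y Z hY hZ
    refine hext fun k v => ?_
    have h1 : Φ Y (ι v) = Ψ Y (ι v) := by simpa using hΦ hY 1 v
    rw [Module.End.mul_apply, hΦ hZ, hΦ (fun c => (hZ c).mul_left (hY c)),
      ← Module.End.mul_apply (Φ Y), hΦπ hY, Module.End.mul_apply, ← Module.End.mul_apply (Φ Y),
      hΦΨ hY, Module.End.mul_apply, h1, lift_mul σ πK hσ]
    rfl
  have hΦ1 : Φ 1 = 1 := hext fun k v => by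
    rw [hΦ (fun c => Commute.one_left _), lift_one σ πK hσ]; rfl
  have hΦ0 : Φ 0 = 0 := hext fun k v => by
    rw [hΦ (fun c => Commute.zero_left _), map_zero]; simp
  have hΦinj : ∀ {Y : Module.End ℂ U}, Comm hCK σ Y → Φ Y = 0 → Y = 0 := by
    intro Y hY h0
    have hzero : ∀ v : X, Ψ Y (ι v) = 0 := fun v => by
      have h1 := hΦ hY 1 v
      rw [h0] at h1
      simpa using h1.symm
    let ε : (K ⧸ C') × C ≃ K := Equiv.ofBijective
      (fun p => Quotient.out p.1 * Subgroup.inclusion hCK p.2) ⟨fun p p' hp => by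
        have hq : p.1 = p'.1 := by
          have h1 : ∀ p : (K ⧸ C') × C,
              ((Quotient.out p.1 * Subgroup.inclusion hCK p.2 : K) : K ⧸ C') = p.1 := fun p => by
            rw [QuotientGroup.mk_mul_of_mem _ (show Subgroup.inclusion hCK p.2 ∈ C' from p.2.2)]
            exact QuotientGroup.out_eq' p.1
          rw [← h1 p, ← h1 p']
          exact congrArg _ hp
        refine Prod.ext hq (Subgroup.inclusion_injective hCK ?_)
        simp only [hq] at hp
        exact mul_left_cancel hp,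
      fun k => let ⟨c, hc⟩ := hout k; ⟨((k : K ⧸ C'), c), hc⟩⟩
    set t : K → ℂ := fun k => LinearMap.trace ℂ U (Y * σ k⁻¹) with ht
    have hsum : ∀ v : X, L (fun q => (∑ c : C, t (ε (q, c)) • res hCH τ c) v) = 0 := by
      intro v
      have h1 := hzero v
      simp only [Ψ, lift_apply, LinearMap.smul_apply, LinearMap.sum_apply] at h1
      rw [smul_eq_zero, or_iff_right (div_ne_zero (finrank_ne_zero σ) card_ne_zero'),
        ← ε.sum_comp (fun x => LinearMap.trace ℂ U (Y * σ x⁻¹) • πK x (ι v)),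
        Fintype.sum_prod_type] at h1
      rw [hL, ← h1]
      refine Finset.sum_congr rfl fun q _ => ?_
      simp only [LinearMap.sum_apply, LinearMap.smul_apply, map_sum, map_smul]
      refine Finset.sum_congr rfl fun c _ => ?_
      rw [← hιC, ← Module.End.mul_apply, ← map_mul]
      rfl
    have hR : ∀ q : K ⧸ C', ∑ c : C, t (ε (q, c)) • ρ c = 0 := fun q => by
      refine lift_injective ρ (res hCH τ) hτ ha ?_
      rw [map_zero, map_sum]
      refine LinearMap.ext fun v => ?_
      have h2 := congrFun (hLbij.1 ((hsum v).trans (map_zero L).symm)) q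
      simp only [map_smul, lift_sigma ρ _ hτ]
      simpa using h2
    rw [eq_sum σ Y]
    refine smul_eq_zero.2 (Or.inr ?_)
    rw [← ε.sum_comp (fun x => LinearMap.trace ℂ U (Y * σ x⁻¹) • σ x), Fintype.sum_prod_type]
    refine Finset.sum_eq_zero fun q _ => ?_
    have h3 : ∑ c : C, t (ε (q, c)) • res hCK σ c = 0 := by
      have h4 := congrArg (lift ρ (res hCK σ)) (hR q)
      simpa only [map_sum, map_smul, lift_sigma ρ _ hρ, map_zero] using h4
    rw [show ∑ c : C, LinearMap.trace ℂ U (Y * σ (ε (q, c))⁻¹) • σ (ε (q, c))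
        = σ (Quotient.out q) * ∑ c : C, t (ε (q, c)) • res hCK σ c by
      rw [Finset.mul_sum]
      refine Finset.sum_congr rfl fun c _ => ?_
      rw [mul_smul_comm]
      exact congrArg (_ • ·) (map_mul σ (Quotient.out q) (Subgroup.inclusion hCK c)), h3, mul_zero]
  have hconj : ∀ (h : H) (u : (Module.End ℂ U)ˣ), Impl hCK σ ρ hρ h u →
      ∀ {Y : Module.End ℂ U}, Comm hCK σ Y → π h * Φ Y * π (h : G)⁻¹
        = Φ ((u : Module.End ℂ U) * Y * ((u⁻¹ : (Module.End ℂ U)ˣ) : Module.End ℂ U)) := by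
    intro h u hu Y hY
    have huc := hu.1
    have hY' : Comm hCK σ ((u : Module.End ℂ U) * Y * ((u⁻¹ : (Module.End ℂ U)ˣ) : Module.End ℂ U)) :=
      fun c => ((huc c).mul_left (hY c)).mul_left (Commute.units_inv_left (huc c))
    obtain ⟨R, hR⟩ := hu.2
    set A := ulift hCK σ ρ hρ R * u with hA
    have hconjΨ : π h * Ψ Y * π (h : G)⁻¹
        = Ψ ((A : Module.End ℂ U) * Y * ((A⁻¹ : (Module.End ℂ U)ˣ) : Module.End ℂ U)) := by
      have h5 := LinearMap.congr_fun (linearMap_ext σ
        (f := LinearMap.mulRight ℂ (π (h : G)⁻¹) ∘ₗ LinearMap.mulLeft ℂ (π h) ∘ₗ Ψ)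
        (f' := Ψ ∘ₗ LinearMap.mulRight ℂ ((A⁻¹ : (Module.End ℂ U)ˣ) : Module.End ℂ U)
          ∘ₗ LinearMap.mulLeft ℂ (A : Module.End ℂ U)) fun k => by
            show π h * Ψ (σ k) * π (h : G)⁻¹
              = Ψ ((A : Module.End ℂ U) * σ k * ((A⁻¹ : (Module.End ℂ U)ˣ) : Module.End ℂ U))
            rw [hR, Units.mul_inv_cancel_right, hΨσ, hΨσ, MulAut.conjNormal_apply, ← map_mul,
              ← map_mul]) Y
      exact h5
    have hAY : (A : Module.End ℂ U) * Y * ((A⁻¹ : (Module.End ℂ U)ˣ) : Module.End ℂ U)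
        = (u : Module.End ℂ U) * Y * ((u⁻¹ : (Module.End ℂ U)ˣ) : Module.End ℂ U) := by
      have h6 := (comm_lift hCK σ ρ hY' (R : Module.End ℂ W)).eq
      rw [hA, mul_inv_rev, Units.val_mul, Units.val_mul]
      calc _ = (ulift hCK σ ρ hρ R : Module.End ℂ U)
            * ((u : Module.End ℂ U) * Y * ((u⁻¹ : (Module.End ℂ U)ˣ) : Module.End ℂ U))
            * (((ulift hCK σ ρ hρ R)⁻¹ : (Module.End ℂ U)ˣ) : Module.End ℂ U) := by
              simp only [mul_assoc]
        _ = _ := by
              rw [ulift_val, h6, ← ulift_val hCK σ ρ hρ, Units.mul_inv_cancel_right]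
    rw [hAY] at hconjΨ
    refine hext fun k v => ?_
    rw [hΦ hY', ← hconjΨ, Module.End.mul_apply, Module.End.mul_apply, Module.End.mul_apply,
      Module.End.mul_apply, ← Module.End.mul_apply (π (h : G)⁻¹), ← map_mul,
      show (h : G)⁻¹ * k = ((MulAut.conjNormal ((h : G)⁻¹) k : K) : G) * (h : G)⁻¹ by
        simp [mul_assoc],
      map_mul, Module.End.mul_apply, show π (h : G)⁻¹ (ι v) = ι (τ h⁻¹ v) from hιτ h⁻¹ v,
      hΦ hY, ← Module.End.mul_apply (π h), ← map_mul, ← Module.End.mul_apply (π k), ← map_mul]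
    simp [mul_assoc]
  -- the imprimitivity idempotent
  have hE : IsIdempotentElem (Φ e) := by
    show Φ e * Φ e = Φ e
    rw [hΦmul hec hec, he.eq]
  have hE0 : Φ e ≠ 0 := fun h => he0 (hΦinj hec h)
  let T : Subgroup G :=
    { carrier := {x | π x * Φ e = Φ e * π x}
      one_mem' := by simp
      mul_mem' := fun {x y} (hx : π x * Φ e = Φ e * π x) (hy : π y * Φ e = Φ e * π y) => by
        show π (x * y) * Φ e = Φ e * π (x * y)
        rw [map_mul, mul_assoc, hy, ← mul_assoc, hx, mul_assoc]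
      inv_mem' := fun {x} (hx : π x * Φ e = Φ e * π x) => by
        show π x⁻¹ * Φ e = Φ e * π x⁻¹
        have h1 : π x⁻¹ * (π x * Φ e) * π x⁻¹ = π x⁻¹ * (Φ e * π x) * π x⁻¹ := by rw [hx]
        simp only [← mul_assoc, ← map_mul, inv_mul_cancel, map_one, one_mul] at h1
        simp only [mul_assoc, ← map_mul, mul_inv_cancel, map_one, mul_one] at h1
        exact h1.symm }
  obtain ⟨ψ, hψ, hψe⟩ := induced_of_idempotent π (T := T) hE hE0 (fun t ht => ht) fun x hx => by
    obtain ⟨k, h, rfl⟩ := hdec x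
    obtain ⟨u, hu⟩ := exists_impl hCK σ ρ hρ hinvσ hinvρ (h : G)
    set e' := (u : Module.End ℂ U) * e * ((u⁻¹ : (Module.End ℂ U)ˣ) : Module.End ℂ U)
    have he' : Comm hCK σ e' :=
      fun c => ((hu.1 c).mul_left (hec c)).mul_left (Commute.units_inv_left (hu.1 c))
    have h1 : π ((k : G) * h) * Φ e * π ((k : G) * h)⁻¹ = Φ e' := by
      rw [mul_inv_rev, map_mul, map_mul,
        show π k * π h * Φ e * (π (h : G)⁻¹ * π (k : G)⁻¹)
          = π k * (π h * Φ e * π (h : G)⁻¹) * π (k : G)⁻¹ by simp only [mul_assoc],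
        hconj h u hu hec, ← hΦπ he', mul_assoc, ← map_mul, mul_inv_cancel, map_one, mul_one]
    rcases hperm h u (hHJ h h.2) hu with heq | horth
    · refine absurd ?_ hx
      show π ((k : G) * h) * Φ e = Φ e * π ((k : G) * h)
      calc π ((k : G) * h) * Φ e
          = π ((k : G) * h) * Φ e * (π ((k : G) * h)⁻¹ * π ((k : G) * h)) := by
            rw [← map_mul π (((k : G) * h)⁻¹), inv_mul_cancel, map_one, mul_one]
        _ = _ := by rw [← mul_assoc, h1, show e' = e from heq]
    · rw [h1, hΦmul hec he', horth, hΦ0]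
  refine ⟨T, ψ, fun k hk => (hΦπ hec ⟨k, hk⟩).symm, fun htop => ?_, hψ, hψe⟩
  obtain ⟨c, hc⟩ := IrrTools.exists_smul_of_commute π (Φ e) fun x =>
    ((htop ▸ Subgroup.mem_top x : x ∈ T) : π x * Φ e = Φ e * π x).symm
  have hc2 : c * c = c := by
    have h1 := hE.eq
    rw [hc, smul_mul_smul_comm, mul_one] at h1
    exact smul_left_injective ℂ (one_ne_zero (α := Module.End ℂ V)) h1
  have hc1 : c = 1 := (mul_eq_right₀ fun h0 => hE0 (by rw [hc, h0, zero_smul])).1 hc2
  have h2 : Φ (1 - e) = 0 := by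
    refine hext fun k v => ?_
    rw [hΦ (fun d => (Commute.one_left _).sub_left (hec d)), map_sub, lift_one σ πK hσ,
      LinearMap.sub_apply, map_sub, ← hΦ hec, hc, hc1, one_smul]
    simp
  exact he1 (sub_eq_zero.1 (hΦinj (fun d => (Commute.one_left _).sub_left (hec d)) h2)).symm

end CfsgLib.CharDeep.Imprimitive
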