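import Cfsg.Agent.Lib.CharDeep.Glauberman.InvariantConstituent
import Cfsg.Agent.Lib.CharDeep.Glauberman.InvariantSolvable
import Cfsg.Agent.Lib.Char.CliffordCorr
import Cfsg.Agent.Lib.Coprime.Action
import Mathlib.GroupTheory.GroupAction.Basic

/-!
# Invariant constituents under a coprime operator subgroup
-/

set_option autoImplicit false
set_option linter.unusedSectionVars false
set_option linter.style.haveILetI false

open scoped Classical

namespace CfsgLib.CharDeep.InvariantPairs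

open CfsgLib.Char

variable {X : Type*} [Group X] [Fintype X] (G N : Subgroup X) [hGn : G.Normal] [hNn : N.Normal]
  [Fintype G] [Fintype N] (hNG : N ≤ G) (S : Subgroup X) (hsup : G ⊔ S = ⊤)
  (hcop : (N.relIndex G).Coprime (Nat.card S))

/-- Below an invariant character there is an invariant constituent. -/
theorem exists_below (hsup : G ⊔ S = ⊤) (hcop : (N.relIndex G).Coprime (Nat.card S))
    (hsolv : Group.IsSolvable S ∨ Group.IsSolvable (G ⧸ N.subgroupOf G))
    (χ : Cfsg.IrrCharacter G) (hinv : ∀ s ∈ S, conjG (χ : G → ℂ) s = χ) :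
    ∃ θ : Cfsg.IrrCharacter N,
      Cfsg.classInner ((χ : G → ℂ) ∘ Subgroup.inclusion hNG) (θ : N → ℂ) ≠ 0 ∧
      ∀ s ∈ S, conjG (θ : N → ℂ) s = θ := by
  set Ω := Cfsg.IrrCharacter N
  let act : X →* Equiv.Perm Ω :=
    { toFun := fun x =>
        { toFun := fun θ => ⟨conjG (θ : N → ℂ) x⁻¹, IsIrrCharacter.conjG θ.2 _⟩
          invFun := fun θ => ⟨conjG (θ : N → ℂ) x, IsIrrCharacter.conjG θ.2 _⟩
          left_inv := fun θ => Subtype.ext (by
            show conjG (conjG (θ : N → ℂ) x⁻¹) x = θ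
            rw [conjG_mul, inv_mul_cancel, conjG_one])
          right_inv := fun θ => Subtype.ext (by
            show conjG (conjG (θ : N → ℂ) x) x⁻¹ = θ
            rw [conjG_mul, mul_inv_cancel, conjG_one]) }
      map_one' := Equiv.ext fun θ => Subtype.ext (by
        show conjG (θ : N → ℂ) (1 : X)⁻¹ = θ
        rw [inv_one, conjG_one])
      map_mul' := fun x y => Equiv.ext fun θ => Subtype.ext (by
        show conjG (θ : N → ℂ) (x * y)⁻¹ = conjG (conjG (θ : N → ℂ) y⁻¹) x⁻¹
        rw [conjG_mul, mul_inv_rev]) }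
  have hker : N ≤ act.ker := fun n hn => MonoidHom.mem_ker.2 (Equiv.ext fun θ => Subtype.ext
    (conjG_of_mem (IsIrrCharacter.isClassFunction θ.2) (N.inv_mem hn)))
  let actq : X ⧸ N →* Equiv.Perm Ω := QuotientGroup.lift N act hker
  letI : MulAction (X ⧸ N) Ω := MulAction.compHom Ω actq
  have hsmul : ∀ (x : X) (θ : Ω), ((x : X ⧸ N) • θ : Ω).1 = conjG (θ : N → ℂ) x⁻¹ :=
    fun x θ => rfl
  set q := QuotientGroup.mk' N
  have hq : Function.Surjective q := QuotientGroup.mk'_surjective N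
  set K := G.map q
  set A := S.map q
  have hAK : A ≤ Subgroup.normalizer (K : Set (X ⧸ N)) := by
    haveI : K.Normal := hGn.map q hq
    rw [Subgroup.normalizer_eq_top]; exact le_top
  have hKcard : Nat.card K = N.relIndex G := by
    rw [← Subgroup.relIndex_ker, QuotientGroup.ker_mk']
  have hAcop : (Nat.card A).Coprime (Nat.card K) := by
    rw [hKcard]
    exact hcop.symm.coprime_dvd_left (S.card_map_dvd q)
  have hsolv' : Group.IsSolvable A ∨ Group.IsSolvable K := by
    rcases hsolv with h | h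
    · left
      exact Group.isSolvable_of_surjective (f := q.subgroupMap S) (q.subgroupMap_surjective S)
    · right
      haveI : (N.subgroupOf G).Normal := hNn.comap G.subtype
      haveI := h
      refine Group.isSolvable_of_surjective (G := G ⧸ N.subgroupOf G) (G' := K) (f := QuotientGroup.lift (N.subgroupOf G) (q.subgroupMap G)
        fun g hg => MonoidHom.mem_ker.2 (Subtype.ext ((QuotientGroup.eq_one_iff (g : X)).2 hg))) fun k => ?_
      obtain ⟨g, hg⟩ := q.subgroupMap_surjective G k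
      exact ⟨(g : G ⧸ N.subgroupOf G), by rw [QuotientGroup.lift_mk]; exact hg⟩
  set χN : N → ℂ := (χ : G → ℂ) ∘ Subgroup.inclusion hNG with hχN
  set s : Set Ω := {θ | Cfsg.classInner χN (θ : N → ℂ) ≠ 0}
  have hfix : ∀ x : X, conjG (χ : G → ℂ) x = χ → conjG χN x = χN := fun x hx => by
    funext n
    show (χ : G → ℂ) _ = (χ : G → ℂ) _
    rw [← congrFun hx (Subgroup.inclusion hNG n)]
    exact congrArg (χ : G → ℂ) (Subtype.ext rfl)
  have hfixG : ∀ g ∈ G, conjG (χ : G → ℂ) g = χ := fun g hg =>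
    conjG_of_mem (IsIrrCharacter.isClassFunction χ.2) hg
  have hmem : ∀ x : X, conjG (χ : G → ℂ) x⁻¹ = χ → ∀ θ ∈ s, ((x : X ⧸ N) • θ : Ω) ∈ s := by
    intro x hx θ hθ
    show Cfsg.classInner χN ((x : X ⧸ N) • θ : Ω).1 ≠ 0
    rw [hsmul, ← hfix _ hx, classInner_conjG]
    exact hθ
  obtain ⟨θ₀, hθ₀, hne₀⟩ := IsCharacter.exists_constituent
    (IsCharacter.comp (isCharacter_irr χ) (Subgroup.inclusion hNG))
    fun h0 => IsIrrCharacter.apply_one_ne_zero χ.2 (by simpa using congrFun h0 1)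
  obtain ⟨θ, hθs, hθA⟩ := CfsgLib.Coprime.exists_fixed_mem hAK hAcop hsolv' (s := s)
    (x := (⟨θ₀, hθ₀⟩ : Ω)) hne₀
    (by
      rintro _ ⟨a, ha, rfl⟩ θ hθ
      exact hmem a (hinv a⁻¹ (S.inv_mem ha)) θ hθ)
    (by
      rintro _ ⟨g, hg, rfl⟩ θ hθ
      exact hmem g (hfixG _ (G.inv_mem hg)) θ hθ)
    (by
      intro θ hθ
      haveI : (N.subgroupOf G).Normal := hNn.comap G.subtype
      letI : Fintype (N.subgroupOf G) := Fintype.ofFinite _
      let ε : N.subgroupOf G ≃* N := Subgroup.subgroupOfEquivOfLe hNG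
      have htr : ∀ φ : Ω, φ ∈ s →
          Cfsg.classInner (fun m : N.subgroupOf G => (χ : G → ℂ) m) ((φ : N → ℂ) ∘ ε) ≠ 0 :=
        fun φ hφ => by
          rw [show (fun m : N.subgroupOf G => (χ : G → ℂ) m) = χN ∘ ε from rfl, classInner_reindex]
          exact hφ
      obtain ⟨g, hg⟩ := Clifford.exists_conj_of_constituent (N.subgroupOf G) χ.2 (IsIrrCharacter.comp_equiv hθ₀ ε)
        (IsIrrCharacter.comp_equiv θ.2 ε) (htr ⟨θ₀, hθ₀⟩ hne₀) (htr θ hθ)
      refine ⟨q ((g : X)⁻¹), Subgroup.mem_map_of_mem q (G.inv_mem g.2), Subtype.ext ?_⟩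
      show ((((g : X)⁻¹ : X) : X ⧸ N) • (⟨θ₀, hθ₀⟩ : Ω) : Ω).1 = _
      rw [hsmul, inv_inv]
      funext n
      have h1 := congrFun hg (ε.symm n)
      rw [Clifford.conjFun_apply] at h1
      simp only [Function.comp_apply, MulEquiv.apply_symm_apply] at h1
      rw [h1]
      exact congrArg θ₀ (Subtype.ext rfl))
  refine ⟨θ, hθs, fun a ha => ?_⟩
  have h1 := congrArg Subtype.val (hθA (q a⁻¹) (Subgroup.mem_map_of_mem q (S.inv_mem ha)))
  rw [← inv_inv a]
  exact (hsmul a⁻¹ θ).symm.trans h1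

/-- Above an invariant character there is an invariant constituent. -/
theorem exists_above (hsup : G ⊔ S = ⊤) (hcop : (N.relIndex G).Coprime (Nat.card S))
    (hsolv : Group.IsSolvable (G ⧸ N.subgroupOf G))
    (θ : Cfsg.IrrCharacter N) (hinv : ∀ s ∈ S, conjG (θ : N → ℂ) s = θ) :
    ∃ χ : Cfsg.IrrCharacter G,
      Cfsg.classInner ((χ : G → ℂ) ∘ Subgroup.inclusion hNG) (θ : N → ℂ) ≠ 0 ∧
      ∀ s ∈ S, conjG (χ : G → ℂ) s = χ := by
  set T := stab (θ : N → ℂ) with hTdef
  have hNT : N ≤ T := le_stab (IsIrrCharacter.isClassFunction θ.2)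
  have hST : S ≤ T := fun s hs => mem_stab.2 (hinv s hs)
  set G' := G.subgroupOf T
  set N' := N.subgroupOf T
  haveI : G'.Normal := hGn.comap T.subtype
  haveI : N'.Normal := hNn.comap T.subtype
  haveI : Fintype T := Fintype.ofFinite _
  haveI : Fintype G' := Fintype.ofFinite _
  haveI : Fintype N' := Fintype.ofFinite _
  have hNG' : N' ≤ G' := fun x hx => hNG hx
  let εN : N' ≃* N := Subgroup.subgroupOfEquivOfLe hNT
  have hG'idx : G'.index ∣ Nat.card S := by
    show G.relIndex T ∣ _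
    refine (Subgroup.relIndex_dvd_index_of_normal G T).trans ?_
    rw [← Subgroup.relIndex_top_right, ← hsup, sup_comm, Subgroup.relIndex_sup_right]
    exact Subgroup.relIndex_dvd_card _ _
  have hN'idx : N'.relIndex G' ∣ N.relIndex G := by
    have e : N'.relIndex G' = N.relIndex (T ⊓ G) := by
      rw [← N'.relIndex_map_map_of_injective G' T.subtype_injective]
      · congr 1
        · exact Subgroup.map_subgroupOf_eq_of_le hNT
        · rw [Subgroup.subgroupOf_map_subtype, inf_comm]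
    rw [e, ← Subgroup.relIndex_mul_relIndex N (T ⊓ G) G (le_inf hNT hNG) inf_le_right]
    exact dvd_mul_right _ _
  have hsolv' : Group.IsSolvable (G' ⧸ N'.subgroupOf G') := by
    let ι : G' →* G := { toFun := fun x => ⟨((x : T) : X), x.2⟩, map_one' := rfl, map_mul' := fun _ _ => rfl }
    haveI := hsolv
    haveI : (N'.subgroupOf G').Normal := Subgroup.Normal.comap inferInstance _
    haveI : (N.subgroupOf G).Normal := hNn.comap G.subtype
    refine Group.isSolvable_of_isSolvable_injective (f := QuotientGroup.map (N'.subgroupOf G') (N.subgroupOf G) ι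
      fun x hx => Subgroup.mem_comap.2 (show ((x : T) : X) ∈ N from hx)) ?_
    refine (injective_iff_map_eq_one _).2 fun y hy => ?_
    obtain ⟨x, rfl⟩ := QuotientGroup.mk_surjective y
    replace hy : ((ι x : G) : G ⧸ N.subgroupOf G) = 1 := hy
    rw [QuotientGroup.eq_one_iff] at hy
    exact (QuotientGroup.eq_one_iff x).2 hy
  obtain ⟨χ', hχ', hinv'⟩ := Glauberman.InvConst.exists_invariant_constituent G' N' hNG'
    ((hcop.coprime_dvd_left hN'idx).coprime_dvd_right hG'idx).symm (Or.inr hsolv')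
    ⟨(θ : N → ℂ) ∘ εN, IsIrrCharacter.comp_equiv θ.2 εN⟩ fun x => by
      funext n
      show (θ : N → ℂ) (εN _) = (θ : N → ℂ) (εN n)
      rw [← congrFun (mem_stab.1 x.2) (εN n), conjG_apply]
      exact congrArg (θ : N → ℂ) (Subtype.ext rfl)
  -- the inertia group inside `G`
  haveI : (N.subgroupOf G).Normal := hNn.comap G.subtype
  set Tg := T.subgroupOf G
  haveI : Fintype Tg := Fintype.ofFinite _
  haveI : Fintype (N.subgroupOf G) := Fintype.ofFinite _
  let εG : N.subgroupOf G ≃* N := Subgroup.subgroupOfEquivOfLe hNG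
  have hθG : Cfsg.IsIrrCharacter (N.subgroupOf G) ((θ : N → ℂ) ∘ εG) := IsIrrCharacter.comp_equiv θ.2 εG
  have hle : N.subgroupOf G ≤ Tg := fun x hx => hNT hx
  have hinert : IsInertia ((θ : N → ℂ) ∘ εG) Tg := by
    intro g
    constructor
    · intro hg h
      show (θ : N → ℂ) _ = (θ : N → ℂ) _
      rw [← congrFun (mem_stab.1 (show (g : X) ∈ T from hg)) (εG h), conjG_apply]
      exact congrArg (θ : N → ℂ) (Subtype.ext rfl)
    · intro h
      show (g : X) ∈ T
      refine mem_stab.2 (funext fun n => ?_)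
      have h1 := h (εG.symm n)
      simp only [Function.comp_apply, MulEquiv.apply_symm_apply] at h1
      rw [conjG_apply, ← h1]
      exact congrArg (θ : N → ℂ) (Subtype.ext rfl)
  let e : Tg ≃* G' :=
    { toFun := fun x => ⟨⟨((x : G) : X), x.2⟩, x.1.2⟩
      invFun := fun x => ⟨⟨((x : T) : X), x.2⟩, x.1.2⟩
      left_inv := fun _ => rfl
      right_inv := fun _ => rfl
      map_mul' := fun _ _ => rfl }
  set ψ : Tg → ℂ := (χ' : G' → ℂ) ∘ e with hψdef
  have hψ : Cfsg.IsIrrCharacter Tg ψ := IsIrrCharacter.comp_equiv χ'.2 e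
  have hψc : Cfsg.classInner (resLe hle ψ) ((θ : N → ℂ) ∘ εG) ≠ 0 := by
    let e2 : N.subgroupOf G ≃* N' := εG.trans εN.symm
    rw [show resLe hle ψ = ((χ' : G' → ℂ) ∘ Subgroup.inclusion hNG') ∘ e2 from
        funext fun h => congrArg (χ' : G' → ℂ) (Subtype.ext (Subtype.ext rfl)),
      show (θ : N → ℂ) ∘ εG = ((θ : N → ℂ) ∘ εN) ∘ e2 from funext fun h => by simp [e2],
      classInner_reindex]
    exact hχ'
  obtain ⟨hirr, hmult⟩ := indFun_inertia hle hθG hinert hψ hψc
  refine ⟨⟨Cfsg.indFun Tg ψ, hirr⟩, ?_, fun s hs => ?_⟩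
  · rw [← classInner_reindex εG]
    show Cfsg.classInner (fun h : N.subgroupOf G => Cfsg.indFun Tg ψ h) _ ≠ 0
    rw [hmult]
    exact hψc
  · funext g
    have hsT : s ∈ T := hST hs
    refine (Glauberman.InvConst.indFun_apply_equiv Tg ψ (MulAut.conjNormal s : MulAut G)
      (fun x hx => ?_) (fun t t' ht => ?_) g)
    · show s * (x : X) * s⁻¹ ∈ T
      exact T.mul_mem (T.mul_mem hsT hx) (T.inv_mem hsT)
    · show (χ' : G' → ℂ) (e t') = (χ' : G' → ℂ) (e t)
      rw [← congrFun (hinv' ⟨s, hsT⟩) (e t), conjG_apply]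
      refine congrArg (χ' : G' → ℂ) (Subtype.ext (Subtype.ext ?_))
      show (((t' : G)) : X) = s * ((t : G) : X) * s⁻¹
      rw [ht]; rfl

end CfsgLib.CharDeep.InvariantPairs
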