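import Cfsg.Agent.S0867
import Cfsg.Agent.Lib.Blocks.BrauerMap
import Cfsg.Agent.Lib.Blocks.Basic
import Cfsg.Agent.Lib.Char.Induced
import Cfsg.Agent.Lib.Char.Linear
import Cfsg.Agent.Lib.DegreeTools.KerTools
import Cfsg.Agent.Lib.DegreeTools.Basic
import Cfsg.Agent.Lib.Fusion.Tate
import Cfsg.Agent.Lib.Solvable.FrattiniFitting
import Cfsg.Agent.Lib.CharDeep.Glauberman.Subgroups
import Cfsg.Agent.Lib.CharDeep.Glauberman.Correspondence

/-!
# The intersection of the kernels of the characters of degree prime to `p`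
-/

set_option autoImplicit false

namespace CfsgLib.CharDeep.PrimeDegreeKernel

open CfsgLib CfsgLib.Blocks CfsgLib.CharDeep.Glauberman
open scoped Classical ComplexConjugate

variable {G : Type*} [Group G] {p : ℕ}

/-- A character of degree prime to `p` has a constituent of degree prime to `p`. -/
theorem exists_constituent_not_dvd [Fintype G] {χ : G → ℂ} (hχ : Cfsg.IsCharacter G χ) {n : ℕ}
    (hn : χ 1 = n) (hp : ¬ p ∣ n) :
    ∃ φ : Cfsg.IrrCharacter G,
      Cfsg.classInner χ (φ : G → ℂ) ≠ 0 ∧ ¬ p ∣ Cfsg.charDegree (φ : G → ℂ) := by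
  obtain ⟨m, hm, hexp⟩ := Char.IsCharacter.exists_multiplicity hχ
  by_contra hcon
  push Not at hcon
  refine hp ?_
  have hsum : n = ∑ φ : Cfsg.IrrCharacter G, m φ * Cfsg.charDegree (φ : G → ℂ) := by
    apply Nat.cast_injective (R := ℂ)
    rw [← hn, hexp 1]
    push_cast
    exact Finset.sum_congr rfl fun φ _ => by rw [DegreeTools.deg_cast]
  rw [hsum]
  refine Finset.dvd_sum fun φ _ => ?_
  by_cases h0 : m φ = 0
  · simp [h0]
  · exact dvd_mul_of_dvd_right (hcon φ (by rw [hm]; exact_mod_cast h0)) _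

variable [Finite G]

/-- An element of `P` killed by all linear characters of `P` lies in its commutator subgroup. -/
theorem mem_commutator_of_forall_hom (u : G)
    (h : ∀ f : G →* ℂˣ, f u = 1) : u ∈ commutator G := by
  haveI : Finite (Abelianization G) := Finite.of_surjective Abelianization.of
    (QuotientGroup.mk'_surjective _)
  cases nonempty_fintype (Abelianization G)
  rw [← Abelianization.ker_of, MonoidHom.mem_ker]
  refine Char.eq_one_of_forall_irr fun χ => ?_
  obtain ⟨f, hf⟩ := Char.exists_hom_of_apply_one_eq_one (Char.isCharacter_irr χ)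
    (Char.apply_one_eq_one_of_comm (fun a b => mul_comm a b) χ.2)
  have h1 := h (f.comp Abelianization.of)
  rw [MonoidHom.comp_apply] at h1
  simp [hf, h1]

variable [Fintype G] [Fact p.Prime] (P : Sylow p G) {M : Ideal Cfsg.AlgInt}

/-- Conjugation by `P` on a normal subgroup. -/
noncomputable def sylAct (H : Subgroup G) [hH : H.Normal] : (P : Subgroup G) →* MulAut H :=
  subAct (G := H) (S := (P : Subgroup G)) fun s _ g hg => hH.conj_mem g hg s

theorem sylAct_apply (H : Subgroup G) [H.Normal] (s : (P : Subgroup G)) (x : H) :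
    (sylAct P H s x : G) = s * x * (s : G)⁻¹ := subAct_apply _ s x

/-- A normal subgroup on which `P` acts without fixed points has order prime to `p`. -/
theorem not_dvd_card (H : Subgroup G) [H.Normal]
    (h : H ⊓ Subgroup.centralizer ((P : Subgroup G) : Set G) = ⊥) : ¬ p ∣ Nat.card H := by
  letI : MulAction (P : Subgroup G) H := MulAction.compHom H (sylAct P H)
  have h1 : ∀ x ∈ MulAction.fixedPoints (P : Subgroup G) H, x = 1 := fun x hx => by
    have h2 : (x : G) ∈ H ⊓ Subgroup.centralizer ((P : Subgroup G) : Set G) := by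
      refine ⟨x.2, Subgroup.mem_centralizer_iff.2 fun s hs => ?_⟩
      have h3 : ((⟨s, hs⟩ : (P : Subgroup G)) • x : H) = x := hx ⟨s, hs⟩
      have h4 : s * (x : G) * s⁻¹ = x := by
        rw [← sylAct_apply P H ⟨s, hs⟩ x]
        exact congrArg Subtype.val h3
      calc s * (x : G) = s * x * s⁻¹ * s := by simp
        _ = x * s := by rw [h4]
    rw [h, Subgroup.mem_bot] at h2
    exact Subtype.ext h2
  have hcard : Nat.card (MulAction.fixedPoints (P : Subgroup G) H) = 1 := by
    rw [Nat.card_eq_one_iff_unique]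
    refine ⟨⟨fun a b => Subtype.ext ((h1 _ a.2).trans (h1 _ b.2).symm)⟩, ⟨⟨1, fun s => ?_⟩⟩⟩
    exact map_one (sylAct P H s)
  have h5 := P.2.card_modEq_card_fixedPoints (α := H)
  rw [hcard] at h5
  intro hd
  exact (Fact.out : p.Prime).not_dvd_one ((Nat.ModEq.dvd_iff h5 (dvd_refl p)).1 hd)

/-- A character of degree prime to `p` is trivial on such a subgroup. -/
theorem apply_eq_one_of_fixedPointFree (hM : Cfsg.IsPModular p M) (H : Subgroup G) [H.Normal]
    (h : H ⊓ Subgroup.centralizer ((P : Subgroup G) : Set G) = ⊥) (χ : Cfsg.IrrCharacter G)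
    (hd : ¬ p ∣ Cfsg.charDegree (χ : G → ℂ)) :
    ∀ x ∈ H, (χ : G → ℂ) x = (χ : G → ℂ) 1 := by
  letI : MulAction (P : Subgroup G) H := MulAction.compHom H (sylAct P H)
  refine DegreeTools.le_ker_of_sum_ne_zero χ H fun h0 => hd ?_
  have hsum := sum_congr_fixedPoints hM P.2 (Ω := H) (fun x => (χ : G → ℂ) x)
    (fun x => LR.of_isIntegral hM (irr_isIntegral χ _)) fun u x => by
      show (χ : G → ℂ) (sylAct P H u x : H) = _
      rw [sylAct_apply]
      exact Char.IsCharacter.isClassFunction (Char.isCharacter_irr χ) (x : G) (u : G)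
  have hf : (Finset.univ.filter fun x : H => x ∈ MulAction.fixedPoints (P : Subgroup G) H) = {1} := by
    ext x
    simp only [Finset.mem_filter, Finset.mem_univ, true_and, Finset.mem_singleton]
    constructor
    · intro hx
      have h2 : (x : G) ∈ H ⊓ Subgroup.centralizer ((P : Subgroup G) : Set G) := by
        refine ⟨x.2, Subgroup.mem_centralizer_iff.2 fun s hs => ?_⟩
        have h3 : ((⟨s, hs⟩ : (P : Subgroup G)) • x : H) = x := hx ⟨s, hs⟩
        have h4 : s * (x : G) * s⁻¹ = x := by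
          rw [← sylAct_apply P H ⟨s, hs⟩ x]
          exact congrArg Subtype.val h3
        calc s * (x : G) = s * x * s⁻¹ * s := by simp
          _ = x * s := by rw [h4]
      rw [h, Subgroup.mem_bot] at h2
      exact Subtype.ext h2
    · rintro rfl s
      exact map_one (sylAct P H s)
  rw [h0, hf, Finset.sum_singleton, OneMemClass.coe_one, ← DegreeTools.deg_cast, zero_sub] at hsum
  exact (LI.natCast_iff hM _).1 (by simpa using LI.neg hsum)

/-- A character of degree prime to `p` has a nonzero sum over any normal subgroup between `N` and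
`N ⊔ P'`, when it is trivial on `N` and `N` meets `P` trivially. -/
theorem sum_ne_zero (N R : Subgroup G) [N.Normal] [R.Normal]
    (hNP : N ⊓ (P : Subgroup G) = ⊥) (hNR : N ≤ R)
    (hR : R ≤ N ⊔ ⁅(P : Subgroup G), (P : Subgroup G)⁆) (χ : Cfsg.IrrCharacter G)
    (hd : ¬ p ∣ Cfsg.charDegree (χ : G → ℂ))
    (hN : ∀ x ∈ N, (χ : G → ℂ) x = (χ : G → ℂ) 1) : ∑ x : R, (χ : G → ℂ) x ≠ 0 := by
  set S := R ⊓ ⁅(P : Subgroup G), (P : Subgroup G)⁆
  have hPP : ⁅(P : Subgroup G), (P : Subgroup G)⁆ ≤ (P : Subgroup G) :=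
    Subgroup.commutator_le.2 fun a ha b hb => by
      rw [commutatorElement_def]
      exact mul_mem (mul_mem (mul_mem ha hb) (inv_mem ha)) (inv_mem hb)
  have hSP : S ≤ (P : Subgroup G) := inf_le_right.trans hPP
  let e : N × S → R := fun x => ⟨(x.1 : G) * x.2, mul_mem (hNR x.1.2) x.2.2.1⟩
  have he : Function.Bijective e := by
    constructor
    · rintro ⟨a, b⟩ ⟨a', b'⟩ hab
      have h1 : (a : G) * b = a' * b' := congrArg Subtype.val hab
      have h2 : (a' : G)⁻¹ * a = b' * (b : G)⁻¹ := by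
        calc (a' : G)⁻¹ * a = (a' : G)⁻¹ * (a * b) * (b : G)⁻¹ := by simp [mul_assoc]
          _ = b' * (b : G)⁻¹ := by rw [h1]; simp [mul_assoc]
      have h3 : (a' : G)⁻¹ * a ∈ N ⊓ (P : Subgroup G) := Subgroup.mem_inf.2
        ⟨mul_mem (inv_mem a'.2) a.2, by rw [h2]; exact mul_mem (hSP b'.2) (inv_mem (hSP b.2))⟩
      rw [hNP, Subgroup.mem_bot, inv_mul_eq_one] at h3
      obtain rfl : a' = a := Subtype.ext h3
      simp only [Prod.mk.injEq, true_and]
      exact Subtype.ext (mul_left_cancel h1)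
    · intro x
      obtain ⟨a, ha, b, hb, hab⟩ := Subgroup.mem_sup_of_normal_left.1 (hR x.2)
      have hbR : b ∈ R := by
        have : b = a⁻¹ * x := by rw [← hab]; simp
        rw [this]
        exact mul_mem (inv_mem (hNR ha)) x.2
      exact ⟨(⟨a, ha⟩, ⟨b, hbR, hb⟩), Subtype.ext hab⟩
  rw [← he.sum_comp, Fintype.sum_prod_type]
  have hterm : ∀ (a : N) (b : S), (χ : G → ℂ) (e (a, b)) = (χ : G → ℂ) b := fun a b =>
    Char.IsCharacter.apply_mul_of_mem_ker (Char.isCharacter_irr χ) (hN a a.2) _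
  simp only [hterm, Finset.sum_const, Finset.card_univ, nsmul_eq_mul]
  refine mul_ne_zero (Nat.cast_ne_zero.2 Fintype.card_ne_zero) ?_
  -- a linear constituent of the restriction to `P`
  set res : ↥(P : Subgroup G) → ℂ := (χ : G → ℂ) ∘ (P : Subgroup G).subtype with hres
  have hresC : Cfsg.IsCharacter (P : Subgroup G) res :=
    Char.IsCharacter.comp (Char.isCharacter_irr χ) _
  obtain ⟨φ, hφ, hφd⟩ := exists_constituent_not_dvd (p := p) hresC
    (n := Cfsg.charDegree (χ : G → ℂ)) (by rw [DegreeTools.deg_cast]; rfl) hd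
  have hφ1 : (φ : ↥(P : Subgroup G) → ℂ) 1 = 1 := by
    rw [← DegreeTools.deg_eq_one_iff]
    obtain ⟨k, hk⟩ := P.2.exists_card_eq
    have hdvd := DegreeTools.deg_dvd_card φ
    rw [hk] at hdvd
    obtain ⟨i, -, hi⟩ := (Nat.dvd_prime_pow Fact.out).1 hdvd
    rw [hi]
    rcases Nat.eq_zero_or_pos i with rfl | hpos
    · exact pow_zero p
    · exact absurd (hi ▸ dvd_pow_self p hpos.ne') hφd
  obtain ⟨f, hf⟩ := Char.exists_hom_of_apply_one_eq_one (Char.isCharacter_irr φ) hφ1
  obtain ⟨m, hm, hexp⟩ := Char.IsCharacter.exists_multiplicity hresC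
  let ι : S →* ↥(P : Subgroup G) := Subgroup.inclusion hSP
  have hone : ∀ ψ : Cfsg.IrrCharacter (P : Subgroup G), ∃ k : ℕ,
      ∑ b : S, (ψ : ↥(P : Subgroup G) → ℂ) (ι b) = (Nat.card S : ℂ) * k := fun ψ => by
    obtain ⟨k, hk⟩ := Char.IsCharacter.classInner_nat
      (Char.IsCharacter.comp (Char.isCharacter_irr ψ) ι) (Char.isCharacter_irr (trivChar S))
    refine ⟨k, ?_⟩
    rw [← hk, Cfsg.classInner, ← mul_assoc, mul_inv_cancel₀ Char.card_ne_zero, one_mul]
    exact Finset.sum_congr rfl fun b _ => by simp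
  choose k hk using hone
  have hkφ : k φ = 1 := by
    have h1 := hk φ
    have h2 : ∀ b : S, (φ : ↥(P : Subgroup G) → ℂ) (ι b) = 1 := fun b => by
      have hb : (ι b : (P : Subgroup G)) ∈ commutator (P : Subgroup G) := by
        have := b.2.2
        rw [← Subgroup.map_subtype_commutator] at this
        obtain ⟨y, hy, hyb⟩ := this
        rwa [show ι b = y from Subtype.ext hyb.symm]
      rw [hf]
      have h3 : f (ι b) = 1 := Abelianization.commutator_subset_ker f hb
      simp [h3]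
    simp only [h2, Finset.sum_const, Finset.card_univ, nsmul_eq_mul, mul_one,
      ← Nat.card_eq_fintype_card] at h1
    exact_mod_cast (mul_left_cancel₀ Char.card_ne_zero (by rw [mul_one]; exact h1.symm) :
      (k φ : ℂ) = 1)
  have hsum : ∑ b : S, (χ : G → ℂ) b
      = (Nat.card S : ℂ) * ((∑ ψ, m ψ * k ψ : ℕ) : ℂ) := by
    have : ∀ b : S, (χ : G → ℂ) b
        = ∑ ψ : Cfsg.IrrCharacter (P : Subgroup G), (m ψ : ℂ) * (ψ : _ → ℂ) (ι b) :=
      fun b => hexp (ι b)
    simp only [this]
    rw [Finset.sum_comm, Nat.cast_sum, Finset.mul_sum]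
    refine Finset.sum_congr rfl fun ψ _ => ?_
    rw [← Finset.mul_sum, hk]
    push_cast
    ring
  rw [hsum]
  refine mul_ne_zero Char.card_ne_zero (Nat.cast_ne_zero.2 fun h0 => hφ ?_)
  have h1 := Finset.sum_eq_zero_iff.1 h0 φ (Finset.mem_univ _)
  rw [hkφ, mul_one] at h1
  rw [hm, h1, Nat.cast_zero]

/-- The elements in the kernel of all characters of degree prime to `p`. -/
def kerSub (p : ℕ) (G : Type*) [Group G] [Finite G] : Subgroup G :=
  ⨅ χ : {χ : Cfsg.IrrCharacter G // ¬ p ∣ Cfsg.charDegree (χ : G → ℂ)},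
    Char.charKer (Char.isCharacter_irr χ.1)

omit [Fintype G] [Fact p.Prime] in
theorem mem_kerSub {g : G} : g ∈ kerSub p G ↔ ∀ χ : Cfsg.IrrCharacter G,
    ¬ p ∣ Cfsg.charDegree (χ : G → ℂ) → (χ : G → ℂ) g = (χ : G → ℂ) 1 := by
  simp [kerSub, Subgroup.mem_iInf, Subtype.forall]

omit [Fintype G] [Fact p.Prime] in
theorem kerSub_normal : (kerSub p G).Normal :=
  Subgroup.normal_iInf_normal fun _ => Char.charKer_normal _

theorem kerSub_inf_le : kerSub p G ⊓ (P : Subgroup G) ≤ ⁅(P : Subgroup G), (P : Subgroup G)⁆ := by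
  rintro u ⟨huK, huP⟩
  rw [← Subgroup.map_subtype_commutator]
  refine ⟨⟨u, huP⟩, mem_commutator_of_forall_hom _ fun f => ?_, rfl⟩
  set θ : ↥(P : Subgroup G) → ℂ := fun x => (f x : ℂ) with hθ
  have hθc : Cfsg.IsCharacter (P : Subgroup G) θ := Char.isCharacter_hom f
  obtain ⟨χ, hχ, hχd⟩ := exists_constituent_not_dvd (p := p) (Char.IsCharacter.indFun _ hθc)
    (n := (P : Subgroup G).index) (by rw [Char.indFun_one]; simp [hθ]) P.not_dvd_index
  rw [Char.classInner_indFun _ _ (Char.IsCharacter.isClassFunction (Char.isCharacter_irr χ))] at hχ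
  have hresC : Cfsg.IsCharacter (P : Subgroup G) fun h => (χ : G → ℂ) h :=
    Char.IsCharacter.comp (Char.isCharacter_irr χ) (P : Subgroup G).subtype
  rw [Char.IsCharacter.classInner_comm hθc hresC] at hχ
  have h1 := Char.IsCharacter.constituent_apply_eq_one hresC (Char.isIrrCharacter_hom f) hχ
    (g := (⟨u, huP⟩ : (P : Subgroup G)))
    (by simpa using mem_kerSub.1 huK χ hχd)
  simpa using h1

/-- A `P`-invariant irreducible character of a normal `p'`-subgroup contained in all these kernels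
is trivial. -/
theorem eq_one_of_invariant (O : Subgroup G) [O.Normal] (hO : ¬ p ∣ Nat.card O)
    (hOK : O ≤ kerSub p G) (θ : Cfsg.IrrCharacter O)
    (hinv : Inv (sylAct P O) (θ : O → ℂ)) (x : O) : (θ : O → ℂ) x = (θ : O → ℂ) 1 := by
  set H := O ⊔ (P : Subgroup G)
  have hOH : O ≤ H := le_sup_left
  set φ := Subgroup.subgroupOfEquivOfLe hOH
  set ϑ : O.subgroupOf H → ℂ := (θ : O → ℂ) ∘ φ with hϑ
  have hϑi : Cfsg.IsIrrCharacter (O.subgroupOf H) ϑ := Char.IsIrrCharacter.comp_equiv θ.2 φ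
  obtain ⟨d, -, hd⟩ := Char.IsIrrCharacter.apply_one_eq hϑi
  have hcardO : Nat.card (O.subgroupOf H) = Nat.card O := Nat.card_congr φ.toEquiv
  have hdd : d ∣ Nat.card O := by
    obtain ⟨n, hn, hdvd⟩ := Char.IsIrrCharacter.apply_one_dvd_card hϑi
    rw [hd] at hn
    rw [Nat.cast_injective hn, ← hcardO]
    exact hdvd
  have hdet : Cfsg.detOrder ϑ ∣ Nat.card O := by
    obtain ⟨k, ρ, hρ, hρc⟩ := hϑi
    rw [← hρc, Cfsg.detOrder, DetExt.detChar_character ρ, orderOf_dvd_iff_pow_eq_one, ← hcardO]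
    funext g
    rw [Pi.pow_apply, ← map_pow, ← map_pow, pow_card_eq_one', map_one, map_one]
    rfl
  have hidx : (O.subgroupOf H).index ∣ Nat.card (P : Subgroup G) := by
    show O.relIndex H ∣ _
    rw [show H = (P : Subgroup G) ⊔ O from sup_comm _ _, Subgroup.relIndex_sup_right]
    exact Subgroup.relIndex_dvd_card _ _
  have hcop : Nat.Coprime (O.subgroupOf H).index (Cfsg.detOrder ϑ * d) := by
    obtain ⟨k, hk⟩ := P.2.exists_card_eq
    refine Nat.Coprime.coprime_dvd_left (hk ▸ hidx) (Nat.Coprime.pow_left k ?_)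
    have hpO : Nat.Coprime p (Nat.card O) := (Nat.Prime.coprime_iff_not_dvd Fact.out).2 hO
    exact Nat.Coprime.mul_right (hpO.coprime_dvd_right hdet) (hpO.coprime_dvd_right hdd)
  have hinvH : ∀ (g : H) (n : O.subgroupOf H),
      ϑ ⟨g * n * g⁻¹, (inferInstance : (O.subgroupOf H).Normal).conj_mem (n : H) n.2 g⟩ = ϑ n := by
    intro g n
    obtain ⟨a, ha, b, hb, hab⟩ := Subgroup.mem_sup_of_normal_left.1 g.2
    have h1 := hinv ⟨b, hb⟩ (φ n)
    have h2 := Char.IsIrrCharacter.isClassFunction θ.2 (sylAct P O ⟨b, hb⟩ (φ n)) ⟨a, ha⟩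
    simp only [hϑ, Function.comp_apply]
    rw [← h1, ← h2]
    refine congrArg (θ : O → ℂ) (Subtype.ext ?_)
    simp only [φ, Subgroup.subgroupOfEquivOfLe_apply_coe, Subgroup.coe_mul, Subgroup.coe_inv,
      sylAct_apply, ← hab]
    simp [mul_assoc]
  obtain ⟨χ₁, ⟨hχ₁, hres, -⟩, -⟩ :=
    Cfsg.Agent.S0867.result (O.subgroupOf H) ϑ hϑi hinvH d hd hcop
  have hHd : ¬ p ∣ H.index * d := by
    intro h
    rcases (Nat.Prime.dvd_mul Fact.out).1 h with h | h
    · exact P.not_dvd_index (h.trans (Subgroup.index_dvd_of_le le_sup_right))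
    · exact hO (h.trans hdd)
  obtain ⟨χ, hχ, hχd⟩ := exists_constituent_not_dvd (p := p)
    (Char.IsCharacter.indFun _ (Char.IsIrrCharacter.isCharacter hχ₁)) (n := H.index * d) (by
      rw [Char.indFun_one]
      push_cast
      rw [← hd, ← hres 1, OneMemClass.coe_one]) hHd
  rw [Char.classInner_indFun _ _ (Char.IsCharacter.isClassFunction (Char.isCharacter_irr χ))] at hχ
  have hresC : Cfsg.IsCharacter H fun h => (χ : G → ℂ) h :=
    Char.IsCharacter.comp (Char.isCharacter_irr χ) H.subtype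
  rw [Char.IsCharacter.classInner_comm (Char.IsIrrCharacter.isCharacter hχ₁) hresC] at hχ
  have h1 := Char.IsCharacter.constituent_apply_eq_one hresC hχ₁ hχ
    (g := ((φ.symm x : O.subgroupOf H) : H)) (by
      have h2 : (((φ.symm x : O.subgroupOf H) : H) : G) = x := by
        conv_rhs => rw [← φ.apply_symm_apply x]
        rfl
      rw [h2, OneMemClass.coe_one]
      exact mem_kerSub.1 (hOK x.2) χ hχd)
  have h3 := hres 1
  rw [OneMemClass.coe_one] at h3
  rw [hres (φ.symm x), h3] at h1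
  simpa [hϑ] using h1

/-- Such a subgroup has no nontrivial fixed point of `P`. -/
theorem inf_centralizer_eq_bot (hM : Cfsg.IsPModular p M) (O : Subgroup G) [O.Normal]
    (hO : ¬ p ∣ Nat.card O) (hOK : O ≤ kerSub p G) :
    O ⊓ Subgroup.centralizer ((P : Subgroup G) : Set G) = ⊥ := by
  rw [Subgroup.eq_bot_iff_forall]
  rintro c ⟨hcO, hcP⟩
  by_contra hne
  letI : MulAction (P : Subgroup G) (Cfsg.IrrCharacter O) :=
    MulAction.compHom _ (irrPerm (sylAct P O))
  have hfix : ∀ s : (P : Subgroup G), (sylAct P O s).symm ⟨c, hcO⟩ = ⟨c, hcO⟩ := fun s => by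
    rw [MulEquiv.symm_apply_eq]
    refine Subtype.ext ?_
    rw [sylAct_apply, Subgroup.mem_centralizer_iff.1 hcP s s.2, mul_inv_cancel_right]
  have hsum := sum_congr_fixedPoints hM P.2 (Ω := Cfsg.IrrCharacter O)
    (fun θ => (θ : O → ℂ) 1 * (θ : O → ℂ) ⟨c, hcO⟩)
    (fun θ => LR.mul hM (LR.of_isIntegral hM (irr_isIntegral θ _))
      (LR.of_isIntegral hM (irr_isIntegral θ _))) fun s θ => by
      show ((irrPerm (sylAct P O) s θ : Cfsg.IrrCharacter O) : O → ℂ) 1
        * ((irrPerm (sylAct P O) s θ : Cfsg.IrrCharacter O) : O → ℂ) ⟨c, hcO⟩ = _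
      rw [irrPerm_apply, irrPerm_apply, map_one, hfix]
  rw [Char.regular_eq_sum_irr, if_neg (fun h => hne (congrArg Subtype.val h))] at hsum
  have hone : ∀ θ : Cfsg.IrrCharacter O,
      θ ∈ MulAction.fixedPoints (P : Subgroup G) (Cfsg.IrrCharacter O) → θ = trivChar O := by
    intro θ hθ
    have h1 := eq_one_of_invariant P O hO hOK θ (irrPerm_fixed_iff.1 hθ)
    refine Subtype.ext (funext fun x => ?_)
    have h2 := Char.classInner_irr_self θ.2
    rw [Cfsg.classInner] at h2
    simp only [h1, Finset.sum_const, Finset.card_univ, nsmul_eq_mul,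
      ← Nat.card_eq_fintype_card] at h2
    rw [inv_mul_cancel_left₀ Char.card_ne_zero] at h2
    obtain ⟨n, -, hn⟩ := Char.IsIrrCharacter.apply_one_eq θ.2
    rw [hn, map_natCast] at h2
    rw [h1 x, hn, trivChar_apply]
    exact_mod_cast (mul_eq_one.1 (show n * n = 1 by exact_mod_cast h2)).1
  have hf : (Finset.univ.filter fun θ : Cfsg.IrrCharacter O =>
      θ ∈ MulAction.fixedPoints (P : Subgroup G) (Cfsg.IrrCharacter O)) = {trivChar O} := by
    ext θ
    simp only [Finset.mem_filter, Finset.mem_univ, true_and, Finset.mem_singleton]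
    refine ⟨hone θ, ?_⟩
    rintro rfl
    exact irrPerm_fixed_iff.2 fun s g => by simp
  rw [hf, Finset.sum_singleton] at hsum
  exact LI.not_one hM (by simpa using LI.neg hsum)

/-- The intersection of the kernels lies in `N ⊔ P'`. -/
theorem kerSub_le (hM : Cfsg.IsPModular p M) (N : Subgroup G)
    (hmax : ∀ L : Subgroup G, L.Normal →
      L ⊓ Subgroup.centralizer ((P : Subgroup G) : Set G) = ⊥ → L ≤ N) :
    kerSub p G ≤ N ⊔ ⁅(P : Subgroup G), (P : Subgroup G)⁆ := by
  haveI := kerSub_normal (p := p) (G := G)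
  haveI : Group.IsNilpotent (P : Subgroup G) := P.2.isNilpotent
  have hfr : kerSub p G ⊓ (P : Subgroup G) ≤ (frattini P).map (P : Subgroup G).subtype := by
    refine (kerSub_inf_le P).trans ?_
    rw [← Subgroup.map_subtype_commutator]
    exact Subgroup.map_mono CfsgLib.Solvable.FrattiniFitting.commutator_le_frattini
  obtain ⟨Q, O, hO, hcompl⟩ := Fusion.Tate.npc_of_normal_inf_le_frattini P (kerSub p G) hfr
  have hcard := hcompl.card_mul_card
  have hOp : ¬ p ∣ Nat.card O := by
    intro h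
    refine Q.not_dvd_index ?_
    rw [hcompl.index_eq_card]
    exact h
  haveI : O.Normal := hO
  haveI : O.Characteristic := by
    refine Subgroup.characteristic_iff_comap_eq.2 fun α => ?_
    refine Subgroup.eq_of_le_of_card_ge (fun x hx => ?_) ?_
    · -- the elements of order prime to `p` all lie in `O`
      have hx' : α x ∈ O := hx
      have h1 : orderOf x ∣ Nat.card O := by
        have h2 : orderOf (α x) ∣ Nat.card O := by
          have := orderOf_dvd_natCard (⟨α x, hx'⟩ : O)
          rwa [Subgroup.orderOf_mk] at this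
        rwa [MulEquiv.orderOf_eq] at h2
      have h3 : orderOf (QuotientGroup.mk' O x) ∣ Nat.card O := (orderOf_map_dvd _ x).trans h1
      have h4 : orderOf (QuotientGroup.mk' O x) ∣ O.index := orderOf_dvd_natCard _
      rw [← QuotientGroup.eq_one_iff, ← orderOf_eq_one_iff]
      refine Nat.eq_one_of_dvd_coprimes ?_ h3 h4
      rw [hcompl.symm.index_eq_card]
      obtain ⟨k, hk⟩ := Q.2.exists_card_eq
      rw [hk]
      exact Nat.Coprime.pow_right k ((Nat.Prime.coprime_iff_not_dvd Fact.out).2 hOp).symm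
    · exact (Nat.card_congr (α.toEquiv.subtypeEquiv (p := fun x => α x ∈ O) (q := fun x => x ∈ O)
        fun _ => Iff.rfl)).symm.le
  haveI : (O.map (kerSub p G).subtype).Normal := inferInstance
  have hO'K : O.map (kerSub p G).subtype ≤ kerSub p G := Subgroup.map_subtype_le O
  have hON : O.map (kerSub p G).subtype ≤ N :=
    hmax _ inferInstance (inf_centralizer_eq_bot P hM _ (by
      rw [Subgroup.card_map_of_injective (Subgroup.subtype_injective _)]; exact hOp) hO'K)
  have hQP : Nat.card Q = Nat.card (kerSub p G ⊓ (P : Subgroup G) : Subgroup G) := by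
    obtain ⟨R, hR⟩ : ∃ R : Sylow p (kerSub p G),
        (R : Subgroup (kerSub p G)) = (kerSub p G ⊓ (P : Subgroup G)).subgroupOf (kerSub p G) :=
      ⟨Fusion.Basic.sylowSubgroupOf inf_le_left (P.2.to_le inf_le_right) (by
        rw [inf_comm]
        exact Fusion.Basic.not_dvd_relIndex_of_normal P _), rfl⟩
    rw [Sylow.card_eq_multiplicity Q, ← Sylow.card_eq_multiplicity R, hR,
      Nat.card_congr (Subgroup.subgroupOfEquivOfLe inf_le_left).toEquiv]
  have hle : O.map (kerSub p G).subtype ⊔ (kerSub p G ⊓ (P : Subgroup G)) ≤ kerSub p G :=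
    sup_le hO'K inf_le_left
  have heq := Subgroup.eq_of_le_of_card_ge hle (by
    have h1 : Nat.card O ∣ Nat.card (O.map (kerSub p G).subtype
        ⊔ (kerSub p G ⊓ (P : Subgroup G)) : Subgroup G) := by
      rw [← Subgroup.card_map_of_injective (K := O) (Subgroup.subtype_injective (kerSub p G))]
      exact Subgroup.card_dvd_of_le le_sup_left
    have h2 : Nat.card Q ∣ Nat.card (O.map (kerSub p G).subtype
        ⊔ (kerSub p G ⊓ (P : Subgroup G)) : Subgroup G) := by
      rw [hQP]; exact Subgroup.card_dvd_of_le le_sup_right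
    rw [← hcard]
    refine Nat.le_of_dvd Nat.card_pos (Nat.Coprime.mul_dvd_of_dvd_of_dvd ?_ h1 h2)
    obtain ⟨k, hk⟩ := Q.2.exists_card_eq
    rw [hk]
    exact Nat.Coprime.pow_right k ((Nat.Prime.coprime_iff_not_dvd Fact.out).2 hOp).symm)
  rw [← heq]
  exact sup_le (hON.trans le_sup_left) ((kerSub_inf_le P).trans le_sup_right)

end CfsgLib.CharDeep.PrimeDegreeKernel
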