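import Cfsg.Agent.Lib.Involution.ZStar.PrincipalBlock
import Cfsg.Agent.Lib.Blocks.Eigen
import Cfsg.Agent.Lib.DegreeTools.Basic
import Cfsg.Agent.Lib.Recognition.OneToFive.Basic
import Cfsg.Agent.Lib.Components.Signalizer.Basic

/-!
# Kazarin's theorem: a conjugacy class of prime power size generates a solvable subgroup

For an element `x` of `r`-power order with `p ≠ r` the principal `r`-block gives the contradiction:
its non-linear characters have degree divisible by `p`, and weak block orthogonality at an
`r`-element of `G'` makes the number of linear characters, a power of `r`, divisible by `p`.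
-/

set_option autoImplicit false

namespace CfsgLib.CharDeep.PrimePowerClass

open Cfsg CfsgLib.Char
open CfsgLib.Blocks hiding trivChar
open scoped Classical commutatorElement

variable {G : Type*} [Group G] [Finite G]

/-- If the class of `x` has `p`-power size, a Sylow `p`-subgroup is transitive on it. -/
theorem exists_mem_sylow_conj {x : G} {p k : ℕ} [hp : Fact p.Prime]
    (hx : (Subgroup.centralizer ({x} : Set G)).index = p ^ k) (P : Sylow p G) (g : G) :
    ∃ q ∈ (P : Subgroup G), g * x * g⁻¹ = q * x * q⁻¹ := by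
  set C := Subgroup.centralizer ({x} : Set G)
  set C' := C.subgroupOf (P : Subgroup G)
  have hC' : Nat.card C' ∣ Nat.card C := by
    rw [← Subgroup.card_subtype, Subgroup.subgroupOf_map_subtype]
    exact Subgroup.card_dvd_of_le inf_le_left
  let f : (P : Subgroup G) ⧸ C' → G ⧸ C :=
    Quotient.map' (fun q => (q : G)) fun a b h => by
      rw [QuotientGroup.leftRel_apply] at h ⊢
      exact h
  have hinj : Function.Injective f := by
    intro a b
    induction a using QuotientGroup.induction_on
    induction b using QuotientGroup.induction_on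
    intro h
    exact QuotientGroup.eq.2 (QuotientGroup.eq (s := C).1 h)
  have hcard : Nat.card (G ⧸ C) ≤ Nat.card ((P : Subgroup G) ⧸ C') := by
    change C.index ≤ C'.index
    rw [hx]
    have hidx : C'.index ∣ Nat.card (P : Subgroup G) := C'.index_dvd_card
    rw [Sylow.card_eq_multiplicity] at hidx
    obtain ⟨j, -, hj⟩ := (Nat.dvd_prime_pow hp.out).1 hidx
    have h1 := C'.card_mul_index
    rw [Sylow.card_eq_multiplicity, hj] at h1
    have h2 : (Nat.card G).factorization p = (Nat.card C).factorization p + k := by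
      rw [← C.card_mul_index, hx, Nat.factorization_mul Nat.card_pos.ne' (pow_ne_zero _ hp.out.ne_zero),
        Finsupp.add_apply, hp.out.factorization_pow]
      simp
    have h3 : (Nat.card C').factorization p ≤ (Nat.card C).factorization p :=
      (Nat.factorization_le_iff_dvd Nat.card_pos.ne' Nat.card_pos.ne').2 hC' p
    have h4 := congrArg (fun n => n.factorization p) h1
    simp only [Nat.factorization_mul Nat.card_pos.ne' (pow_ne_zero _ hp.out.ne_zero), Finsupp.add_apply,
      hp.out.factorization_pow, Finsupp.single_eq_same] at h4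
    rw [hj]
    exact Nat.pow_le_pow_right hp.out.pos (by omega)
  have hsurj := ((Nat.bijective_iff_injective_and_card f).2
    ⟨hinj, le_antisymm (Nat.card_le_card_of_injective f hinj) hcard⟩).2
  obtain ⟨a, ha⟩ := hsurj (g : G)
  induction a using QuotientGroup.induction_on with
  | H q =>
    refine ⟨q, q.2, ?_⟩
    have h := Subgroup.mem_centralizer_singleton_iff.1 (QuotientGroup.eq (s := C).1 ha)
    calc g * x * g⁻¹ = (q : G) * ((q : G)⁻¹ * g * x) * g⁻¹ := by group
      _ = (q : G) * (x * ((q : G)⁻¹ * g)) * g⁻¹ := by rw [h]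
      _ = _ := by group

/-- Some Sylow `p`-subgroup is normalised by an `r`-element, if `G/G'` is an `r`-group and `r ∤ |G'|`. -/
theorem exists_invariant_sylow {x : G} {p r a j : ℕ} [hp : Fact p.Prime] [hr : Fact r.Prime]
    (hxa : orderOf x = r ^ a) (hidx : (commutator G).index = r ^ j) (hpr : p ≠ r)
    (hG' : ¬ r ∣ Nat.card (commutator G)) :
    ∃ P : Sylow p G, x ∈ Subgroup.normalizer ((P : Subgroup G) : Set G) := by
  obtain ⟨P⟩ := (inferInstance : Nonempty (Sylow p G))
  set N := Subgroup.normalizer ((P : Subgroup G) : Set G)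
  have hPG' : (P : Subgroup G) ≤ commutator G := by
    intro q hq
    obtain ⟨i, hi⟩ := P.isPGroup' ⟨q, hq⟩
    have h1 : (QuotientGroup.mk q : G ⧸ commutator G) ^ p ^ i = 1 := by
      rw [← QuotientGroup.mk_pow, show q ^ p ^ i = 1 from congrArg Subtype.val hi]; rfl
    have h2 : (QuotientGroup.mk q : G ⧸ commutator G) ^ r ^ j = 1 := by
      rw [← hidx]; exact pow_card_eq_one'
    have h3 := pow_gcd_eq_one.2 ⟨h1, h2⟩
    rw [Nat.Coprime.gcd_eq_one (Nat.Coprime.pow _ _ ((Nat.coprime_primes hp.out hr.out).2 hpr)),
      pow_one] at h3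
    exact (QuotientGroup.eq_one_iff q).1 h3
  have hsup : N ⊔ commutator G = ⊤ :=
    Sylow.normalizer_sup_eq_top' P hPG'
  have hrel : N.index ∣ Nat.card (commutator G) := by
    have h := Subgroup.relIndex_sup_left (K := commutator G) (H := N)
    rw [sup_comm, hsup, Subgroup.relIndex_top_right] at h
    have h1 : N.index * Nat.card N = Nat.card G := N.index_mul_card
    have h2 : (commutator G).index ∣ Nat.card N := h ▸ (commutator G).relIndex_dvd_card N
    obtain ⟨c, hc⟩ := h2
    rw [hc, ← (commutator G).card_mul_index] at h1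
    refine ⟨c, ?_⟩
    exact Nat.eq_of_mul_eq_mul_right (Nat.pos_of_ne_zero Subgroup.index_ne_zero_of_finite)
      (by rw [← h1]; ring)
  obtain ⟨R⟩ := (inferInstance : Nonempty (Sylow r N))
  have hRp : IsPGroup r ↥((R : Subgroup N).map N.subtype) := R.isPGroup'.map _
  have hRc : Nat.card ((R : Subgroup N).map N.subtype) = r ^ (Nat.card G).factorization r := by
    rw [Subgroup.card_subtype, Sylow.card_eq_multiplicity, ← N.card_mul_index,
      Nat.factorization_mul Nat.card_pos.ne' Subgroup.index_ne_zero_of_finite, Finsupp.add_apply,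
      Nat.factorization_eq_zero_of_not_dvd (fun h => hG' (h.trans hrel)), add_zero]
  obtain ⟨T, hT⟩ := (IsPGroup.of_card (show Nat.card (Subgroup.zpowers x) = r ^ a by
    rw [Nat.card_zpowers, hxa])).exists_le_sylow
  obtain ⟨g, hg⟩ := MulAction.exists_smul_eq G (Sylow.ofCard _ hRc) T
  refine ⟨g • P, ?_⟩
  have hx : x ∈ (T : Subgroup G) := hT (Subgroup.mem_zpowers x)
  rw [← hg, Sylow.coe_subgroup_smul, Sylow.coe_ofCard] at hx
  obtain ⟨y, hy, rfl⟩ := hx
  obtain ⟨z, -, rfl⟩ := hy
  refine Sylow.smul_eq_iff_mem_normalizer.1 ?_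
  have hz : (z : G) • P = P := Sylow.smul_eq_iff_mem_normalizer.2 z.2
  show (g * (z : G) * g⁻¹) • g • P = g • P
  rw [smul_smul, inv_mul_cancel_right, mul_smul, hz]

/-- The normal closure of `x` lies in every subgroup `⟨P, x⟩`. -/
theorem normalClosure_le {x : G} {p k : ℕ} [hp : Fact p.Prime]
    (hx : (Subgroup.centralizer ({x} : Set G)).index = p ^ k) (P : Sylow p G) :
    Subgroup.normalClosure ({x} : Set G) ≤ (P : Subgroup G) ⊔ Subgroup.zpowers x := by
  refine (Subgroup.closure_le _).2 fun y hy => ?_
  obtain ⟨g, hg⟩ : ∃ g, g * x * g⁻¹ = y := by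
    obtain ⟨a, ha, hay⟩ := Group.mem_conjugatesOfSet_iff.1 hy
    rw [Set.mem_singleton_iff.1 ha] at hay
    exact isConj_iff.1 hay
  obtain ⟨q, hq, e⟩ := exists_mem_sylow_conj hx P g
  rw [← hg, e]
  have hq' : q ∈ (P : Subgroup G) ⊔ Subgroup.zpowers x := Subgroup.mem_sup_left hq
  exact mul_mem (mul_mem hq' (Subgroup.mem_sup_right (Subgroup.mem_zpowers x))) (inv_mem hq')

/-- The crucial case: `x` of `r`-power order generating `G` as a normal subgroup. -/
theorem solvable_of_generates {x : G} {p k r a : ℕ} [hp : Fact p.Prime] [hr : Fact r.Prime]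
    (hx : (Subgroup.centralizer ({x} : Set G)).index = p ^ k) (hxa : orderOf x = r ^ a)
    (hgen : Subgroup.normalClosure ({x} : Set G) = ⊤) : Group.IsSolvable G := by
  have htop : ∀ P : Sylow p G, x ∈ Subgroup.normalizer ((P : Subgroup G) : Set G) →
      Group.IsSolvable G := by
    intro P hP
    have : Group.IsNilpotent (P : Subgroup G) := P.isPGroup'.isNilpotent
    have hs : Group.IsSolvable ↥((P : Subgroup G) ⊔ Subgroup.zpowers x) :=
      CfsgLib.Components.Signalizer.isSolvable_sup (Subgroup.zpowers_le.2 hP) inferInstance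
        (Group.isSolvable_of_comm fun u v => mul_comm' u v)
    have hle := normalClosure_le hx P
    rw [hgen, top_le_iff] at hle
    rw [hle] at hs
    exact Group.isSolvable_of_surjective (f := (Subgroup.topEquiv (G := G)).toMonoidHom)
      (Subgroup.topEquiv (G := G)).surjective
  rcases eq_or_ne r p with rfl | hrp
  · obtain ⟨P, hP⟩ := (IsPGroup.of_card (show Nat.card (Subgroup.zpowers x) = r ^ a by
      rw [Nat.card_zpowers, hxa])).exists_le_sylow
    exact htop P (Subgroup.le_normalizer (hP (Subgroup.mem_zpowers x)))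
  have hquot : ∀ y : G ⧸ commutator G, y ^ r ^ a = 1 := by
    have hab : ∀ u v : G ⧸ commutator G, u * v = v * u := by
      intro u v
      induction u using QuotientGroup.induction_on with
      | H u =>
        induction v using QuotientGroup.induction_on with
        | H v =>
          refine QuotientGroup.eq.2 ?_
          have : (u * v)⁻¹ * (v * u) = ⁅v⁻¹, u⁻¹⁆ := by rw [commutatorElement_def]; group
          rw [this]
          exact Subgroup.commutator_mem_commutator (Subgroup.mem_top _) (Subgroup.mem_top _)
    intro y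
    induction y using QuotientGroup.induction_on with
    | H g =>
      let S : Subgroup G := {
        carrier := {g : G | (QuotientGroup.mk g : G ⧸ commutator G) ^ r ^ a = 1}
        one_mem' := by simp
        mul_mem' := fun {u v} hu hv => by
          simp only [Set.mem_setOf_eq] at *
          rw [QuotientGroup.mk_mul, (show Commute _ _ from hab _ _).mul_pow, hu, hv, one_mul]
        inv_mem' := fun {u} hu => by
          simp only [Set.mem_setOf_eq] at *
          rw [QuotientGroup.mk_inv, inv_pow, hu, inv_one] }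
      have : S.Normal := ⟨fun u hu v => by
        show (QuotientGroup.mk (v * u * v⁻¹) : G ⧸ commutator G) ^ r ^ a = 1
        rw [QuotientGroup.mk_mul, QuotientGroup.mk_mul, QuotientGroup.mk_inv, hab (QuotientGroup.mk v),
          mul_inv_cancel_right]
        exact hu⟩
      have hle : Subgroup.normalClosure ({x} : Set G) ≤ S := Subgroup.normalClosure_le_normal (by
        intro w hw
        obtain rfl := (Set.mem_singleton_iff.1 hw).symm
        show (QuotientGroup.mk x : G ⧸ commutator G) ^ r ^ a = 1
        rw [← QuotientGroup.mk_pow, ← hxa, pow_orderOf_eq_one, QuotientGroup.mk_one])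
      exact hle (hgen ▸ Subgroup.mem_top g)
  obtain ⟨j, hj⟩ : ∃ j, (commutator G).index = r ^ j :=
    IsPGroup.exists_card_eq (show IsPGroup r (G ⧸ commutator G) from fun y => ⟨a, hquot y⟩)
  by_cases hG' : r ∣ Nat.card (commutator G)
  · exfalso
    cases nonempty_fintype G
    obtain ⟨z, hz⟩ := exists_prime_orderOf_dvd_card' r hG'
    obtain ⟨M, hM⟩ := exists_isPModular hr.out
    have hzero := CfsgLib.Involution.ZStar.sum_degree_mul_eq_zero hM
      (isPBlock_principalBlock (G := G)) (g := (z : G))
      (by rw [Subgroup.orderOf_coe, hz])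
    have hlin : ∀ χ : IrrCharacter G, charDegree (χ : G → ℂ) = 1 →
        χ ∈ principalBlock M G ∧ (χ : G → ℂ) (z : G) = 1 := by
      intro χ hχ
      rw [CfsgLib.DegreeTools.deg_eq_one_iff] at hχ
      obtain ⟨φ, hφ⟩ := exists_hom_of_apply_one_eq_one (isCharacter_irr χ) hχ
      have hker : commutator G ≤ φ.ker := by
        rw [commutator_def]
        exact Subgroup.commutator_le.2 fun u _ v _ => by
          rw [MonoidHom.mem_ker, map_commutatorElement, commutatorElement_eq_one_iff_commute]
          exact Commute.all _ _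
      refine ⟨fun g => ?_, by simp [hφ, show φ (z : G) = 1 from hker z.2]⟩
      have hg : φ (g ^ r ^ a) = 1 := hker ((QuotientGroup.eq_one_iff _).1
        ((QuotientGroup.mk_pow _ _ _).trans (hquot g)))
      have h1 : ((φ g : ℂˣ) : ℂ) ^ r ^ a = 1 := by
        rw [← Units.val_pow_eq_pow_val, ← map_pow, hg, Units.val_one]
      have h2 := LI.mul_left hM (LR.natCast hM (Subgroup.centralizer ({g} : Set G)).index)
        (LI.root_sub_one hM h1)
      refine LI.sub_comm ?_
      simp only [centralChar, hχ, mul_one, div_one]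
      rw [show (χ : G → ℂ) g = ((φ g : ℂˣ) : ℂ) from congrFun hφ g]
      simpa [mul_sub] using h2
    have hbig : ∀ χ : IrrCharacter G, χ ∈ principalBlock M G → charDegree (χ : G → ℂ) ≠ 1 →
        p ∣ charDegree (χ : G → ℂ) := by
      intro χ hχB hdeg
      by_contra hpd
      have hcop : ((Subgroup.centralizer ({x} : Set G)).index).Coprime (charDegree (χ : G → ℂ)) := by
        rw [hx]
        exact Nat.Coprime.pow_left _ (hp.out.coprime_iff_not_dvd.2 hpd)
      rcases CfsgLib.DegreeTools.eq_zero_or_norm_eq_of_coprime χ x hcop with h0 | hn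
      · have h := hχB x
        rw [show centralChar (χ : G → ℂ) x = 0 by simp [centralChar, h0], sub_zero] at h
        simp only [centralChar, mul_one, div_one] at h
        rw [LI.natCast_iff hM, hx] at h
        exact hrp ((Nat.prime_dvd_prime_iff_eq hr.out hp.out).1 (hr.out.dvd_of_dvd_pow h))
      · obtain ⟨n, ρ, hirr, hρ⟩ := χ.2
        have hd : (Module.finrank ℂ (Fin n → ℂ) : ℝ) = charDegree (χ : G → ℂ) := by
          rw [← CfsgLib.DegreeTools.norm_apply_one, ← hρ, Representation.char_one, Complex.norm_natCast]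
        let S : Subgroup G := {
          carrier := {g : G | ∃ c : ℂ, ρ g = c • (1 : Module.End ℂ (Fin n → ℂ))}
          one_mem' := ⟨1, by simp⟩
          mul_mem' := by
            rintro u v ⟨c, hc⟩ ⟨d, hd⟩
            exact ⟨c * d, by rw [map_mul, hc, hd, smul_mul_smul_comm, one_mul]⟩
          inv_mem' := by
            intro u hu
            obtain ⟨c, hc⟩ := hu
            refine ⟨c ^ (orderOf u - 1), ?_⟩
            have hu' : u⁻¹ = u ^ (orderOf u - 1) := inv_eq_of_mul_eq_one_right (by
              rw [← pow_succ', Nat.sub_add_cancel (orderOf_pos u), pow_orderOf_eq_one])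
            rw [hu', map_pow, hc, smul_pow, one_pow] }
        have : S.Normal := ⟨by
          rintro u ⟨c, hc⟩ v
          refine ⟨c, ?_⟩
          rw [map_mul, map_mul, hc, mul_smul_comm, mul_one, smul_mul_assoc, ← map_mul, mul_inv_cancel,
            map_one]⟩
        have hxS : x ∈ S := by
          obtain ⟨ω, -, hω, -⟩ := exists_scalar_of_norm_char_eq ρ x (by rw [hρ, hn, hd])
          exact ⟨ω, hω⟩
        have hall : ∀ g : G, ‖(χ : G → ℂ) g‖ = charDegree (χ : G → ℂ) := by
          intro g
          have hle : Subgroup.normalClosure ({x} : Set G) ≤ S :=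
            Subgroup.normalClosure_le_normal (by simpa using hxS)
          obtain ⟨c, hc⟩ := hle (hgen ▸ Subgroup.mem_top g)
          have : Nontrivial (Fin n → ℂ) :=
            Module.finrank_pos_iff.mp (irreducible_finrank_pos (ρ := ρ))
          have hc1 : ‖c‖ = 1 := by
            refine Complex.norm_eq_one_of_pow_eq_one (n := Nat.card G) ?_ Nat.card_pos.ne'
            have h := CfsgLib.DegreeTools.CharTools.pow_card_eq ρ g
            rw [hc, smul_pow, one_pow] at h
            exact smul_left_injective ℂ (one_ne_zero (α := Module.End ℂ (Fin n → ℂ)))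
              (h.trans (one_smul ℂ _).symm)
          show ‖(χ : G → ℂ) g‖ = _
          rw [← hd, ← hρ, Representation.character, hc, map_smul, LinearMap.trace_one, smul_eq_mul,
            norm_mul, hc1, one_mul, Complex.norm_natCast]
        have hsum := CfsgLib.DegreeTools.sum_norm_sq χ
        simp only [hall, Finset.sum_const, Finset.card_univ, nsmul_eq_mul,
          Fintype.card_eq_nat_card] at hsum
        have hpos : (0 : ℝ) < Nat.card G := Nat.cast_pos.2 Nat.card_pos
        have h1 : (charDegree (χ : G → ℂ) : ℝ) ^ 2 = 1 := by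
          have := mul_left_cancel₀ hpos.ne' (hsum.trans (mul_one _).symm)
          exact this
        exact hdeg (by exact_mod_cast (pow_eq_one_iff_of_nonneg (Nat.cast_nonneg _) two_ne_zero).1 h1)
    set s := (principalBlock M G).toFinset
    have hsplit := Finset.sum_filter_add_sum_filter_not s (fun χ => charDegree (χ : G → ℂ) = 1)
      (fun χ => (χ : G → ℂ) 1 * (χ : G → ℂ) (z : G))
    rw [hzero] at hsplit
    have hcount : (s.filter fun χ : IrrCharacter G => charDegree (χ : G → ℂ) = 1).card = r ^ j := by
      rw [← hj, ← CfsgLib.DegreeTools.card_linear_deg, Nat.card_eq_fintype_card, Fintype.card_subtype]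
      congr 1
      ext χ
      simp only [s, Finset.mem_filter, Set.mem_toFinset, Finset.mem_univ, true_and]
      exact ⟨fun h => h.2, fun h => ⟨(hlin χ h).1, h⟩⟩
    rw [Finset.sum_congr rfl (fun χ hχ => by
      obtain ⟨-, h1⟩ := Finset.mem_filter.1 hχ
      rw [(hlin χ h1).2, ← CfsgLib.DegreeTools.deg_cast, h1, Nat.cast_one, mul_one]),
      Finset.sum_const, hcount, nsmul_eq_mul, mul_one] at hsplit
    have hint : IsIntegral ℤ (((r ^ j : ℕ) : ℂ) / (p : ℂ)) := by
      rw [eq_neg_of_add_eq_zero_left hsplit, neg_div, Finset.sum_div]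
      refine (IsIntegral.sum _ fun χ hχ => ?_).neg
      obtain ⟨hχB, hχd⟩ := Finset.mem_filter.1 hχ
      obtain ⟨d, hd⟩ := hbig χ (Set.mem_toFinset.1 hχB) hχd
      rw [← CfsgLib.DegreeTools.deg_cast, hd, Nat.cast_mul, mul_assoc,
        mul_div_cancel_left₀ _ (Nat.cast_ne_zero.2 hp.out.ne_zero)]
      exact IsIntegral.mul (by exact_mod_cast isIntegral_algebraMap (R := ℤ) (A := ℂ) (x := (d : ℤ)))
        (irr_isIntegral χ _)
    exact hrp ((Nat.prime_dvd_prime_iff_eq hp.out hr.out).1
      (hp.out.dvd_of_dvd_pow (dvd_of_isIntegral_div hp.out.ne_zero hint))).symm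
  · obtain ⟨P, hP⟩ := exists_invariant_sylow hxa hj hrp.symm hG'
    exact htop P hP

theorem prime_power_case (N : ℕ) : ∀ (G : Type _) [Group G] [Finite G], Nat.card G ≤ N →
    ∀ (x : G) (p k r a : ℕ), p.Prime → r.Prime →
      (Subgroup.centralizer ({x} : Set G)).index = p ^ k → orderOf x = r ^ a →
      Group.IsSolvable ↥(Subgroup.normalClosure ({x} : Set G)) := by
  induction N with
  | zero => intro G _ _ h; exact absurd h (Nat.not_le.2 Nat.card_pos)
  | succ N ih =>
    intro G _ _ hN x p k r a hp hr hx hxa
    haveI : Fact p.Prime := ⟨hp⟩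
    haveI : Fact r.Prime := ⟨hr⟩
    set H := Subgroup.normalClosure ({x} : Set G) with hH
    by_cases htop : H = ⊤
    · rw [htop]
      haveI := solvable_of_generates hx hxa (hH ▸ htop)
      infer_instance
    haveI : H.Normal := Subgroup.normalClosure_normal
    have hlt : Nat.card H ≤ N := by
      have := Subgroup.card_mul_index H
      have h2 : 2 ≤ H.index := by
        have h0 := Subgroup.index_ne_zero_of_finite (H := H)
        have h1 : H.index ≠ 1 := fun e => htop (Subgroup.index_eq_one.1 e)
        omega
      nlinarith [Nat.card_pos (α := H)]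
    have hxH : x ∈ H := Subgroup.subset_normalClosure rfl
    set C := Subgroup.centralizer ({x} : Set G)
    have hC : Subgroup.centralizer ({(⟨x, hxH⟩ : H)} : Set H) = C.subgroupOf H := by
      ext y
      simp [C, Subgroup.mem_subgroupOf, Subgroup.mem_centralizer_singleton_iff, Subtype.ext_iff]
    obtain ⟨i, hi⟩ : ∃ i, (Subgroup.centralizer ({(⟨x, hxH⟩ : H)} : Set H)).index = p ^ i := by
      rw [hC]
      change ∃ i, C.relIndex H = p ^ i
      have h : C.relIndex H ∣ C.index := by
        have h1 := Subgroup.relIndex_mul_index (inf_le_right : C ⊓ H ≤ H)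
        have h2 := Subgroup.relIndex_mul_index (inf_le_left : C ⊓ H ≤ C)
        rw [Subgroup.inf_relIndex_right] at h1
        rw [Subgroup.inf_relIndex_left] at h2
        obtain ⟨c, hc⟩ : H.relIndex C ∣ H.index := Subgroup.relIndex_dvd_index_of_normal H C
        refine ⟨c, Nat.eq_of_mul_eq_mul_left (Nat.pos_of_ne_zero
          (show H.relIndex C ≠ 0 from Subgroup.index_ne_zero_of_finite)) ?_⟩
        rw [h2, ← h1, hc]; ring
      obtain ⟨i, -, hi⟩ := (Nat.dvd_prime_pow hp).1 (hx ▸ h)
      exact ⟨i, hi⟩
    have hind := ih H hlt ⟨x, hxH⟩ p i r a hp hr hi (by rw [Subgroup.orderOf_mk, hxa])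
    obtain ⟨R, hRn, hRs, hRmax⟩ := CfsgLib.Recognition.OneToFive.exists_radical H
    haveI := hRn
    have hxR : x ∈ R.map H.subtype := ⟨⟨x, hxH⟩,
      hRmax _ Subgroup.normalClosure_normal hind (Subgroup.subset_normalClosure rfl), rfl⟩
    haveI : (R.map H.subtype).Normal := ⟨fun u hu g => by
      obtain ⟨v, hv, rfl⟩ := hu
      let f : MulAut H := MulAut.conjNormal g
      haveI := hRs
      have hs : Group.IsSolvable (R.map f.toMonoidHom) :=
        Group.isSolvable_of_surjective (f.toMonoidHom.subgroupMap_surjective R)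
      exact ⟨f v, hRmax _ (hRn.map _ f.surjective) hs (Subgroup.mem_map_of_mem f.toMonoidHom hv),
        MulAut.conjNormal_apply g v⟩⟩
    have hle : H ≤ R.map H.subtype := Subgroup.normalClosure_le_normal (by simpa using hxR)
    haveI := hRs
    haveI : Group.IsSolvable ↥(R.map H.subtype) :=
      Group.isSolvable_of_surjective (H.subtype.subgroupMap_surjective R)
    exact Group.isSolvable_of_isSolvable_injective (Subgroup.inclusion_injective hle)

/-- Kazarin's theorem. -/
theorem isSolvable_normalClosure {G : Type*} [Group G] [Finite G] (x : G) {p : ℕ} (hp : p.Prime) (k : ℕ)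
    (hx : (Subgroup.centralizer ({x} : Set G)).index = p ^ k) :
    Group.IsSolvable ↥(Subgroup.normalClosure ({x} : Set G)) := by
  obtain ⟨R, hRn, hRs, hRmax⟩ := CfsgLib.Recognition.OneToFive.exists_radical G
  haveI := hRn
  have hparts : ∀ b r a : ℕ, r.Prime → orderOf (x ^ b) = r ^ a → x ^ b ∈ R := by
    intro b r a hr ha
    have hle : Subgroup.centralizer ({x} : Set G) ≤ Subgroup.centralizer ({x ^ b} : Set G) := fun y hy => by
      rw [Subgroup.mem_centralizer_singleton_iff] at hy ⊢
      exact (Commute.pow_right hy b).eq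
    obtain ⟨i, -, hi⟩ := (Nat.dvd_prime_pow hp).1 (hx ▸ Subgroup.index_dvd_of_le hle)
    exact hRmax _ Subgroup.normalClosure_normal
      (prime_power_case _ G le_rfl (x ^ b) p i r a hp hr hi ha) (Subgroup.subset_normalClosure rfl)
  have hxR : x ∈ R := by
    by_contra hxR
    set m := orderOf (QuotientGroup.mk x : G ⧸ R)
    have hm1 : m ≠ 1 := fun e => hxR ((QuotientGroup.eq_one_iff x).1 (orderOf_eq_one_iff.1 e))
    obtain ⟨r, hr, hrm⟩ := Nat.exists_prime_and_dvd hm1
    set b := orderOf x / r ^ (orderOf x).factorization r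
    have hb : b ∣ orderOf x := Nat.div_dvd_of_dvd (Nat.ordProj_dvd _ _)
    have hord : orderOf (x ^ b) = r ^ (orderOf x).factorization r := by
      rw [orderOf_pow' x (Nat.pos_of_dvd_of_pos hb (orderOf_pos x)).ne', Nat.gcd_eq_right hb,
        Nat.div_div_self (Nat.ordProj_dvd _ _) (orderOf_pos x).ne']
    have hmb : m ∣ b := orderOf_dvd_of_pow_eq_one (by
      rw [← QuotientGroup.mk_pow]
      exact (QuotientGroup.eq_one_iff _).2 (hparts b r _ hr hord))
    exact Nat.not_dvd_ordCompl hr (orderOf_pos x).ne' (hrm.trans hmb)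
  haveI := hRs
  exact Group.isSolvable_of_isSolvable_injective
    (Subgroup.inclusion_injective (Subgroup.normalClosure_le_normal (N := R) (by simpa using hxR)))

end CfsgLib.CharDeep.PrimePowerClass
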