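import Cfsg.Agent.Lib.CharDeep.RelativeSteps
import Cfsg.Agent.Lib.CharDeep.FixedPointAverage
import Cfsg.Agent.Lib.Char.CoherenceGrow
import Mathlib

/-!
For a primitive character of a solvable group some class size has at least the `p`-part of the degree.
-/

set_option autoImplicit false
set_option linter.unusedSectionVars false
set_option linter.style.haveILetI false

namespace CfsgLib.CharDeep.PrimitiveClassSize

open CfsgLib.Char CfsgLib.Char.Coherence
open FixedPointAverage (fixIn mem_fixIn prod_fix_group)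

variable {G : Type*} [Group G] [Fintype G]

/-- The exponent of `p` in the order of the centraliser of `g` in `K`. -/
noncomputable def cexp (p : ℕ) (K : Subgroup G) (g : G) : ℕ :=
  (Nat.card ↥(K ⊓ Subgroup.centralizer ({g} : Set G))).factorization p

open scoped Classical in
/-- The step of the descent at one chief factor. -/
theorem chief_step [Group.IsSolvable G] (p : ℕ) {K L : Subgroup G} [hKn : K.Normal] [hLn : L.Normal]
    (hLK : L < K) (hchief : ∀ M : Subgroup G, M.Normal → L ≤ M → M ≤ K → M = L ∨ M = K) {e : ℕ}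
    (he : e = 1 ∨ e ^ 2 = L.relIndex K) :
    ∑ g, cexp p K g + Nat.card G * e.factorization p ≤
      ∑ g, cexp p L g + Nat.card G * (L.relIndex K).factorization p := by
  haveI : Group.IsSolvable (G ⧸ L) := Group.isSolvable_of_surjective (QuotientGroup.mk'_surjective L)
  obtain ⟨hab, r, n, hr, hn⟩ := Relative.chief_solvable ‹_› hLK hchief
  haveI := Fact.mk hr
  set N := L.subgroupOf K with hN
  haveI : N.Normal := hLn.subgroupOf K
  letI : CommGroup (K ⧸ N) :=
    { (inferInstance : Group (K ⧸ N)) with
      mul_comm := fun a b => by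
        obtain ⟨a, rfl⟩ := QuotientGroup.mk'_surjective N a
        obtain ⟨b, rfl⟩ := QuotientGroup.mk'_surjective N b
        rw [← commutatorElement_eq_one_iff_mul_comm, ← map_commutatorElement]
        exact (QuotientGroup.eq_one_iff _).2 (hab (Subgroup.commutator_mem_commutator a.2 b.2)) }
  have hcard : Nat.card (K ⧸ N) = r ^ n := by rw [← Subgroup.index_eq_card]; exact hn
  have hmap : ∀ g : G, N.map (MulAut.conjNormal (H := K) g).toMonoidHom = N := fun g => by
    refine Subgroup.eq_of_le_of_card_ge ?_ (Subgroup.card_map_of_injective (MulEquiv.injective _)).ge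
    rintro _ ⟨x, hx, rfl⟩
    refine Subgroup.mem_subgroupOf.mpr ?_
    show ((MulAut.conjNormal g x : K) : G) ∈ L
    rw [MulAut.conjNormal_apply]
    exact hLn.conj_mem _ (Subgroup.mem_subgroupOf.mp hx) g
  let ρ : G →* MulAut (K ⧸ N) :=
    { toFun := fun g => QuotientGroup.congr N N (MulAut.conjNormal g) (hmap g)
      map_one' := MulEquiv.ext fun q => by
        obtain ⟨x, rfl⟩ := QuotientGroup.mk'_surjective N q
        exact congrArg (QuotientGroup.mk' N) (Subtype.ext (by simp [MulAut.conjNormal_apply]))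
      map_mul' := fun g h => MulEquiv.ext fun q => by
        obtain ⟨x, rfl⟩ := QuotientGroup.mk'_surjective N q
        exact congrArg (QuotientGroup.mk' N) (Subtype.ext (by simp [MulAut.conjNormal_apply, mul_assoc])) }
  have hρ : ∀ (g : G) (x : K), ρ g (QuotientGroup.mk' N x) =
      QuotientGroup.mk' N ⟨g * x * g⁻¹, hKn.conj_mem (x : G) x.2 g⟩ := fun g x =>
    congrArg (QuotientGroup.mk' N) (Subtype.ext (MulAut.conjNormal_apply g x))
  have hirr : ∀ U : Subgroup (K ⧸ N), (∀ g, ∀ u ∈ U, ρ g u ∈ U) → U = ⊥ ∨ U = ⊤ := by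
    intro U hU
    set M := (U.comap (QuotientGroup.mk' N)).map K.subtype with hM
    have hback := Subgroup.map_comap_eq_self_of_surjective (QuotientGroup.mk'_surjective N) U
    have hMn : M.Normal := ⟨fun m hm g => by
      obtain ⟨x, hx, rfl⟩ := hm
      refine ⟨⟨g * x * g⁻¹, hKn.conj_mem (x : G) x.2 g⟩, ?_, rfl⟩
      rw [SetLike.mem_coe, Subgroup.mem_comap, ← hρ]
      exact hU g _ hx⟩
    have hLM : L ≤ M := fun l hl => ⟨⟨l, hLK.le hl⟩, by
      rw [SetLike.mem_coe, Subgroup.mem_comap,
        show QuotientGroup.mk' N ⟨l, hLK.le hl⟩ = 1 from (QuotientGroup.eq_one_iff _).2 hl]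
      exact U.one_mem, rfl⟩
    rcases hchief M hMn hLM (Subgroup.map_subtype_le _) with h | h
    · left
      refine (Subgroup.eq_bot_iff_forall _).mpr fun u hu => ?_
      obtain ⟨x, rfl⟩ := QuotientGroup.mk'_surjective N u
      exact (QuotientGroup.eq_one_iff _).2 (Subgroup.mem_subgroupOf.mpr (h ▸ ⟨x, hu, rfl⟩ : (x : G) ∈ L))
    · right
      refine (Subgroup.eq_top_iff' U).mpr fun u => ?_
      obtain ⟨x, rfl⟩ := QuotientGroup.mk'_surjective N u
      obtain ⟨y, hy, e'⟩ : (x : G) ∈ M := h.symm ▸ x.2
      rwa [← show y = x from Subtype.ext e']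
  -- the centralisers
  have hfix : ∀ g : G, cexp p K g ≤ cexp p L g + (Nat.card ↥(fixIn (ρ g) ⊤)).factorization p := by
    intro g
    set C := K ⊓ Subgroup.centralizer ({g} : Set G)
    set f : C →* K ⧸ N := (QuotientGroup.mk' N).comp (Subgroup.inclusion inf_le_left)
    have hker : Nat.card f.ker = Nat.card ↥(L ⊓ Subgroup.centralizer ({g} : Set G)) :=
      Nat.card_congr
        { toFun := fun x => ⟨((x : C) : G),
            Subgroup.mem_subgroupOf.mp ((QuotientGroup.eq_one_iff (N := N) (Subgroup.inclusion inf_le_left (x : C))).1 x.2), (x : C).2.2⟩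
          invFun := fun y => ⟨⟨(y : G), hLK.le y.2.1, y.2.2⟩, (QuotientGroup.eq_one_iff _).2 y.2.1⟩
          left_inv := fun x => rfl
          right_inv := fun y => rfl }
    have hle : f.range ≤ fixIn (ρ g) ⊤ := by
      rintro _ ⟨x, rfl⟩
      refine mem_fixIn.mpr ⟨Subgroup.mem_top _, ?_⟩
      show ρ g (QuotientGroup.mk' N _) = QuotientGroup.mk' N _
      rw [hρ]
      congr 1
      refine Subtype.ext ?_
      show g * (x : G) * g⁻¹ = x
      rw [← Subgroup.mem_centralizer_singleton_iff.mp x.2.2, mul_inv_cancel_right]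
    have h1 := f.ker.card_mul_index
    rw [Subgroup.index_ker, hker] at h1
    show (Nat.card C).factorization p ≤ _
    rw [← h1, Nat.factorization_mul Nat.card_pos.ne' Nat.card_pos.ne', Finsupp.add_apply]
    exact Nat.add_le_add_left ((Nat.factorization_le_iff_dvd Nat.card_pos.ne' Nat.card_pos.ne').mpr
      (Subgroup.card_dvd_of_le hle) p) _
  have hfixle : ∀ g : G, (Nat.card ↥(fixIn (ρ g) ⊤)).factorization p ≤ (L.relIndex K).factorization p :=
    fun g => (Nat.factorization_le_iff_dvd Nat.card_pos.ne' (by rw [hn]; exact pow_ne_zero _ hr.ne_zero)).mpr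
      (by rw [hn, ← hcard]; exact Subgroup.card_subgroup_dvd_card _) p
  have hsum : ∑ g, cexp p K g ≤ ∑ g, cexp p L g + ∑ g, (Nat.card ↥(fixIn (ρ g) ⊤)).factorization p := by
    rw [← Finset.sum_add_distrib]; exact Finset.sum_le_sum fun g _ => hfix g
  suffices hmain : ∑ g, (Nat.card ↥(fixIn (ρ g) ⊤)).factorization p + Nat.card G * e.factorization p ≤
      Nat.card G * (L.relIndex K).factorization p by omega
  by_cases hep : e.factorization p = 0
  · rw [hep, mul_zero, add_zero, Nat.card_eq_fintype_card, ← Finset.card_univ, ← smul_eq_mul, ← Finset.sum_const]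
    exact Finset.sum_le_sum fun g _ => hfixle g
  have he2 : e ^ 2 = r ^ n := hn ▸ he.resolve_left fun e1 => hep (by simp [e1])
  have hrp : r = p := by
    by_contra hne
    have := congrArg (fun m => m.factorization p) he2
    simp only [Nat.factorization_pow, hr.factorization, Finsupp.smul_apply, Finsupp.single_apply,
      if_neg hne, smul_eq_mul] at this
    omega
  subst hrp
  have hn2 : 2 * e.factorization r = n := by
    have := congrArg (fun m => m.factorization r) he2
    simpa [Nat.factorization_pow, hr.factorization] using this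
  have hne : ρ ≠ 1 := by
    intro h1
    obtain ⟨q, hq⟩ : ∃ q : K ⧸ N, q ≠ 1 := by
      by_contra hcon
      push Not at hcon
      refine hLK.not_ge fun x hx => ?_
      exact Subgroup.mem_subgroupOf.mp ((QuotientGroup.eq_one_iff (N := N) (⟨x, hx⟩ : K)).1 (hcon _))
    rcases hirr (Subgroup.zpowers q) (fun g u hu => by rw [h1]; exact hu) with h | h
    · exact hq (Subgroup.zpowers_eq_bot.mp h)
    · have hord : orderOf q = r := by
        have hpow : ∀ i, q ^ i ≠ 1 → Subgroup.zpowers (q ^ i) = ⊤ := fun i hi =>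
          (hirr _ fun g u hu => by rw [h1]; exact hu).resolve_left fun hb => hi (Subgroup.zpowers_eq_bot.mp hb)
        obtain ⟨j, hj⟩ : ∃ j, orderOf q = r ^ j := by
          obtain ⟨j, -, hj⟩ := (Nat.dvd_prime_pow hr).mp (hcard ▸ orderOf_dvd_natCard q)
          exact ⟨j, hj⟩
        rcases j with _ | _ | j
        · exact absurd (orderOf_eq_one_iff.mp (by simpa using hj)) hq
        · simpa using hj
        · exfalso
          have hlt : r < orderOf q := by
            rw [hj]; exact lt_of_lt_of_le (by nlinarith [hr.two_le]) (Nat.pow_le_pow_right hr.pos (by omega : 2 ≤ j + 1 + 1))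
          have hq' : q ^ r ≠ 1 := fun e1 =>
            absurd (Nat.le_of_dvd hr.pos (orderOf_dvd_of_pow_eq_one e1)) (by omega)
          have h2 := congrArg (fun U : Subgroup (K ⧸ N) => Nat.card U) ((hpow r hq').trans h.symm)
          simp only [Nat.card_zpowers, orderOf_pow' q hr.ne_zero] at h2
          have hgcd : Nat.gcd (orderOf q) r = r := Nat.gcd_eq_right (hj ▸ dvd_pow_self r (by omega))
          rw [hgcd] at h2
          exact absurd h2 (Nat.ne_of_lt (Nat.div_lt_self (orderOf_pos q) hr.one_lt))
      have hn1 : n = 1 := by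
        refine Nat.pow_right_injective hr.two_le (show r ^ n = r ^ 1 from ?_)
        rw [← hcard, pow_one, ← hord, ← Nat.card_zpowers, h, Subgroup.card_top]
      omega
  have hb := prod_fix_group (IsPGroup.of_card hcard) ρ hirr hne
  rw [hcard] at hb
  have hpow : ∀ g : G, Nat.card ↥(fixIn (ρ g) ⊤) = r ^ (Nat.card ↥(fixIn (ρ g) ⊤)).factorization r := fun g => by
    obtain ⟨j, -, hj⟩ := (Nat.dvd_prime_pow hr).mp (hcard ▸ Subgroup.card_subgroup_dvd_card (fixIn (ρ g) ⊤))
    rw [hj, Nat.factorization_pow, hr.factorization]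
    simp
  rw [Finset.prod_congr rfl fun g _ => hpow g, Finset.prod_pow_eq_pow_sum, ← pow_mul, ← pow_mul] at hb
  have hle := (Nat.pow_le_pow_iff_right hr.one_lt).mp hb
  rw [hn, Nat.factorization_pow, hr.factorization]
  simp only [Finsupp.smul_apply, Finsupp.single_eq_same, smul_eq_mul, mul_one]
  have : n * Nat.card G = 2 * (Nat.card G * e.factorization r) := by rw [← hn2]; ring
  have h3 : Nat.card G * n = 2 * (Nat.card G * e.factorization r) := by rw [mul_comm, this]
  omega

open scoped Classical in
/-- **Primitive characters.** -/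
theorem exists_class [Group.IsSolvable G] {χ : G → ℂ} (hχ : Cfsg.IsIrrCharacter G χ)
    (hhom : ∀ M : Subgroup G, M.Normal → Relative.Homogeneous χ M) (p : ℕ) :
    ∃ g : G, (natDeg χ).factorization p ≤ ((Subgroup.centralizer ({g} : Set G)).index).factorization p := by
  suffices H : ∀ m : ℕ, ∀ K : Subgroup G, Nat.card K = m → K.Normal → ∀ (θ : K → ℂ) (f : ℕ),
      Cfsg.IsIrrCharacter K θ → ((fun k : K => χ k) = (f : ℂ) • θ) →
      ∑ g, cexp p K g + Nat.card G * (natDeg θ).factorization p ≤ Nat.card G * m.factorization p by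
    have h := H _ ⊤ rfl inferInstance (fun k : (⊤ : Subgroup G) => χ k) 1
      (IsIrrCharacter.comp_equiv hχ Subgroup.topEquiv) (by rw [Nat.cast_one, one_smul])
    rw [Subgroup.card_top] at h
    by_contra hcon
    push Not at hcon
    have hlt : ∀ g : G, (Nat.card G).factorization p < cexp p (⊤ : Subgroup G) g + (natDeg χ).factorization p := by
      intro g
      have h1 := (Subgroup.centralizer ({g} : Set G)).card_mul_index
      have h2 := congrArg (fun m => m.factorization p) h1
      simp only [Nat.factorization_mul Nat.card_pos.ne' Subgroup.index_ne_zero_of_finite, Finsupp.add_apply] at h2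
      rw [cexp, top_inf_eq]
      have := hcon g
      omega
    have := Finset.sum_lt_sum_of_nonempty (Finset.univ_nonempty (α := G)) fun g _ => hlt g
    rw [Finset.sum_add_distrib, Finset.sum_const, Finset.sum_const, Finset.card_univ, smul_eq_mul, smul_eq_mul,
      ← Nat.card_eq_fintype_card] at this
    change ∑ g, cexp p (⊤ : Subgroup G) g + Nat.card G * (natDeg χ).factorization p ≤ _ at h
    omega
  intro m
  induction m using Nat.strong_induction_on with
  | _ m IH =>
    intro K hm hK θ f hθ hf
    rcases eq_or_ne K ⊥ with rfl | hne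
    · have hm1 : m = 1 := by rw [← hm, Subgroup.card_bot]
      obtain ⟨d, hd, hdvd⟩ := IsIrrCharacter.apply_one_dvd_card hθ
      rw [Subgroup.card_bot, Nat.dvd_one] at hdvd
      subst hdvd
      have hd1 : natDeg θ = 1 := Nat.cast_injective (R := ℂ) ((natDeg_spec hθ).symm.trans hd)
      simp [hd1, hm1, cexp]
    obtain ⟨L, -, ⟨hLn, hLK⟩, hmax⟩ := Finite.exists_le_maximal
      (p := fun L : Subgroup G => L.Normal ∧ L < K) (a := ⊥) ⟨inferInstance, bot_lt_iff_ne_bot.mpr hne⟩
    have hchief : ∀ M : Subgroup G, M.Normal → L ≤ M → M ≤ K → M = L ∨ M = K := by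
      intro M hM hLM hMK
      rcases hMK.eq_or_lt with he | hl
      · exact Or.inr he
      · exact Or.inl (le_antisymm (hmax ⟨hM, hl⟩ hLM) hLM)
    obtain ⟨hab, -⟩ := Relative.chief_solvable
      (Group.isSolvable_of_surjective (QuotientGroup.mk'_surjective L)) hLK hchief
    obtain ⟨φ, f', hφ, hf'⟩ := hhom L hLn
    have hθL : Cfsg.IsCharacter L (fun x : L => θ ⟨(x : G), hLK.le x.2⟩) :=
      IsCharacter.comp (IsIrrCharacter.isCharacter hθ) (Subgroup.inclusion hLK.le)
    obtain ⟨e, he⟩ := IsCharacter.classInner_nat hθL (IsIrrCharacter.isCharacter hφ)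
    have hff : (f : ℂ) • (fun x : L => θ ⟨(x : G), hLK.le x.2⟩) = (f' : ℂ) • φ := by
      rw [← hf']; funext x; exact (congrFun hf ⟨(x : G), hLK.le x.2⟩).symm
    have hfe : (f : ℂ) * e = f' := by
      have h := congrArg (fun F => Cfsg.classInner F φ) hff
      simp only [classInner_smul_left, he, classInner_irr_self hφ, mul_one] at h
      exact h
    have hres : (fun x : L => θ ⟨(x : G), hLK.le x.2⟩) = (e : ℂ) • φ := by
      refine smul_right_injective (L → ℂ) (show (f : ℂ) ≠ 0 from Nat.cast_ne_zero.2 (Relative.mult_ne_zero hχ hf)) ?_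
      show (f : ℂ) • _ = (f : ℂ) • ((e : ℂ) • φ)
      rw [hff, smul_smul, hfe]
    have hce := Relative.chief_homogeneous hLK.le hchief hab hθ
      (fun g n => Relative.invariant_of_homogeneous hχ hf g n) hφ hres
    have hlt : Nat.card L < m := by
      rw [← hm]
      exact Set.Finite.card_lt_card (Set.toFinite _) hLK
    have h1 := IH _ hlt L rfl hLn φ f' hφ hf'
    have h2 := chief_step p hLK hchief hce
    have hd : natDeg θ = e * natDeg φ := by
      have := congrFun hres 1
      simp only [Pi.smul_apply, smul_eq_mul] at this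
      rw [show (⟨((1 : L) : G), hLK.le (1 : L).2⟩ : K) = 1 from rfl, natDeg_spec hθ, natDeg_spec hφ] at this
      exact_mod_cast this
    have he0 : e ≠ 0 := fun e0 => (natDeg_pos hθ).ne' (by rw [hd, e0, zero_mul])
    have hmm : Nat.card L * L.relIndex K = m := by rw [← hm, ← Subgroup.relIndex_bot_left, ← Subgroup.relIndex_bot_left, Subgroup.relIndex_mul_relIndex ⊥ L K bot_le hLK.le]
    have hr0 : L.relIndex K ≠ 0 := fun e0 => by rw [e0, mul_zero] at hmm; omega
    rw [hd, Nat.factorization_mul he0 (natDeg_pos hφ).ne', ← hmm,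
      Nat.factorization_mul Nat.card_pos.ne' hr0]
    simp only [Finsupp.add_apply, mul_add]
    omega

end CfsgLib.CharDeep.PrimitiveClassSize
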