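import Cfsg.Agent.Lib.CharDeep.ProjExt
import Mathlib.RingTheory.Int.Basic

/-!
# Extension of invariant representations detected on an eigenspace of a supplement

If `E ⊔ N = ⊤`, `N` has `p`-power index and some linear character of `E` has, on `E ⊓ N`, a
multiplicity prime to `p` in an invariant irreducible representation of `N`, then the
representation extends.
-/

namespace CfsgLib.CharDeep.ProjExtEigen

open Module CfsgLib.CharDeep CfsgLib.CharDeep.ProjExt

/-- Homomorphisms on `H` and on a normal subgroup `N`, compatible on `H ⊓ N` and invariant,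
combine to one on `H ⊔ N`. -/
theorem exists_glue {G : Type*} [Group G] {A : Type*} [CommGroup A] {H N : Subgroup G}
    [hN : N.Normal] (hHN : H ⊔ N = ⊤) (D : H →* A) (f : N →* A)
    (hinv : ∀ (g : G) (n : N), f ⟨g * n * g⁻¹, hN.conj_mem n n.2 g⟩ = f n)
    (hagree : ∀ (h : H) (hh : (h : G) ∈ N), D h = f ⟨h, hh⟩) :
    ∃ F : G →* A, (∀ n : N, F n = f n) ∧ ∀ h : H, F h = D h := by
  have hd : ∀ g : G, ∃ (h : H) (n : N), g = h * n := by
    intro g
    have hg : g ∈ H ⊔ N := hHN ▸ Subgroup.mem_top g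
    rw [← SetLike.mem_coe, Subgroup.mul_normal, Set.mem_mul] at hg
    obtain ⟨a, ha, b, hb, rfl⟩ := hg
    exact ⟨⟨a, ha⟩, ⟨b, hb⟩, rfl⟩
  choose hf nf hg using hd
  let F : G → A := fun g => D (hf g) * f (nf g)
  have hF : ∀ (g : G) (h : H) (n : N), g = h * n → F g = D h * f n := by
    intro g h n hgn
    have he : (h : G) * n = hf g * nf g := hgn.symm.trans (hg g)
    have hmem : ((h⁻¹ * hf g : H) : G) ∈ N := by
      have h1 : ((h⁻¹ * hf g : H) : G) = n * (nf g : G)⁻¹ := by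
        simp only [Subgroup.coe_mul, InvMemClass.coe_inv]
        rw [eq_mul_inv_iff_mul_eq, mul_assoc, ← he, inv_mul_cancel_left]
      rw [h1]; exact N.mul_mem n.2 (N.inv_mem (nf g).2)
    have h2 := hagree (h⁻¹ * hf g) hmem
    have h3 : (⟨_, hmem⟩ : N) = n * (nf g)⁻¹ := Subtype.ext (by
      simp only [Subgroup.coe_mul, InvMemClass.coe_inv]
      rw [eq_mul_inv_iff_mul_eq, mul_assoc, ← he, inv_mul_cancel_left])
    rw [h3, map_mul, map_mul, map_inv, map_inv, inv_mul_eq_iff_eq_mul] at h2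
    show D (hf g) * f (nf g) = _
    rw [h2, mul_assoc, inv_mul_cancel_right]
  refine ⟨MonoidHom.mk' F fun a b => ?_, fun n => ?_, fun h => ?_⟩
  · have h1 : a * b = ((hf a * hf b : H) : G) *
        ((⟨((hf b : G))⁻¹ * nf a * hf b, by
          simpa using hN.conj_mem _ (nf a).2 ((hf b : G))⁻¹⟩ * nf b : N) : G) := by
      conv_lhs => rw [hg a, hg b]
      simp [mul_assoc]
    rw [hF _ _ _ h1, map_mul, map_mul]
    show _ = D (hf a) * f (nf a) * (D (hf b) * f (nf b))
    have h4 := hinv ((hf b : G))⁻¹ (nf a)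
    simp only [inv_inv] at h4
    rw [h4, mul_mul_mul_comm]
  · show F n = f n
    rw [hF n 1 n (by simp), map_one, one_mul]
  · show F h = D h
    rw [hF h h 1 (by simp), map_one, mul_one]

variable {G : Type*} [Group G] [Finite G] {N : Subgroup G} [N.Normal] {W : Type*}
  [AddCommGroup W] [Module ℂ W] [FiniteDimensional ℂ W] (ρ : Representation ℂ N W)

/-- The `μ`-eigenspace of `E ⊓ N`. -/
def eigen (E : Subgroup G) (μ : E →* ℂˣ) : Submodule ℂ W where
  carrier := {w | ∀ (x : N) (hx : (x : G) ∈ E), ρ x w = (μ ⟨x, hx⟩ : ℂ) • w}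
  add_mem' := fun ha hb x hx => by rw [map_add, ha x hx, hb x hx, smul_add]
  zero_mem' := fun x hx => by rw [map_zero, smul_zero]
  smul_mem' := fun c w hw x hx => by rw [map_smul, hw x hx, smul_comm]

/-- An invariant irreducible representation extends if the eigenspace has dimension prime to
`p` and the index is a power of `p`. -/
theorem exists_extension_of_eigen [ρ.IsIrreducible] (hinv : Invariant ρ) {E : Subgroup G}
    (hEN : E ⊔ N = ⊤) (μ : E →* ℂˣ) {p : ℕ} (hp : p.Prime) (hidx : ∃ k, N.index = p ^ k)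
    (hm : ¬ p ∣ finrank ℂ (eigen ρ E μ)) :
    ∃ σ : Representation ℂ G W, ∀ n : N, σ n = ρ n := by
  classical
  have := pre_finiteIndex ρ
  set U := eigen ρ E μ with hU
  set m := finrank ℂ U with hmdef
  set C : Subgroup (cover ρ) := E.comap (proj ρ) with hC
  have hstab : ∀ (γ : C) (w : W), w ∈ U → (lin ρ γ.1 : End ℂ W) w ∈ U := by
    intro γ w hw x hx
    set g := proj ρ γ.1 with hg
    have hgE : g ∈ E := γ.2
    set y : N := MulAut.conjNormal g⁻¹ x with hy
    have hyG : (y : G) = g⁻¹ * x * g := by simp [hy]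
    have hyE : (y : G) ∈ E := hyG ▸ E.mul_mem (E.mul_mem (E.inv_mem hgE) hx) hgE
    have hxy : MulAut.conjNormal g y = x := Subtype.ext (by simp [hy, mul_assoc])
    have h1 := LinearMap.congr_fun (lin_mul ρ γ.1 y) w
    rw [← hg, hxy] at h1
    simp only [Module.End.mul_apply] at h1
    rw [← h1, hw y hyE, map_smul]
    congr 2
    have h2 : (⟨(y : G), hyE⟩ : E) = (⟨g, hgE⟩ : E)⁻¹ * ⟨x, hx⟩ * ⟨g, hgE⟩ :=
      Subtype.ext (by simpa using hyG)
    rw [h2, map_mul, map_mul, map_inv, inv_mul_cancel_comm]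
  let Φ : C →* End ℂ U :=
    { toFun := fun γ => ((lin ρ γ.1 : End ℂ W)).restrict (hstab γ)
      map_one' := LinearMap.ext fun w => Subtype.ext (by simp)
      map_mul' := fun a b => LinearMap.ext fun w => Subtype.ext (by simp [Module.End.mul_apply]) }
  let D : C →* ℂˣ :=
    ((Units.map (LinearMap.det : End ℂ U →* ℂ)).comp Φ.toHomUnits) *
      (((zpowGroupHom (-(m : ℤ))).comp μ).comp
        (((proj ρ).comp C.subtype).codRestrict E fun γ => γ.2))
  have hpre : C ⊔ pre ρ = ⊤ := by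
    rw [Subgroup.eq_top_iff']
    intro γ
    have hg : proj ρ γ ∈ E ⊔ N := hEN ▸ Subgroup.mem_top _
    rw [← SetLike.mem_coe, Subgroup.mul_normal, Set.mem_mul] at hg
    obtain ⟨e, he, n, hn, h⟩ := hg
    obtain ⟨δ, hδ⟩ := proj_surjective ρ hinv e
    rw [show γ = δ * (δ⁻¹ * γ) by group]
    refine Subgroup.mul_mem_sup (show proj ρ δ ∈ E from hδ ▸ he) ?_
    show proj ρ (δ⁻¹ * γ) ∈ N
    rw [map_mul, map_inv, hδ, ← h, inv_mul_cancel_left]
    exact hn
  have hagree : ∀ (γ : C) (hγ : (γ : cover ρ) ∈ pre ρ),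
      D γ = (scalar ρ ⟨γ.1, hγ⟩) ^ m := by
    intro γ hγ
    set s := scalar ρ ⟨γ.1, hγ⟩
    set c := μ ⟨proj ρ γ.1, γ.2⟩
    have h1 : Φ γ = ((s : ℂ) * (c : ℂ)) • LinearMap.id := by
      refine LinearMap.ext fun w => Subtype.ext ?_
      show (lin ρ γ.1 : End ℂ W) w = ((s : ℂ) * c) • (w : W)
      rw [scalar_spec ρ ⟨γ.1, hγ⟩, LinearMap.smul_apply, w.2 ⟨_, hγ⟩ γ.2, smul_smul]
    refine Units.ext ?_
    show LinearMap.det (Φ γ) * ((c ^ (-(m : ℤ)) : ℂˣ) : ℂ) = ((s ^ m : ℂˣ) : ℂ)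
    rw [h1, LinearMap.det_smul, LinearMap.det_id, mul_one, ← hmdef, mul_pow, zpow_neg,
      zpow_natCast, Units.val_inv_eq_inv_val, Units.val_pow_eq_pow_val, Units.val_pow_eq_pow_val,
      mul_assoc, mul_inv_cancel₀ (pow_ne_zero _ c.ne_zero), mul_one]
  obtain ⟨F₁, hF₁, -⟩ := exists_glue hpre D ((powMonoidHom m).comp (scalar ρ))
    (fun γ δ => congrArg (· ^ m) (scalar_conj ρ γ δ)) hagree
  obtain ⟨k, hk⟩ := hidx
  have hpidx : (pre ρ).index = p ^ k := by
    rw [Subgroup.index_comap_of_surjective _ (proj_surjective ρ hinv), hk]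
  have hF₂ : ∀ δ : pre ρ, MonoidHom.transfer (scalar ρ) (δ : cover ρ) = scalar ρ δ ^ p ^ k :=
    fun δ => hpidx ▸ CentralExt.transfer_eq_pow_index le_rfl (scalar ρ) (scalar_conj ρ) (scalar ρ)
      (fun _ _ => rfl) δ
  have hgcd : Nat.gcd m (p ^ k) = 1 := Nat.Coprime.pow_right k ((hp.coprime_iff_not_dvd.2 hm).symm)
  have hbez : (1 : ℤ) = m * Nat.gcdA m (p ^ k) + (p ^ k : ℕ) * Nat.gcdB m (p ^ k) := by
    have h := Nat.gcd_eq_gcd_ab m (p ^ k)
    rw [hgcd] at h
    exact_mod_cast h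
  refine exists_extension ρ hinv
    (((zpowGroupHom (Nat.gcdA m (p ^ k))).comp F₁) *
      ((zpowGroupHom (Nat.gcdB m (p ^ k))).comp (MonoidHom.transfer (scalar ρ)))) fun δ => ?_
  simp only [MonoidHom.mul_apply, MonoidHom.comp_apply, zpowGroupHom_apply, hF₁ δ, hF₂ δ,
    powMonoidHom_apply]
  rw [← zpow_natCast, ← zpow_natCast, ← zpow_mul, ← zpow_mul, ← zpow_add, ← hbez, zpow_one]

end CfsgLib.CharDeep.ProjExtEigen
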