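import Cfsg.Agent.Lib.Char.CliffordCorr
import Cfsg.Agent.Lib.Char.Linear
import Cfsg.Agent.Lib.Char.Quotient
import Cfsg.Agent.Lib.Char.Constituent
import Cfsg.Agent.Lib.Blocks.RegularIdemBasic
import Cfsg.Agent.Lib.CharDeep.CentralExt
import Mathlib.GroupTheory.Sylow

/-!
# Characters of odd degree
-/

set_option autoImplicit false
set_option linter.unusedSectionVars false

namespace CfsgLib.CharDeep.RealOdd

open Cfsg CfsgLib
open scoped Classical ComplexConjugate

variable {G : Type*} [Group G]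

/-- Real valued functions. -/
def IsRealFn (f : G → ℂ) : Prop := ∀ g, (f g).im = 0

/-- The real valued irreducible characters of odd degree. -/
abbrev RO (G : Type*) [Group G] : Type _ :=
  {χ : IrrCharacter G // (∀ g : G, ((χ : G → ℂ) g).im = 0) ∧ Odd (charDegree (χ : G → ℂ))}

theorem isRealFn_iff {f : G → ℂ} : IsRealFn f ↔ ∀ g, conj (f g) = f g :=
  forall_congr' fun _ => Complex.conj_eq_iff_im.symm

theorem charDegree_cast {χ : G → ℂ} (h : IsCharacter G χ) : (charDegree χ : ℂ) = χ 1 := by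
  obtain ⟨n, ρ, rfl⟩ := h
  rw [charDegree, Representation.char_one, Module.finrank_fin_fun, Complex.natCast_re,
    Nat.floor_natCast]

variable [Fintype G]

theorem exists_odd_constituent {χ : G → ℂ} (hχ : IsCharacter G χ) (hodd : Odd (charDegree χ)) :
    ∃ φ : IrrCharacter G, classInner χ φ ≠ 0 ∧ Odd (charDegree (φ : G → ℂ)) := by
  obtain ⟨m, hm, hexp⟩ := Char.IsCharacter.exists_multiplicity hχ
  have hdeg : charDegree χ = ∑ φ, m φ * charDegree (φ : G → ℂ) := by
    apply Nat.cast_injective (R := ℂ)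
    rw [charDegree_cast hχ, hexp 1, Nat.cast_sum]
    exact Finset.sum_congr rfl fun φ _ => by
      rw [Nat.cast_mul, charDegree_cast (Char.IsIrrCharacter.isCharacter φ.2)]
  by_contra hcon
  push Not at hcon
  refine Nat.not_odd_iff_even.2 ?_ hodd
  rw [hdeg]
  refine Finset.even_sum _ fun φ _ => Nat.even_mul.2 ?_
  by_cases h : m φ = 0
  · left; rw [h]; exact Even.zero
  · right
    exact Nat.not_odd_iff_even.1 (hcon φ (by rw [hm]; exact Nat.cast_ne_zero.2 h))

theorem exists_real_odd_constituent {χ : G → ℂ} (hχ : IsCharacter G χ) (hreal : IsRealFn χ)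
    (hodd : Odd (charDegree χ)) :
    ∃ φ : IrrCharacter G, classInner χ φ ≠ 0 ∧ IsRealFn (φ : G → ℂ) ∧
      Odd (charDegree (φ : G → ℂ)) := by
  obtain ⟨m, hm, hexp⟩ := Char.IsCharacter.exists_multiplicity hχ
  have hconj : ∀ φ : IrrCharacter G, m (Blocks.irrConj φ) = m φ := by
    intro φ
    apply Nat.cast_injective (R := ℂ)
    rw [← hm, ← hm]
    have h : classInner χ (Blocks.irrConj φ : G → ℂ) = conj (classInner χ (φ : G → ℂ)) := by
      simp only [classInner, map_mul, map_inv₀, map_natCast, map_sum, Blocks.irrConj_apply,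
        Complex.conj_conj, isRealFn_iff.1 hreal]
    rw [h, hm, map_natCast]
  let d : IrrCharacter G → ℕ := fun φ => charDegree (φ : G → ℂ)
  have hd : ∀ φ : IrrCharacter G, d (Blocks.irrConj φ) = d φ := by
    intro φ
    apply Nat.cast_injective (R := ℂ)
    simp only [d]
    rw [charDegree_cast (Char.IsIrrCharacter.isCharacter (Blocks.irrConj φ).2),
      charDegree_cast (Char.IsIrrCharacter.isCharacter φ.2), Blocks.irrConj_apply,
      Blocks.conj_irr, inv_one]
  have hdeg : charDegree χ = ∑ φ, m φ * d φ := by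
    apply Nat.cast_injective (R := ℂ)
    rw [charDegree_cast hχ, hexp 1, Nat.cast_sum]
    exact Finset.sum_congr rfl fun φ _ => by
      rw [Nat.cast_mul, charDegree_cast (Char.IsIrrCharacter.isCharacter φ.2)]
  by_contra hcon
  push Not at hcon
  refine Nat.not_odd_iff_even.2 ?_ hodd
  rw [hdeg, ← ZMod.natCast_eq_zero_iff_even, Nat.cast_sum]
  refine Finset.sum_involution (fun φ _ => Blocks.irrConj φ) (fun φ _ => ?_) (fun φ _ hne => ?_)
    (fun φ _ => Finset.mem_univ _) (fun φ _ => Blocks.irrConj_irrConj φ)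
  · rw [hconj, hd]
    exact CharTwo.add_self_eq_zero _
  · intro hfix
    refine hne ?_
    rw [ZMod.natCast_eq_zero_iff_even, Nat.even_mul]
    by_cases h0 : m φ = 0
    · left; rw [h0]; exact Even.zero
    · right
      refine Nat.not_odd_iff_even.1 (hcon φ (by rw [hm]; exact Nat.cast_ne_zero.2 h0) ?_)
      refine isRealFn_iff.2 fun g => ?_
      rw [← Blocks.irrConj_apply, hfix]

theorem exists_hom_of_pgroup (hG : IsPGroup 2 G) (φ : IrrCharacter G)
    (hodd : Odd (charDegree (φ : G → ℂ))) : ∃ f : G →* ℂˣ, (φ : G → ℂ) = fun g => (f g : ℂ) := by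
  obtain ⟨k, hk⟩ := IsPGroup.iff_card.1 hG
  have h1 := Blocks.charDegree_dvd φ
  rw [hk] at h1
  obtain ⟨j, -, hj⟩ := (Nat.dvd_prime_pow Nat.prime_two).1 h1
  rcases j with _ | j
  · refine Char.exists_hom_of_apply_one_eq_one (Char.IsIrrCharacter.isCharacter φ.2) ?_
    rw [← charDegree_cast (Char.IsIrrCharacter.isCharacter φ.2), hj, pow_zero, Nat.cast_one]
  · exact absurd hodd (Nat.not_odd_iff_even.2 (by rw [hj, pow_succ]; exact ⟨2 ^ j, by ring⟩))

theorem sq_eq_one_of_real (f : G →* ℂˣ) (h : IsRealFn fun g => (f g : ℂ)) (g : G) :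
    f g ^ 2 = 1 := by
  have h1 : conj (f g : ℂ) = (f g⁻¹ : ℂ) :=
    Blocks.conj_irr ⟨_, Char.isIrrCharacter_hom f⟩ g
  rw [isRealFn_iff.1 h g] at h1
  have h2 : f g = f g⁻¹ := Units.ext h1
  rw [map_inv] at h2
  rw [sq]
  nth_rewrite 2 [h2]
  exact mul_inv_cancel _

theorem isRealFn_of_sq (f : G →* ℂˣ) (h : ∀ g, f g ^ 2 = 1) : IsRealFn fun g => (f g : ℂ) := by
  refine isRealFn_iff.2 fun g => ?_
  have h1 : conj (f g : ℂ) = (f g⁻¹ : ℂ) :=
    Blocks.conj_irr ⟨_, Char.isIrrCharacter_hom f⟩ g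
  rw [h1, map_inv, inv_eq_of_mul_eq_one_right (by rw [← sq, h g])]

theorem restrict_classInner_ne_zero {N : Subgroup G} [Fintype N] {χ : G → ℂ} {K : Type*} [Group K]
    [Fintype K] (hχ : IsCharacter G χ) {φ : G → ℂ} (hφ : IsIrrCharacter G φ)
    (h : classInner χ φ ≠ 0) (ι : K →* G) (lam : K →* ℂˣ) (hres : ∀ k, φ (ι k) = lam k) :
    classInner (fun k => χ (ι k)) (fun k => (lam k : ℂ)) ≠ 0 := by
  refine CharDeep.Clifford.classInner_ne_zero_trans hχ hφ h ι
    (Char.isCharacter_hom lam) ?_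
  rw [show φ ∘ ι = fun k => (lam k : ℂ) from funext hres,
    Char.classInner_irr_self (Char.isIrrCharacter_hom lam)]
  exact one_ne_zero

/-- Irreducible characters times a linear character. -/
theorem isIrr_mul_hom (f : G →* ℂˣ) {φ : G → ℂ} (hφ : IsIrrCharacter G φ) :
    IsIrrCharacter G (fun g => (f g : ℂ) * φ g) := by
  refine Char.IsCharacter.isIrrCharacter_of_norm_one
    (Char.IsCharacter.mul (Char.isCharacter_hom f) (Char.IsIrrCharacter.isCharacter hφ)) ?_
  rw [← Char.classInner_irr_self hφ]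
  simp only [classInner, map_mul]
  congr 1
  refine Finset.sum_congr rfl fun x _ => ?_
  have hff : (f x : ℂ) * conj (f x : ℂ) = 1 := by
    rw [Blocks.conj_irr ⟨_, Char.isIrrCharacter_hom f⟩ x]
    show (f x : ℂ) * (f x⁻¹ : ℂ) = 1
    rw [← Units.val_mul, ← map_mul, mul_inv_cancel, map_one, Units.val_one]
  linear_combination (φ x * conj (φ x)) * hff

/-- A real character of odd degree is trivial on an abelian normal subgroup of odd order. -/
theorem trivial_on_odd {N : Subgroup G} [hN : N.Normal] [Fintype N] (hab : ∀ a b : N, a * b = b * a)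
    (hodd : Odd (Nat.card N)) (χ : RO G) : ∀ n ∈ N, (χ.1 : G → ℂ) n = (χ.1 : G → ℂ) 1 := by
  have hres : IsCharacter N fun n : N => (χ.1 : G → ℂ) n :=
    Char.IsCharacter.restrict (Char.IsIrrCharacter.isCharacter χ.1.2) N
  obtain ⟨φ, hne, hreal, -⟩ := exists_real_odd_constituent hres (fun n => χ.2.1 n) χ.2.2
  obtain ⟨f, hf⟩ := Char.exists_hom_of_apply_one_eq_one (Char.IsIrrCharacter.isCharacter φ.2)
    (Char.apply_one_eq_one_of_comm hab φ.2)
  have hf1 : ∀ n : N, f n = 1 := by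
    intro n
    have h2 : f n ^ 2 = 1 := sq_eq_one_of_real f (by rw [← hf]; exact hreal) n
    have h3 : f n ^ Nat.card N = 1 := by rw [← map_pow, pow_card_eq_one', map_one]
    exact orderOf_eq_one_iff.1 (Nat.eq_one_of_dvd_coprimes
      ((Nat.coprime_two_left).2 hodd)
      (orderOf_dvd_of_pow_eq_one h2) (orderOf_dvd_of_pow_eq_one h3))
  rw [show (φ : N → ℂ) = fun _ => 1 from hf.trans (funext fun n => by rw [hf1]; rfl)] at hne
  intro n hn
  have h := Blocks.RegIdem.restrict_eq (N := N) (Char.isIrrCharacter_one (G := N)) (fun _ _ => rfl)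
    (χ := χ.1) hne
  have h1 := h ⟨n, hn⟩
  have h2 := h 1
  rw [Subgroup.coe_one] at h2
  exact h1.trans h2.symm

theorem real_odd_congr {H : Type*} [Group H] [Fintype H] (e : G ≃* H) :
    Nat.card (RO G) = Nat.card (RO H) := by
  refine Nat.card_congr
    { toFun := fun χ => ⟨⟨(χ.1 : G → ℂ) ∘ e.symm,
        Char.IsIrrCharacter.comp_equiv χ.1.2 e.symm⟩, fun h => χ.2.1 _, ?_⟩
      invFun := fun χ => ⟨⟨(χ.1 : H → ℂ) ∘ e,
        Char.IsIrrCharacter.comp_equiv χ.1.2 e⟩, fun g => χ.2.1 _, ?_⟩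
      left_inv := fun χ => Subtype.ext (Subtype.ext (funext fun g => by simp))
      right_inv := fun χ => Subtype.ext (Subtype.ext (funext fun g => by simp)) }
  · simpa [charDegree] using χ.2.2
  · simpa [charDegree] using χ.2.2

theorem card_RO_quotient (N : Subgroup G) [N.Normal] :
    Nat.card (RO (G ⧸ N)) =
      Nat.card {χ : RO G // ∀ n ∈ N, (χ.1 : G → ℂ) n = (χ.1 : G → ℂ) 1} := by
  refine Nat.card_congr (Equiv.ofBijective
    (fun ψ => ⟨⟨(Char.irrQuotientEquiv N ψ.1).1, fun g => ψ.2.1 _, ?_⟩,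
      (Char.irrQuotientEquiv N ψ.1).2⟩) ⟨fun a b h => ?_, fun χ => ?_⟩)
  · show Odd (charDegree ((ψ.1 : G ⧸ N → ℂ) ∘ QuotientGroup.mk' N))
    simpa [charDegree] using ψ.2.2
  · have h1 := congrArg (fun x => x.1.1) h
    exact Subtype.ext ((Char.irrQuotientEquiv N).injective (Subtype.ext h1))
  · obtain ⟨ψ, hψ⟩ := (Char.irrQuotientEquiv N).surjective ⟨χ.1.1, χ.2⟩
    have hval : (ψ : G ⧸ N → ℂ) ∘ QuotientGroup.mk' N = (χ.1.1 : G → ℂ) :=
      congrArg (fun x => (x.1 : G → ℂ)) hψ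
    refine ⟨⟨ψ, fun q => ?_, ?_⟩, Subtype.ext (Subtype.ext ?_)⟩
    · obtain ⟨g, rfl⟩ := QuotientGroup.mk'_surjective N q
      rw [show (ψ : G ⧸ N → ℂ) (QuotientGroup.mk' N g) = (χ.1.1 : G → ℂ) g from congrFun hval g]
      exact χ.1.2.1 g
    · have h2 := χ.1.2.2
      rw [← hval] at h2
      simpa [charDegree] using h2
    · exact Subtype.ext hval

/-- Transfer of a linear character along a subgroup of finite index. -/
theorem exists_transfer_ext {N P : Subgroup G} [hN : N.Normal] (hNP : N ≤ P) (lam : N →* ℂˣ)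
    (hinv : ∀ (g : G) (n : N), lam ⟨g * n * g⁻¹, hN.conj_mem n n.2 g⟩ = lam n)
    (μ : P →* ℂˣ) (hμ : ∀ n : N, μ ⟨n, hNP n.2⟩ = lam n) :
    ∃ η : G →* ℂˣ, (∀ n : N, η n = lam n ^ P.index) ∧
      ((∀ x, μ x ^ 2 = 1) → ∀ g, η g ^ 2 = 1) := by
  refine ⟨MonoidHom.transfer μ, fun n =>
    CentralExt.transfer_eq_pow_index hNP lam hinv μ (fun m hm => hμ m) n, fun h g => ?_⟩
  rw [MonoidHom.transfer_eq_prod_quotient_orbitRel_zpowers_quot, ← Finset.prod_pow]
  exact Finset.prod_eq_one fun q _ => h _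

theorem pow_odd_eq_of_sq {M : Type*} [Monoid M] {a : M} (h : a ^ 2 = 1) {i : ℕ} (hi : Odd i) :
    a ^ i = a := by
  obtain ⟨j, rfl⟩ := hi
  rw [pow_add, pow_one, pow_mul, h, one_pow, one_mul]

/-- Multiplication by a real extension identifies the real odd characters over `η` with those of
the quotient. -/
theorem card_RO_over_extension (N : Subgroup G) [N.Normal] (η : G →* ℂˣ) (hη : ∀ g, η g ^ 2 = 1) :
    Nat.card {χ : RO G // ∀ n ∈ N, (χ.1 : G → ℂ) n = (χ.1 : G → ℂ) 1 * η n} =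
      Nat.card (RO (G ⧸ N)) := by
  rw [card_RO_quotient]
  have hηη : ∀ g, (η g : ℂ) * (η g : ℂ) = 1 := fun g => by
    rw [← Units.val_mul, ← sq, hη, Units.val_one]
  have hreal := isRealFn_iff.1 (isRealFn_of_sq η hη)
  let tw : RO G → RO G := fun χ =>
    ⟨⟨fun g => (η g : ℂ) * (χ.1 : G → ℂ) g, isIrr_mul_hom η χ.1.2⟩, by
      refine ⟨fun g => Complex.conj_eq_iff_im.1 ?_, ?_⟩
      · show conj ((η g : ℂ) * (χ.1 : G → ℂ) g) = _
        rw [map_mul, hreal g, Complex.conj_eq_iff_im.2 (χ.2.1 g)]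
      · simpa [charDegree] using χ.2.2⟩
  have htw : ∀ χ, tw (tw χ) = χ := fun χ => Subtype.ext (Subtype.ext (funext fun g => by
    show (η g : ℂ) * ((η g : ℂ) * _) = _
    rw [← mul_assoc, hηη, one_mul]))
  refine Nat.card_congr
    { toFun := fun χ => ⟨tw χ.1, fun n hn => ?_⟩
      invFun := fun χ => ⟨tw χ.1, fun n hn => ?_⟩
      left_inv := fun χ => Subtype.ext (htw _)
      right_inv := fun χ => Subtype.ext (htw _) }
  · show (η n : ℂ) * _ = (η 1 : ℂ) * _
    rw [χ.2 n hn, map_one, Units.val_one, one_mul, mul_left_comm, hηη, mul_one]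
  · show (η n : ℂ) * _ = (η 1 : ℂ) * _ * _
    rw [χ.2 n hn, map_one, Units.val_one, one_mul, mul_comm]

end CfsgLib.CharDeep.RealOdd
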