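import Cfsg.Agent.Lib.CharDeep.RealOddBasic

/-!
# Counting real characters of odd degree over a normal 2-subgroup
-/

set_option autoImplicit false
set_option linter.unusedSectionVars false

namespace CfsgLib.CharDeep.RealOdd

open Cfsg CfsgLib CfsgLib.Blocks.RegIdem
open scoped Classical ComplexConjugate

variable {G : Type*} [Group G] (P : Sylow 2 G) (N : Subgroup G) (hNP : N ≤ (P : Subgroup G))

/-- The linear characters of `N` with a real extension to `P`. -/
abbrev LE : Type _ :=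
  {lam : N →* ℂˣ // ∃ μ : (P : Subgroup G) →* ℂˣ, (∀ x, μ x ^ 2 = 1) ∧
    ∀ n : N, μ ⟨n, hNP n.2⟩ = lam n}

/-- A linear character as a function. -/
def lfun {N : Type*} [Group N] (lam : N →* ℂˣ) : N → ℂ := fun n => (lam n : ℂ)

variable [hN : N.Normal]

/-- Conjugacy under the normalizer of `P`. -/
instance leSetoid : Setoid (LE P N hNP) where
  r a b := ∃ g ∈ Subgroup.normalizer ((P : Subgroup G) : Set G),
    ∀ n : N, b.1 n = a.1 ⟨g * n * g⁻¹, hN.conj_mem n n.2 g⟩
  iseqv :=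
    { refl := fun a => ⟨1, one_mem _, fun n => congrArg a.1 (Subtype.ext (by simp))⟩
      symm := fun {a b} ⟨g, hg, h⟩ => ⟨g⁻¹, inv_mem hg, fun n => by
        rw [h ⟨g⁻¹ * n * g⁻¹⁻¹, hN.conj_mem n n.2 g⁻¹⟩]
        exact congrArg a.1 (Subtype.ext (by simp [mul_assoc]))⟩
      trans := fun {a b c} ⟨g, hg, h⟩ ⟨k, hk, h'⟩ => ⟨g * k, mul_mem hg hk, fun n => by
        rw [h' n, h ⟨k * n * k⁻¹, hN.conj_mem n n.2 k⟩]
        exact congrArg a.1 (Subtype.ext (by simp [mul_assoc]))⟩ }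

instance finite_LE [Finite G] : Finite (LE P N hNP) := by
  cases nonempty_fintype G
  refine Finite.of_injective
    (fun a => (⟨lfun a.1, Char.isIrrCharacter_hom a.1⟩ : IrrCharacter N)) fun a b h =>
      Subtype.ext (MonoidHom.ext fun n => Units.ext (congrFun (congrArg Subtype.val h) n))

noncomputable instance fintype_LE_quotient [Finite G] : Fintype (Quotient (leSetoid P N hNP)) :=
  Fintype.ofFinite _

theorem le_stab_lfun (a : LE P N hNP) : (P : Subgroup G) ≤ Char.stab (lfun a.1) := by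
  intro x hx
  obtain ⟨μ, -, hμ⟩ := a.2
  rw [Char.mem_stab]
  funext n
  show (a.1 ⟨x * n * x⁻¹, hN.conj_mem n n.2 x⟩ : ℂ) = (a.1 n : ℂ)
  rw [← hμ, ← hμ, show (⟨x * n * x⁻¹, hNP (hN.conj_mem n n.2 x)⟩ : (P : Subgroup G)) =
    ⟨x, hx⟩ * ⟨n, hNP n.2⟩ * ⟨x, hx⟩⁻¹ from rfl, map_mul, map_mul, map_inv,
    mul_comm (μ ⟨x, hx⟩), mul_inv_cancel_right]

variable [Fintype G]

theorem odd_index_subgroupOf {T : Subgroup G} (hPT : (P : Subgroup G) ≤ T) :
    Odd ((P : Subgroup G).subgroupOf T).index :=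
  Nat.not_even_iff_odd.1 fun h => P.not_dvd_index
    (h.two_dvd.trans (Subgroup.relIndex_dvd_index_of_le hPT))

theorem odd_index_of_le {T : Subgroup G} (hPT : (P : Subgroup G) ≤ T) : Odd T.index :=
  Nat.not_even_iff_odd.1 fun h => P.not_dvd_index
    (h.two_dvd.trans (Subgroup.index_dvd_of_le hPT))

/-- A real odd character lies over some such linear character. -/
theorem exists_LE (χ : RO G) : ∃ a : LE P N hNP, χ.1 ∈ lying N (lfun a.1) := by
  have hres : IsCharacter (P : Subgroup G) fun x : (P : Subgroup G) => (χ.1 : G → ℂ) x :=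
    Char.IsCharacter.restrict (Char.IsIrrCharacter.isCharacter χ.1.2) _
  obtain ⟨φ, hne, hreal, hodd⟩ := exists_real_odd_constituent hres (fun x => χ.2.1 x) χ.2.2
  obtain ⟨μ, hμ⟩ := exists_hom_of_pgroup P.2 φ hodd
  refine ⟨⟨μ.comp (Subgroup.inclusion hNP), μ,
    fun x => sq_eq_one_of_real μ (by rw [← hμ]; exact hreal) x, fun n => rfl⟩, ?_⟩
  exact restrict_classInner_ne_zero (N := N.subgroupOf (P : Subgroup G)) hres φ.2 hne
    (Subgroup.inclusion hNP) (μ.comp (Subgroup.inclusion hNP)) (fun k => congrFun hμ _)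

theorem lying_eq_of_rel {a b : LE P N hNP} (h : leSetoid P N hNP a b) :
    lying N (lfun b.1) = lying N (lfun a.1) := by
  obtain ⟨g, -, hg⟩ := h
  rw [show lfun b.1 = Char.conjG (lfun a.1) g from funext fun n => by
    show (b.1 n : ℂ) = _
    rw [hg n]; rfl]
  exact over_conjG _ g

/-- Two such characters under one real odd character are conjugate under the normalizer. -/
theorem rel_of_lying {χ : IrrCharacter G} {a b : LE P N hNP} (ha : χ ∈ lying N (lfun a.1))
    (hb : χ ∈ lying N (lfun b.1)) : leSetoid P N hNP a b := by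
  obtain ⟨g, hg⟩ := over_unique (Char.isIrrCharacter_hom a.1) (Char.isIrrCharacter_hom b.1) χ ha hb
  change lfun b.1 = Char.conjG (lfun a.1) g at hg
  set T := Char.stab (lfun a.1)
  have hPT : (P : Subgroup G) ≤ T := le_stab_lfun P N hNP a
  have hgT : ((g • P : Sylow 2 G) : Subgroup G) ≤ T := by
    intro y hy
    rw [Sylow.coe_subgroup_smul, Subgroup.mem_pointwise_smul_iff_inv_smul_mem] at hy
    have hy' : g⁻¹ * y * g ∈ Char.stab (lfun b.1) := by
      apply le_stab_lfun P N hNP b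
      simpa [mul_assoc] using hy
    rw [Char.mem_stab, hg, Char.conjG_mul] at hy'
    rw [Char.mem_stab]
    have h2 := congrArg (fun θ => Char.conjG θ g⁻¹) hy'
    simpa [Char.conjG_mul, Char.conjG_one, mul_assoc] using h2
  obtain ⟨t, ht⟩ := MulAction.exists_smul_eq T
    ((g • P : Sylow 2 G).subtype hgT) (P.subtype hPT)
  rw [Sylow.smul_subtype] at ht
  have heq := Sylow.subtype_injective ht
  have hnorm : (t : G) * g ∈ Subgroup.normalizer ((P : Subgroup G) : Set G) := by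
    refine Sylow.smul_eq_iff_mem_normalizer.1 ?_
    rw [mul_smul]
    exact heq
  refine ⟨(t : G) * g, hnorm, fun n => Units.ext ?_⟩
  have h3 : Char.conjG (lfun a.1) ((t : G) * g) = lfun b.1 := by
    rw [← Char.conjG_mul, Char.mem_stab.1 t.2, ← hg]
  exact (congrFun h3 n).symm

/-- The real odd characters over one linear character. -/
theorem card_over (a : LE P N hNP) :
    Nat.card {χ : RO G // χ.1 ∈ lying N (lfun a.1)} =
      Nat.card (RO (Char.stab (lfun a.1) ⧸ N.subgroupOf (Char.stab (lfun a.1)))) := by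
  set θ := lfun a.1 with hθdef
  set T := Char.stab θ with hTdef
  have hθ : IsIrrCharacter N θ := Char.isIrrCharacter_hom a.1
  have hPT : (P : Subgroup G) ≤ T := le_stab_lfun P N hNP a
  have hNT : N ≤ T := hNP.trans hPT
  have hIn : Char.IsInertia θ T := Char.isInertia_stab θ
  let e : N.subgroupOf T ≃* N := Subgroup.subgroupOfEquivOfLe hNT
  obtain ⟨μ, hμ2, hμ⟩ := a.2
  have hinv : ∀ (t : T) (x : N.subgroupOf T),
      θ (e ⟨t * x * t⁻¹, (inferInstance : (N.subgroupOf T).Normal).conj_mem x x.2 t⟩) =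
        θ (e x) := fun t x =>
    (congrArg θ (Subtype.ext rfl)).trans ((hIn t).1 t.2 (e x))
  obtain ⟨η, hη, hη2⟩ := exists_transfer_ext (N := N.subgroupOf T)
    (P := (P : Subgroup G).subgroupOf T) (fun x hx => hNP hx) (a.1.comp e.toMonoidHom)
    (fun t x => Units.ext (hinv t x))
    (μ.comp (Subgroup.subgroupOfEquivOfLe hPT).toMonoidHom) (fun x => hμ (e x))
  have hηsq : ∀ t, η t ^ 2 = 1 := hη2 fun x => hμ2 _
  have hηN : ∀ x : N.subgroupOf T, (η x : ℂ) = θ (e x) := fun x => by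
    rw [hη x, pow_odd_eq_of_sq ?_ (odd_index_subgroupOf P hPT)]
    · rfl
    · show a.1 (e x) ^ 2 = 1
      rw [← hμ, hμ2]
  rw [← card_RO_over_extension (N.subgroupOf T) η hηsq]
  symm
  have hover : ∀ ψ : {ψ : RO T // ∀ n ∈ N.subgroupOf T, (ψ.1 : T → ℂ) n = (ψ.1 : T → ℂ) 1 * η n},
      classInner (Char.resLe hNT (ψ.1.1 : T → ℂ)) θ ≠ 0 := by
    intro ψ
    have h1 : Char.resLe hNT (ψ.1.1 : T → ℂ) = (ψ.1.1 : T → ℂ) 1 • θ := funext fun n => by
      show (ψ.1.1 : T → ℂ) ⟨n, hNT n.2⟩ = _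
      rw [ψ.2 ⟨n, hNT n.2⟩ n.2, hηN ⟨⟨n, hNT n.2⟩, n.2⟩]
      rfl
    rw [h1, Char.classInner_smul_left, Char.classInner_irr_self hθ, mul_one]
    exact Blocks.irr_one_ne_zero ψ.1.1
  have hdeg : ∀ ψ : T → ℂ, IsCharacter T ψ →
      charDegree (Cfsg.indFun T ψ) = T.index * charDegree ψ := by
    intro ψ hψ
    apply Nat.cast_injective (R := ℂ)
    rw [charDegree_cast (Char.IsCharacter.indFun T hψ), Char.indFun_one, Nat.cast_mul,
      charDegree_cast hψ]
  have hTodd : Odd T.index := odd_index_of_le P hPT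
  refine Nat.card_congr (Equiv.ofBijective (fun ψ =>
    ⟨⟨⟨Cfsg.indFun T (ψ.1.1 : T → ℂ),
        (Char.indFun_inertia hNT hθ hIn ψ.1.1.2 (hover ψ)).1⟩, ?_, ?_⟩, ?_⟩) ⟨?_, ?_⟩)
  · intro g
    refine Complex.conj_eq_iff_im.1 ?_
    have h := congrFun (Char.indFun_conj T (ψ.1.1 : T → ℂ)) g
    rw [show (fun t : T => conj ((ψ.1.1 : T → ℂ) t)) = (ψ.1.1 : T → ℂ) from
      funext (isRealFn_iff.1 ψ.1.2.1)] at h
    exact h.symm
  · show Odd (charDegree (Cfsg.indFun T _))
    rw [hdeg _ (Char.IsIrrCharacter.isCharacter ψ.1.1.2)]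
    exact hTodd.mul ψ.1.2.2
  · show classInner (fun n : N => Cfsg.indFun T (ψ.1.1 : T → ℂ) n) θ ≠ 0
    rw [(Char.indFun_inertia hNT hθ hIn ψ.1.1.2 (hover ψ)).2]
    exact hover ψ
  · intro ψ ψ' h
    exact Subtype.ext (Subtype.ext (Subtype.ext (Char.indFun_inertia_inj hNT hθ hIn ψ.1.1.2
      (hover ψ) ψ'.1.1.2 (hover ψ') (congrArg (fun χ => (χ.1.1 : G → ℂ)) h))))
  · intro χ
    obtain ⟨ψ, hψ, hne, he⟩ := Char.exists_eq_indFun_inertia hNT hθ hIn χ.1.1.2 χ.2
    have hodd : Odd (charDegree ψ) := by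
      have h := χ.1.2.2
      rw [he, hdeg ψ (Char.IsIrrCharacter.isCharacter hψ)] at h
      exact (Nat.odd_mul.1 h).2
    have hθreal : ∀ n, conj (θ n) = θ n := isRealFn_iff.1 (isRealFn_of_sq a.1 fun n => by
      rw [← hμ, hμ2])
    have hψc : IsIrrCharacter T (fun t => conj (ψ t)) := (Blocks.irrConj ⟨ψ, hψ⟩).2
    have hnec : classInner (Char.resLe hNT fun t => conj (ψ t)) θ ≠ 0 := by
      have h : classInner (Char.resLe hNT fun t => conj (ψ t)) θ =
          conj (classInner (Char.resLe hNT ψ) θ) := by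
        simp only [classInner, map_mul, map_inv₀, map_natCast, map_sum, Char.resLe,
          Complex.conj_conj, hθreal]
      rw [h]
      exact fun h0 => hne ((map_eq_zero _).1 h0)
    have hψreal : (fun t => conj (ψ t)) = ψ := by
      refine Char.indFun_inertia_inj hNT hθ hIn hψc hnec hψ hne ?_
      rw [Char.indFun_conj, ← he]
      exact funext fun g => Complex.conj_eq_iff_im.2 (χ.1.2.1 g)
    refine ⟨⟨⟨⟨ψ, hψ⟩, fun t => Complex.conj_eq_iff_im.1 (congrFun hψreal t), hodd⟩, ?_⟩,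
      Subtype.ext (Subtype.ext (Subtype.ext he.symm))⟩
    intro n hn
    have h := restrict_eq (N := N.subgroupOf T) (θ := θ ∘ e) (Char.IsIrrCharacter.comp_equiv hθ e)
      hinv (χ := ⟨ψ, hψ⟩) (by
        show classInner (fun x : N.subgroupOf T => ψ x) _ ≠ 0
        rw [show (θ ∘ e) = fun x : N.subgroupOf T =>
          θ ⟨(x : T), Subgroup.mem_subgroupOf.mp x.2⟩ from rfl, Char.classInner_resLe hNT ψ θ]
        exact hne)
    have h1 := h ⟨n, hn⟩
    have h2 := h 1
    rw [Subgroup.coe_one, Function.comp_apply, map_one,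
      show θ 1 = 1 by simp [hθdef, lfun], mul_one] at h2
    show ψ n = ψ 1 * _
    rw [show ψ 1 = _ from h2, hηN ⟨n, hn⟩]
    exact h1

/-- The number of real odd characters. -/
theorem card_RO_eq_sum (sec : Quotient (leSetoid P N hNP) → LE P N hNP)
    (hsec : ∀ q, Quotient.mk _ (sec q) = q) :
    Nat.card (RO G) = ∑ q : Quotient (leSetoid P N hNP),
      Nat.card (RO (Char.stab (lfun (sec q).1) ⧸
        N.subgroupOf (Char.stab (lfun (sec q).1)))) := by
  choose κ hκ using exists_LE P N hNP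
  rw [← Nat.card_congr (Equiv.sigmaFiberEquiv fun χ : RO G =>
    (Quotient.mk (leSetoid P N hNP) (κ χ))), Nat.card_sigma]
  refine Finset.sum_congr rfl fun q _ => ?_
  rw [← card_over P N hNP (sec q)]
  refine Nat.card_congr (Equiv.subtypeEquivRight fun χ => ⟨fun h => ?_, fun h => ?_⟩)
  · exact lying_eq_of_rel P N hNP (Quotient.exact (h.trans (hsec q).symm)) ▸ hκ χ
  · exact (Quotient.sound (rel_of_lying P N hNP (hκ χ) h)).trans (hsec q)

end CfsgLib.CharDeep.RealOdd
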