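import Cfsg.Agent.Lib.CharDeep.RealOddCount
import Cfsg.Agent.Lib.Solvable.Basic
import Cfsg.Agent.Lib.PGroup.Frattini

/-!
# Real characters of odd degree of solvable groups
-/

set_option autoImplicit false
set_option linter.unusedSectionVars false

namespace CfsgLib.CharDeep.RealOdd

open Cfsg CfsgLib CfsgLib.Blocks.RegIdem
open scoped Classical ComplexConjugate

variable {G : Type*} [Group G] [Fintype G]

theorem le_sylow_of_normal {p : ℕ} [Fact p.Prime] (P : Sylow p G) {N : Subgroup G} [hN : N.Normal]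
    (hp : IsPGroup p N) : N ≤ (P : Subgroup G) := by
  obtain ⟨P1, hP1⟩ := hp.exists_le_sylow
  obtain ⟨g, rfl⟩ := MulAction.exists_smul_eq G P1 P
  intro n hn
  rw [Sylow.coe_subgroup_smul, Subgroup.mem_pointwise_smul_iff_inv_smul_mem]
  apply hP1
  simpa [mul_assoc] using hN.conj_mem n hn g⁻¹

/-- The normalizer of a Sylow subgroup maps onto that of its image. -/
theorem normalizer_map_sylow (P : Sylow 2 G) (N : Subgroup G) [hN : N.Normal] :
    Subgroup.normalizer (((P.mapSurjective (QuotientGroup.mk'_surjective N) : Sylow 2 (G ⧸ N)) :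
        Subgroup (G ⧸ N)) : Set (G ⧸ N)) =
      (Subgroup.normalizer ((P : Subgroup G) : Set G)).map (QuotientGroup.mk' N) := by
  set π := QuotientGroup.mk' N with hπ
  apply le_antisymm
  · intro q hq
    obtain ⟨g, rfl⟩ := QuotientGroup.mk'_surjective N q
    set K := (P : Subgroup G) ⊔ N with hK
    have hgK : ((g • P : Sylow 2 G) : Subgroup G) ≤ K := by
      intro y hy
      rw [Sylow.coe_subgroup_smul, Subgroup.mem_pointwise_smul_iff_inv_smul_mem] at hy
      have h1 : π (g⁻¹ * y * g) ∈ (P : Subgroup G).map π :=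
        ⟨g⁻¹ * y * g, by have := hy; simp [mul_assoc] at this ⊢; exact this, rfl⟩
      rw [Subgroup.mem_normalizer_iff] at hq
      have h2 := (hq _).1 (by rw [Sylow.coe_mapSurjective]; exact h1)
      rw [Sylow.coe_mapSurjective, ← map_inv, ← map_mul, ← map_mul] at h2
      have h3 : y ∈ ((P : Subgroup G).map π).comap π := by
        rw [Subgroup.mem_comap]
        rwa [show g * (g⁻¹ * y * g) * g⁻¹ = y by group] at h2
      rwa [Subgroup.comap_map_eq, hπ, QuotientGroup.ker_mk'] at h3
    have hPK : (P : Subgroup G) ≤ K := le_sup_left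
    obtain ⟨t, ht⟩ := MulAction.exists_smul_eq K ((g • P : Sylow 2 G).subtype hgK) (P.subtype hPK)
    rw [Sylow.smul_subtype] at ht
    have heq := Sylow.subtype_injective ht
    have hnorm : (t : G) * g ∈ Subgroup.normalizer ((P : Subgroup G) : Set G) := by
      refine Sylow.smul_eq_iff_mem_normalizer.1 ?_
      rw [mul_smul]
      exact heq
    obtain ⟨x, hx, n, hn, hxn⟩ := Subgroup.mem_sup_of_normal_right.1 t.2
    refine ⟨x⁻¹ * ((t : G) * g), Subgroup.mul_mem _
      (Subgroup.le_normalizer (inv_mem hx)) hnorm, ?_⟩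
    rw [← hxn]
    simp [(QuotientGroup.eq_one_iff n).2 hn]
  · rintro _ ⟨g, hg, rfl⟩
    rw [Subgroup.mem_normalizer_iff]
    intro q
    rw [Sylow.coe_mapSurjective]
    constructor
    · rintro ⟨x, hx, rfl⟩
      exact ⟨g * x * g⁻¹, (Subgroup.mem_normalizer_iff.1 hg x).1 hx, by simp⟩
    · rintro ⟨x, hx, he⟩
      refine ⟨g⁻¹ * x * g, ?_, ?_⟩
      · apply (Subgroup.mem_normalizer_iff.1 hg _).2
        simp [mul_assoc]
        exact hx
      · rw [map_mul, map_mul, map_inv, he]; simp [mul_assoc]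

theorem card_RO_emb {A : Type*} [Group A] [Fintype A] (N : Subgroup G) [N.Normal] (S : Subgroup G)
    (a : A →* G) (ha : Function.Injective a) (hS : a.range = S) :
    Nat.card (RO (A ⧸ N.comap a)) = Nat.card (RO (S ⧸ N.subgroupOf S)) := by
  subst hS
  refine real_odd_congr (QuotientGroup.congr _ _ (MonoidHom.ofInjective ha) ?_)
  ext x
  constructor
  · rintro ⟨y, hy, rfl⟩
    exact hy
  · intro hx
    obtain ⟨y, rfl⟩ := (MonoidHom.ofInjective ha).surjective x
    exact ⟨y, hx, rfl⟩

theorem card_RO_normalizer_quotient (P : Sylow 2 G) (N : Subgroup G) [N.Normal] :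
    Nat.card (RO (Subgroup.normalizer (((P.mapSurjective (QuotientGroup.mk'_surjective N) :
      Sylow 2 (G ⧸ N)) : Subgroup (G ⧸ N)) : Set (G ⧸ N)))) =
    Nat.card (RO (Subgroup.normalizer ((P : Subgroup G) : Set G) ⧸
      N.subgroupOf (Subgroup.normalizer ((P : Subgroup G) : Set G)))) := by
  set H := Subgroup.normalizer ((P : Subgroup G) : Set G) with hH
  rw [normalizer_map_sylow P N]
  let f := (QuotientGroup.mk' N).subgroupMap H
  have hf : Function.Surjective f := (QuotientGroup.mk' N).subgroupMap_surjective H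
  have hker : f.ker = N.subgroupOf H := by
    ext x
    rw [MonoidHom.mem_ker, Subgroup.mem_subgroupOf, ← QuotientGroup.eq_one_iff, ← Subtype.coe_inj]
    rfl
  exact real_odd_congr ((QuotientGroup.quotientMulEquivOfEq hker.symm).trans
    (QuotientGroup.quotientKerEquivOfSurjective f hf)).symm

theorem abelian_subgroupOf {N : Subgroup G} (hab : ∀ a b : N, a * b = b * a) (H : Subgroup G) :
    ∀ a b : N.subgroupOf H, a * b = b * a := fun a b =>
  Subtype.ext (Subtype.ext (by
    simpa using congrArg Subtype.val (hab ⟨((a : H) : G), a.2⟩ ⟨((b : H) : G), b.2⟩)))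

theorem card_RO_eq_quotient {N : Subgroup G} [N.Normal] (hab : ∀ a b : N, a * b = b * a)
    (hodd : Odd (Nat.card N)) : Nat.card (RO G) = Nat.card (RO (G ⧸ N)) := by
  rw [card_RO_quotient]
  exact (Nat.card_congr (Equiv.subtypeUnivEquiv fun χ => trivial_on_odd hab hodd χ)).symm

/-- The counting statement. -/
theorem card_RO_eq_normalizer.{u} (n : ℕ) : ∀ (G : Type u) [Group G] [Fintype G]
    [Group.IsSolvable G], Nat.card G = n → ∀ P : Sylow 2 G,
      Nat.card (RO G) = Nat.card (RO (Subgroup.normalizer ((P : Subgroup G) : Set G))) := by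
  induction n using Nat.strong_induction_on with
  | _ n ih =>
  intro G _ _ _ hn P
  set H := Subgroup.normalizer ((P : Subgroup G) : Set G) with hH
  by_cases htop : H = ⊤
  · rw [htop]; exact real_odd_congr Subgroup.topEquiv.symm
  have hne : (⊤ : Subgroup G) ≠ ⊥ := fun h => htop (eq_top_iff.2 (h ▸ bot_le))
  obtain ⟨N, p, hp, hN, hNb, -, hNab, hNp, -⟩ := Solvable.Basic.exists_minimal_normal_pgroup hne
  have hab : ∀ a b : N, a * b = b * a := fun a b => hNab.is_comm.comm a b
  have := Fact.mk hp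
  by_cases hp2 : p = 2
  · subst hp2
    have hNP : N ≤ (P : Subgroup G) := le_sylow_of_normal P hNp
    let e : N.subgroupOf H ≃* N :=
      Subgroup.subgroupOfEquivOfLe (hNP.trans Subgroup.le_normalizer)
    let eP : ((P : Subgroup G).subgroupOf H) ≃* (P : Subgroup G) :=
      Subgroup.subgroupOfEquivOfLe Subgroup.le_normalizer
    let P' : Sylow 2 H := P.subtype Subgroup.le_normalizer
    let N' := N.subgroupOf H
    have hNP' : N' ≤ (P' : Subgroup H) := fun x hx => hNP hx
    let E : LE P' N' hNP' ≃ LE P N hNP :=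
      { toFun := fun a => ⟨a.1.comp e.symm.toMonoidHom, by
          obtain ⟨μ, h2, hμ⟩ := a.2
          exact ⟨μ.comp eP.symm.toMonoidHom, fun x => h2 _, fun m => hμ (e.symm m)⟩⟩
        invFun := fun a => ⟨a.1.comp e.toMonoidHom, by
          obtain ⟨μ, h2, hμ⟩ := a.2
          exact ⟨μ.comp eP.toMonoidHom, fun x => h2 _, fun m => hμ (e m)⟩⟩
        left_inv := fun a => Subtype.ext (MonoidHom.ext fun x => congrArg a.1 (e.symm_apply_apply x))
        right_inv := fun a => Subtype.ext (MonoidHom.ext fun x => congrArg a.1 (e.apply_symm_apply x)) }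
    have hrel : ∀ a b, leSetoid P' N' hNP' a b ↔ leSetoid P N hNP (E a) (E b) := by
      intro a b
      constructor
      · rintro ⟨g, -, hg⟩
        exact ⟨g, g.2, fun m => (hg (e.symm m)).trans (congrArg a.1 (Subtype.ext (Subtype.ext rfl)))⟩
      · rintro ⟨g, hg, hgm⟩
        refine ⟨⟨g, hg⟩, ?_, fun x => ?_⟩
        · rw [Subgroup.mem_normalizer_iff]
          exact fun y => Subgroup.mem_normalizer_iff.1 hg y
        · have h := hgm (e x)
          change b.1 (e.symm (e x)) = a.1 (e.symm _) at h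
          rw [e.symm_apply_apply] at h
          exact h.trans (congrArg a.1 (Subtype.ext (Subtype.ext rfl)))
    let Eq' : Quotient (leSetoid P' N' hNP') ≃ Quotient (leSetoid P N hNP) :=
      Quotient.congr E hrel
    let sec : Quotient (leSetoid P N hNP) → LE P N hNP := fun q => E (Eq'.symm q).out
    have hsec : ∀ q, Quotient.mk _ (sec q) = q := by
      intro q
      have h : Eq' (Quotient.mk _ (Eq'.symm q).out) = Quotient.mk _ (sec q) := rfl
      rw [← h, Quotient.out_eq, Equiv.apply_symm_apply]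
    rw [card_RO_eq_sum P N hNP sec hsec,
      card_RO_eq_sum P' N' hNP' Quotient.out Quotient.out_eq]
    symm
    refine Fintype.sum_equiv Eq' _ _ fun q' => ?_
    have hsecq : sec (Eq' q') = E q'.out := by simp [sec]
    rw [hsecq]
    set a' := q'.out
    set T := Char.stab (lfun (E a').1) with hT
    have hPT : (P : Subgroup G) ≤ T := le_stab_lfun P N hNP (E a')
    -- the subgroup side
    have hmem : ∀ g : H, g ∈ Char.stab (lfun a'.1) ↔ (g : G) ∈ T := by
      intro g
      rw [Char.mem_stab, hT, Char.mem_stab, funext_iff, funext_iff]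
      constructor
      · intro h m
        refine Eq.trans ?_ (h (e.symm m))
        exact congrArg (fun z => (a'.1 z : ℂ)) (Subtype.ext (Subtype.ext rfl))
      · intro h x
        have h1 := h (e x)
        refine Eq.trans (Eq.trans ?_ h1) ?_
        · exact congrArg (fun z => (a'.1 z : ℂ)) (Subtype.ext (Subtype.ext rfl))
        · exact congrArg (fun z => (a'.1 z : ℂ)) (e.symm_apply_apply x)
    have h1 : Nat.card (RO (Char.stab (lfun a'.1) ⧸ N'.subgroupOf (Char.stab (lfun a'.1)))) =
        Nat.card (RO ((H ⊓ T : Subgroup G) ⧸ N.subgroupOf (H ⊓ T))) := by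
      refine card_RO_emb N (H ⊓ T) (H.subtype.comp (Char.stab (lfun a'.1)).subtype)
        (H.subtype_injective.comp (Subgroup.subtype_injective _)) ?_
      ext g
      constructor
      · rintro ⟨x, rfl⟩
        exact ⟨x.1.2, (hmem x.1).1 x.2⟩
      · rintro ⟨hg1, hg2⟩
        exact ⟨⟨⟨g, hg1⟩, (hmem ⟨g, hg1⟩).2 hg2⟩, rfl⟩
    rw [h1]
    -- the whole group side
    have hNT : N.subgroupOf T ≠ ⊥ := by
      rw [Ne, Subgroup.subgroupOf_eq_bot, disjoint_iff, inf_eq_left.2 (hNP.trans hPT)]
      exact hNb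
    have hlt : Nat.card (T ⧸ N.subgroupOf T) < n := hn ▸
      lt_of_lt_of_le (Solvable.Basic.card_quotient_lt _ hNT) (Subgroup.card_le_card_group _)
    rw [ih _ hlt (T ⧸ N.subgroupOf T) rfl
      ((P.subtype hPT).mapSurjective (QuotientGroup.mk'_surjective _)),
      card_RO_normalizer_quotient]
    refine (card_RO_emb N (H ⊓ T) (T.subtype.comp (Subgroup.normalizer
      (((P.subtype hPT : Sylow 2 T) : Subgroup T) : Set T)).subtype)
      (T.subtype_injective.comp (Subgroup.subtype_injective _)) ?_).symm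
    rw [MonoidHom.range_comp, Subgroup.range_subtype, Sylow.coe_subtype,
      ← Subgroup.subgroupOf_normalizer_eq hPT, Subgroup.subgroupOf_map_subtype]
  · have hodd : Odd (Nat.card N) := by
      obtain ⟨k, hk⟩ := IsPGroup.iff_card.1 hNp
      rw [hk]
      exact (hp.odd_of_ne_two hp2).pow
    rw [card_RO_eq_quotient hab hodd, ih _ (hn ▸ Solvable.Basic.card_quotient_lt N hNb) (G ⧸ N) rfl
      (P.mapSurjective (QuotientGroup.mk'_surjective N)), card_RO_normalizer_quotient]
    refine (card_RO_eq_quotient (abelian_subgroupOf hab H) ?_).symm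
    exact hodd.of_dvd_nat (Subgroup.card_comap_dvd_of_injective N H.subtype H.subtype_injective)

/-- Every irreducible character of odd degree is real. -/
def AllReal (G : Type*) [Group G] : Prop :=
  ∀ χ : IrrCharacter G, Odd (charDegree (χ : G → ℂ)) → ∀ g : G, ((χ : G → ℂ) g).im = 0

/-- Every linear character is real. -/
def LinReal (A : Type*) [Group A] : Prop := ∀ μ : A →* ℂˣ, ∀ x, μ x ^ 2 = 1

theorem LinReal.of_surjective {A B : Type*} [Group A] [Group B] (f : A →* B)
    (hf : Function.Surjective f) (h : LinReal A) : LinReal B := fun μ y => by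
  obtain ⟨x, rfl⟩ := hf y
  exact h (μ.comp f) x

theorem LinReal.sq_of_ker {A B : Type*} [Group A] [Group B] (f : A →* B)
    (hf : Function.Surjective f) (h : LinReal B) (μ : A →* ℂˣ) (hker : f.ker ≤ μ.ker) (x : A) :
    μ x ^ 2 = 1 := by
  have h1 : (f.liftOfSurjective hf ⟨μ, hker⟩).comp f = μ :=
    f.liftOfRightInverse_comp (Function.surjInv hf) (Function.rightInverse_surjInv hf) ⟨μ, hker⟩
  have h2 := h (f.liftOfSurjective hf ⟨μ, hker⟩) (f x)
  rw [← MonoidHom.comp_apply, h1] at h2
  exact h2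

theorem charDegree_indFun (T : Subgroup G) [Fintype T] {ψ : T → ℂ} (hψ : IsCharacter T ψ) :
    charDegree (Cfsg.indFun T ψ) = T.index * charDegree ψ := by
  apply Nat.cast_injective (R := ℂ)
  rw [charDegree_cast (Char.IsCharacter.indFun T hψ), Char.indFun_one, Nat.cast_mul,
    charDegree_cast hψ]

theorem allReal_quotient (N : Subgroup G) [N.Normal] (h : AllReal G) : AllReal (G ⧸ N) := by
  intro χ hodd q
  obtain ⟨g, rfl⟩ := QuotientGroup.mk'_surjective N q
  exact h ⟨_, (Char.irrQuotientEquiv N χ).1.2⟩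
    (show Odd (charDegree ((χ : G ⧸ N → ℂ) ∘ QuotientGroup.mk' N)) by
      simpa [charDegree] using hodd) g

theorem real_of_trivial {N : Subgroup G} [N.Normal] (h : AllReal (G ⧸ N)) (χ : IrrCharacter G)
    (hodd : Odd (charDegree (χ : G → ℂ))) (htriv : ∀ n ∈ N, (χ : G → ℂ) n = (χ : G → ℂ) 1) :
    ∀ g, ((χ : G → ℂ) g).im = 0 := by
  obtain ⟨ψ, hψ, he⟩ := Char.IsIrrCharacter.exists_deflate χ.2 N htriv
  intro g
  rw [he]
  refine h ⟨ψ, hψ⟩ ?_ _
  rw [he] at hodd
  simpa [charDegree] using hodd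

theorem inf_normalizer_centralizes (P : Sylow 2 G) {N : Subgroup G} [hN : N.Normal]
    (hNP : N ⊓ (P : Subgroup G) = ⊥) {c : G} (hc : c ∈ N)
    (hcH : c ∈ Subgroup.normalizer ((P : Subgroup G) : Set G)) {x : G} (hx : x ∈ P) :
    x * c * x⁻¹ = c := by
  have h1 : c⁻¹ * (x * c * x⁻¹) ∈ N ⊓ (P : Subgroup G) := by
    refine ⟨N.mul_mem (N.inv_mem hc) (hN.conj_mem c hc x), ?_⟩
    have h2 := (Subgroup.mem_normalizer_iff.1 (Subgroup.inv_mem _ hcH) x).1 hx
    rw [inv_inv] at h2
    rw [← mul_assoc, ← mul_assoc]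
    exact Subgroup.mul_mem _ h2 (Subgroup.inv_mem _ hx)
  rw [hNP, Subgroup.mem_bot, inv_mul_eq_one] at h1
  exact h1.symm

theorem coprime_inf_eq_bot {N Q : Subgroup G} (h : (Nat.card N).Coprime (Nat.card Q)) :
    N ⊓ Q = ⊥ :=
  Subgroup.inf_eq_bot_of_coprime h

/-- The odd case of the forward direction. -/
theorem normalizer_inf_eq_bot (P : Sylow 2 G) {N : Subgroup G} [hN : N.Normal]
    (hab : ∀ a b : N, a * b = b * a) (hodd : Odd (Nat.card N)) (h : AllReal G) :
    Subgroup.normalizer ((P : Subgroup G) : Set G) ⊓ N = ⊥ := by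
  rw [eq_bot_iff]
  intro c hc
  rw [Subgroup.mem_bot]
  by_contra hc1
  obtain ⟨k, hk⟩ := IsPGroup.iff_card.1 P.2
  have hNP : N ⊓ (P : Subgroup G) = ⊥ := coprime_inf_eq_bot (by
    rw [hk]; exact Nat.Coprime.pow_right _ (Nat.coprime_two_left.2 hodd).symm)
  obtain ⟨φ, hφ⟩ : ∃ φ : IrrCharacter N, (φ : N → ℂ) ⟨c, hc.2⟩ ≠ (φ : N → ℂ) 1 := by
    by_contra hcon
    push Not at hcon
    exact hc1 (congrArg Subtype.val (Char.eq_one_of_forall_irr hcon))
  obtain ⟨l0, hl0⟩ := Char.exists_hom_of_apply_one_eq_one (Char.IsIrrCharacter.isCharacter φ.2)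
    (Char.apply_one_eq_one_of_comm hab φ.2)
  have hl0c : l0 ⟨c, hc.2⟩ ≠ 1 := fun h0 => hφ (by rw [hl0]; simp [h0])
  let lam : N →* ℂˣ := ∏ x : (P : Subgroup G), l0.comp
    (MulAut.conjNormal (x : G) : N ≃* N).toMonoidHom
  have hlam : ∀ m : N, lam m = ∏ x : (P : Subgroup G),
      l0 ⟨x * m * (x : G)⁻¹, hN.conj_mem m m.2 x⟩ := fun m => by
    simp only [lam, MonoidHom.finsetProd_apply, MonoidHom.comp_apply]
    exact Finset.prod_congr rfl fun x _ => congrArg l0 (Subtype.ext rfl)
  set K := (P : Subgroup G) ⊔ N with hK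
  have hstab : K ≤ Char.stab (lfun lam) := by
    refine sup_le (fun y hy => ?_) (Char.le_stab (Char.IsIrrCharacter.isClassFunction
      (Char.isIrrCharacter_hom lam)))
    rw [Char.mem_stab]
    funext m
    show (lam _ : ℂ) = lam m
    rw [hlam, hlam, Fintype.prod_equiv (Equiv.mulRight (⟨y, hy⟩ : (P : Subgroup G))) _
      (fun x : (P : Subgroup G) => l0 ⟨x * m * (x : G)⁻¹, hN.conj_mem m m.2 x⟩)
      fun x => congrArg l0 (Subtype.ext (by simp [mul_assoc]))]
  have hlamc : lam ⟨c, hc.2⟩ = l0 ⟨c, hc.2⟩ ^ 2 ^ k := by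
    rw [hlam, Finset.prod_congr rfl fun (x : (P : Subgroup G)) _ => congrArg l0
      (Subtype.ext (inf_normalizer_centralizes P hNP hc.2 hc.1 x.2) :
        (⟨x * c * (x : G)⁻¹, hN.conj_mem c hc.2 x⟩ : N) = ⟨c, hc.2⟩), Finset.prod_const,
      Finset.card_univ, ← Nat.card_eq_fintype_card, hk]
  let e : N.subgroupOf K ≃* N := Subgroup.subgroupOfEquivOfLe le_sup_right
  obtain ⟨η, hη, -⟩ := exists_transfer_ext (N := N.subgroupOf K) (P := N.subgroupOf K) le_rfl
    (lam.comp e.toMonoidHom) (fun t x => Units.ext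
      ((congrArg (lfun lam) (Subtype.ext rfl)).trans (congrFun (Char.mem_stab.1 (hstab t.2)) (e x))))
    (lam.comp e.toMonoidHom) (fun x => rfl)
  obtain ⟨j, -, hj⟩ := (Nat.dvd_prime_pow Nat.prime_two).1 (show (N.subgroupOf K).index ∣ 2 ^ k by
    rw [← hk]
    show N.relIndex ((P : Subgroup G) ⊔ N) ∣ _
    rw [Subgroup.relIndex_sup_right]
    exact (N.subgroupOf (P : Subgroup G)).index_dvd_card)
  let lam' : N →* ℂˣ := (powMonoidHom (2 ^ j)).comp lam
  have hηN : ∀ m : N, (η ⟨m, Subgroup.mem_sup_right m.2⟩ : ℂ) = lfun lam' m := fun m => by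
    have h1 := hη (e.symm m)
    rw [hj, MonoidHom.comp_apply, MulEquiv.coe_toMonoidHom, e.apply_symm_apply] at h1
    exact congrArg Units.val h1
  have hKodd : Odd K.index := odd_index_of_le P le_sup_left
  have hind : IsCharacter G (Cfsg.indFun K fun t => (η t : ℂ)) :=
    Char.IsCharacter.indFun K (Char.isCharacter_hom η)
  have hdeg : Odd (charDegree (Cfsg.indFun K fun t => (η t : ℂ))) := by
    rw [charDegree_indFun K (Char.isCharacter_hom η)]
    simpa [charDegree] using hKodd
  obtain ⟨χ, hne, hχodd⟩ := exists_odd_constituent hind hdeg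
  rw [Char.classInner_indFun K _ (Char.IsIrrCharacter.isClassFunction χ.2),
    Char.IsCharacter.classInner_comm (Char.isCharacter_hom η)
      (Char.IsCharacter.restrict (Char.IsIrrCharacter.isCharacter χ.2) K)] at hne
  have h1 : classInner (fun m : N => (χ : G → ℂ) m) (fun m => (lam' m : ℂ)) ≠ 0 :=
    restrict_classInner_ne_zero (N := N.subgroupOf K)
      (Char.IsCharacter.restrict (Char.IsIrrCharacter.isCharacter χ.2) K)
      (Char.isIrrCharacter_hom η) hne (Subgroup.inclusion le_sup_right) lam' hηN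
  have htriv := trivial_on_odd hab hodd ⟨χ, h χ hχodd, hχodd⟩
  have hne' : (fun _ : N => (1 : ℂ)) ≠ fun m => (lam' m : ℂ) := by
    intro heq
    have h2 : lam' ⟨c, hc.2⟩ = 1 := Units.ext (congrFun heq ⟨c, hc.2⟩).symm
    change lam ⟨c, hc.2⟩ ^ 2 ^ j = 1 at h2
    rw [hlamc, ← pow_mul, ← pow_add] at h2
    refine hl0c (orderOf_eq_one_iff.1 (Nat.eq_one_of_dvd_coprimes
      (Nat.Coprime.pow_left (k + j) (Nat.coprime_two_left.2 hodd))
      (orderOf_dvd_of_pow_eq_one h2) (orderOf_dvd_of_pow_eq_one ?_)))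
    rw [← map_pow, pow_card_eq_one', map_one]
  refine h1 ?_
  rw [show (fun m : N => (χ : G → ℂ) m) = (χ : G → ℂ) 1 • fun _ : N => (1 : ℂ) from
    funext fun m => by rw [Pi.smul_apply, smul_eq_mul, mul_one]; exact htriv m m.2,
    Char.classInner_smul_left,
    Char.classInner_irr_ne Char.isIrrCharacter_one (Char.isIrrCharacter_hom lam') hne', mul_zero]

/-- The odd case of the backward direction. -/
theorem trivial_of_centralizer (P : Sylow 2 G) {N : Subgroup G} [hN : N.Normal]
    (hab : ∀ a b : N, a * b = b * a) (hodd : Odd (Nat.card N))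
    (hH : Subgroup.normalizer ((P : Subgroup G) : Set G) = (P : Subgroup G)) (χ : IrrCharacter G)
    (hχ : Odd (charDegree (χ : G → ℂ))) : ∀ n ∈ N, (χ : G → ℂ) n = (χ : G → ℂ) 1 := by
  obtain ⟨k, hk⟩ := IsPGroup.iff_card.1 P.2
  have hNP : N ⊓ (P : Subgroup G) = ⊥ := coprime_inf_eq_bot (by
    rw [hk]; exact Nat.Coprime.pow_right _ (Nat.coprime_two_left.2 hodd).symm)
  set K := (P : Subgroup G) ⊔ N with hK
  have hresK : IsCharacter K fun t : K => (χ : G → ℂ) t :=
    Char.IsCharacter.restrict (Char.IsIrrCharacter.isCharacter χ.2) K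
  obtain ⟨ψ, hψne, hψodd⟩ := exists_odd_constituent hresK hχ
  let N' := N.subgroupOf K
  let e : N' ≃* N := Subgroup.subgroupOfEquivOfLe le_sup_right
  obtain ⟨θ, hθ, hne⟩ := Char.IsCharacter.exists_constituent
    (Char.IsCharacter.restrict (Char.IsIrrCharacter.isCharacter ψ.2) N') fun h0 =>
      Blocks.irr_one_ne_zero ψ (congrFun h0 1)
  have hstab : Char.stab θ = ⊤ := by
    rw [← Subgroup.index_eq_one]
    have hdeg := CharDeep.Clifford.apply_one_eq ψ.2 hθ hne (Char.stab θ) (Char.isInertia_stab θ)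
    obtain ⟨m, hm⟩ := Char.IsCharacter.classInner_nat
      (Char.IsCharacter.restrict (Char.IsIrrCharacter.isCharacter ψ.2) N')
      (Char.IsIrrCharacter.isCharacter hθ)
    rw [hm, ← charDegree_cast (Char.IsIrrCharacter.isCharacter ψ.2),
      ← charDegree_cast (Char.IsIrrCharacter.isCharacter hθ)] at hdeg
    have hdeg' : charDegree (ψ : K → ℂ) = (Char.stab θ).index * m * charDegree θ := by
      exact_mod_cast hdeg
    have h1 : (Char.stab θ).index ∣ 2 ^ k := by
      refine (Subgroup.index_dvd_of_le (Char.le_stab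
        (Char.IsIrrCharacter.isClassFunction hθ))).trans ?_
      show N.relIndex ((P : Subgroup G) ⊔ N) ∣ _
      rw [Subgroup.relIndex_sup_right, ← hk]
      exact (N.subgroupOf (P : Subgroup G)).index_dvd_card
    have h2 : Odd (Char.stab θ).index := by
      rw [hdeg'] at hψodd
      exact (Nat.odd_mul.1 (Nat.odd_mul.1 hψodd).1).1
    exact Nat.eq_one_of_dvd_coprimes ((Nat.coprime_two_left.2 h2).pow_left k) h1 dvd_rfl
  obtain ⟨f, hf⟩ := Char.exists_hom_of_apply_one_eq_one (Char.IsIrrCharacter.isCharacter hθ)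
    (Char.apply_one_eq_one_of_comm (abelian_subgroupOf hab K) hθ)
  let lam : N →* ℂˣ := f.comp e.symm.toMonoidHom
  have hlam : ∀ x ∈ (P : Subgroup G), ∀ m : N,
      lam ⟨x * m * x⁻¹, hN.conj_mem m m.2 x⟩ = lam m := by
    intro x hx m
    have hxK : (⟨x, Subgroup.mem_sup_left hx⟩ : K) ∈ Char.stab θ := hstab ▸ Subgroup.mem_top _
    have h1 := congrFun (Char.mem_stab.1 hxK) (e.symm m)
    rw [Char.conjG_apply, hf] at h1
    exact (congrArg f (Subtype.ext (Subtype.ext rfl))).trans (Units.ext h1)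
  have : IsMulCommutative N := ⟨⟨hab⟩⟩
  letI : CommGroup N := { (inferInstance : Group N) with mul_comm := hab }
  have hlam1 : ∀ m : N, lam m = 1 := by
    intro m
    let b : N := ∏ x : (P : Subgroup G), (MulAut.conjNormal (x : G) m : N)
    have hb : lam b = lam m ^ 2 ^ k := by
      rw [map_prod, Finset.prod_congr rfl fun (x : (P : Subgroup G)) _ =>
        show lam (MulAut.conjNormal (x : G) m : N) = lam m from
          (congrArg lam (Subtype.ext rfl)).trans (hlam x x.2 m), Finset.prod_const, Finset.card_univ, ← Nat.card_eq_fintype_card, hk]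
    have hbP : ∀ y ∈ (P : Subgroup G), y * (b : G) * y⁻¹ = b := by
      intro y hy
      have h1 : (MulAut.conjNormal y : N ≃* N) b = b := by
        rw [map_prod]
        refine Fintype.prod_equiv (Equiv.mulLeft (⟨y, hy⟩ : (P : Subgroup G))) _ _ fun x => ?_
        refine Subtype.ext ?_
        simp [mul_assoc]
      exact congrArg Subtype.val h1
    have hbH : (b : G) ∈ Subgroup.normalizer ((P : Subgroup G) : Set G) := by
      rw [Subgroup.mem_normalizer_iff]
      intro z
      constructor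
      · intro hz
        have := hbP z hz
        rw [mul_inv_eq_iff_eq_mul] at this
        rwa [show (b : G) * z = z * b from this.symm, mul_inv_cancel_right]
      · intro hz
        have := hbP _ hz
        rw [mul_inv_eq_iff_eq_mul] at this
        have h3 : (b : G) * z * (b : G)⁻¹ = z := by
          rw [inv_mul_cancel_right] at this
          exact (mul_left_cancel this).symm
        rwa [h3] at hz
    rw [hH] at hbH
    have hb1 : b = 1 := by
      have : (b : G) ∈ N ⊓ (P : Subgroup G) := ⟨b.2, hbH⟩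
      rw [hNP, Subgroup.mem_bot] at this
      exact Subtype.ext this
    rw [hb1, map_one] at hb
    exact orderOf_eq_one_iff.1 (Nat.eq_one_of_dvd_coprimes
      (Nat.Coprime.pow_left k (Nat.coprime_two_left.2 hodd))
      (orderOf_dvd_of_pow_eq_one hb.symm)
      (orderOf_dvd_of_pow_eq_one (by rw [← map_pow, pow_card_eq_one', map_one])))
  have hθ1 : θ = fun _ => 1 := by
    rw [hf]
    funext x
    have := hlam1 (e x)
    change f (e.symm (e x)) = 1 at this
    rw [e.symm_apply_apply] at this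
    rw [this, Units.val_one]
  have hne2 : classInner (fun x : N' => (χ : G → ℂ) x) θ ≠ 0 :=
    CharDeep.Clifford.classInner_ne_zero_trans hresK ψ.2 hψne N'.subtype
      (Char.IsIrrCharacter.isCharacter hθ) hne
  rw [hθ1] at hne2
  have hne3 : classInner (fun m : N => (χ : G → ℂ) m) (fun _ => 1) ≠ 0 := by
    have h := Char.classInner_reindex e (fun m : N => (χ : G → ℂ) m) (fun _ => (1 : ℂ))
    rw [← h]
    exact hne2
  intro n hn
  have h := restrict_eq (N := N) (Char.isIrrCharacter_one (G := N)) (fun _ _ => rfl) (χ := χ) hne3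
  have h1 := h ⟨n, hn⟩
  have h2 := h 1
  rw [Subgroup.coe_one] at h2
  exact h1.trans h2.symm

/-- The `2`-case of the forward direction. -/
theorem linReal_of_allReal (P : Sylow 2 G) {N : Subgroup G} [hN : N.Normal]
    (hNP : N ≤ (P : Subgroup G))
    (hH : Subgroup.normalizer ((P : Subgroup G) : Set G) = (P : Subgroup G))
    (hbar : LinReal ((P.mapSurjective (QuotientGroup.mk'_surjective N) : Sylow 2 (G ⧸ N)) :
      Subgroup (G ⧸ N))) (h : AllReal G) : LinReal (P : Subgroup G) := by
  intro μ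
  let fP : (P : Subgroup G) →* ((P : Subgroup G).map (QuotientGroup.mk' N)) :=
    (QuotientGroup.mk' N).subgroupMap (P : Subgroup G)
  have hfP : Function.Surjective fP := (QuotientGroup.mk' N).subgroupMap_surjective _
  have hkerfP : ∀ ν : (P : Subgroup G) →* ℂˣ, (∀ n : N, ν ⟨n, hNP n.2⟩ = 1) → fP.ker ≤ ν.ker := by
    intro ν hν x hx
    have h1 : (x : G) ∈ N := (QuotientGroup.eq_one_iff _).1 (congrArg Subtype.val hx)
    exact hν ⟨x, h1⟩
  let lam : N →* ℂˣ := μ.comp (Subgroup.inclusion hNP)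
  set θ := lfun lam with hθdef
  have hθ : IsIrrCharacter N θ := Char.isIrrCharacter_hom lam
  set T := Char.stab θ with hTdef
  have hPT : (P : Subgroup G) ≤ T := by
    intro x hx
    rw [hTdef, Char.mem_stab]
    funext n
    show (μ ⟨x * n * x⁻¹, hNP (hN.conj_mem n n.2 x)⟩ : ℂ) = μ ⟨n, hNP n.2⟩
    rw [show (⟨x * n * x⁻¹, hNP (hN.conj_mem n n.2 x)⟩ : (P : Subgroup G)) =
      ⟨x, hx⟩ * ⟨n, hNP n.2⟩ * ⟨x, hx⟩⁻¹ from rfl, map_mul, map_mul, map_inv,
      mul_comm (μ ⟨x, hx⟩), mul_inv_cancel_right]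
  have hNT : N ≤ T := hNP.trans hPT
  let e : N.subgroupOf T ≃* N := Subgroup.subgroupOfEquivOfLe hNT
  let eP : (P : Subgroup G).subgroupOf T ≃* (P : Subgroup G) := Subgroup.subgroupOfEquivOfLe hPT
  obtain ⟨η0, hη0, -⟩ := exists_transfer_ext (N := N.subgroupOf T)
    (P := (P : Subgroup G).subgroupOf T) (fun x hx => hNP hx) (lam.comp e.toMonoidHom)
    (fun t x => Units.ext ((congrArg θ (Subtype.ext rfl)).trans
      (congrFun (Char.mem_stab.1 t.2) (e x))))
    (μ.comp eP.toMonoidHom) (fun x => rfl)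
  set i := ((P : Subgroup G).subgroupOf T).index with hi
  have hiodd : Odd i := odd_index_subgroupOf P hPT
  obtain ⟨k, hk⟩ := IsPGroup.iff_card.1 (P.2.to_le hNP)
  obtain ⟨c, hc1, hc2⟩ : ∃ c, c ≡ 1 [MOD Nat.card N] ∧ c ≡ 0 [MOD i] := by
    obtain ⟨c, hc⟩ := Nat.chineseRemainder (show (Nat.card N).Coprime i by
      rw [hk]; exact (Nat.coprime_two_left.2 hiodd).pow_left k) 1 0
    exact ⟨c, hc⟩
  obtain ⟨j, hj⟩ := Nat.modEq_zero_iff_dvd.1 hc2
  let η : T →* ℂˣ := (powMonoidHom j).comp η0
  have hηN : ∀ n : N, η ⟨n, hNT n.2⟩ = lam n := by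
    intro n
    have h1 := hη0 (e.symm n)
    rw [MonoidHom.comp_apply, MulEquiv.coe_toMonoidHom, e.apply_symm_apply] at h1
    show η0 (e.symm n : N.subgroupOf T) ^ j = _
    rw [h1, ← pow_mul, ← hj]
    conv_rhs => rw [← pow_one (lam n)]
    refine pow_eq_pow_iff_modEq.2 (hc1.of_dvd (orderOf_dvd_of_pow_eq_one ?_))
    rw [← map_pow, pow_card_eq_one', map_one]
  have hover : classInner (Char.resLe hNT fun t : T => (η t : ℂ)) θ ≠ 0 := by
    rw [show Char.resLe hNT (fun t : T => (η t : ℂ)) = θ from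
      funext fun n => congrArg Units.val (hηN n), Char.classInner_irr_self hθ]
    exact one_ne_zero
  have hIn : Char.IsInertia θ T := Char.isInertia_stab θ
  obtain ⟨hirr, hmul⟩ := Char.indFun_inertia hNT hθ hIn (Char.isIrrCharacter_hom η) hover
  set χ : IrrCharacter G := ⟨_, hirr⟩ with hχdef
  have hχodd : Odd (charDegree (χ : G → ℂ)) := by
    show Odd (charDegree (Cfsg.indFun T fun t : T => (η t : ℂ)))
    rw [charDegree_indFun T (Char.isCharacter_hom η)]
    simpa [charDegree] using odd_index_of_le P hPT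
  have hreal := h χ hχodd
  have hχθ : χ ∈ lying N θ := by
    show classInner (fun n : N => Cfsg.indFun T _ n) θ ≠ 0
    rw [hmul]; exact hover
  have hθc : IsIrrCharacter N (fun n => conj (θ n)) := (Blocks.irrConj ⟨θ, hθ⟩).2
  have hχθc : χ ∈ lying N (fun n => conj (θ n)) := by
    show classInner _ _ ≠ 0
    have h1 : classInner (fun n : N => (χ : G → ℂ) n) (fun n => conj (θ n)) =
        conj (classInner (fun n : N => (χ : G → ℂ) n) θ) := by
      simp only [classInner, map_mul, map_inv₀, map_natCast, map_sum, Complex.conj_conj,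
        fun n : N => Complex.conj_eq_iff_im.2 (hreal n)]
    rw [h1]
    exact fun h0 => hχθ ((map_eq_zero _).1 h0)
  obtain ⟨g, hg⟩ := over_unique hθ hθc χ hχθ hχθc
  have hgT : g ∈ T := by
    have hgP : ((g • P : Sylow 2 G) : Subgroup G) ≤ T := by
      intro y hy
      rw [Sylow.coe_subgroup_smul, Subgroup.mem_pointwise_smul_iff_inv_smul_mem] at hy
      have hy' : g⁻¹ * y * g ∈ Char.stab θ := hPT (by simpa [mul_assoc] using hy)
      have h2 : Char.conjG (fun n => conj (θ n)) (g⁻¹ * y * g) = fun n => conj (θ n) := by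
        funext n
        exact congrArg conj (congrFun (Char.mem_stab.1 hy') n)
      rw [hg, Char.conjG_mul] at h2
      rw [hTdef, Char.mem_stab]
      have h3 := congrArg (fun θ => Char.conjG θ g⁻¹) h2
      simpa [Char.conjG_mul, Char.conjG_one, mul_assoc] using h3
    obtain ⟨t, ht⟩ := MulAction.exists_smul_eq T ((g • P : Sylow 2 G).subtype hgP) (P.subtype hPT)
    rw [Sylow.smul_subtype] at ht
    have heq := Sylow.subtype_injective ht
    have hnorm : (t : G) * g ∈ Subgroup.normalizer ((P : Subgroup G) : Set G) := by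
      refine Sylow.smul_eq_iff_mem_normalizer.1 ?_
      rw [mul_smul]
      exact heq
    rw [hH] at hnorm
    have := T.mul_mem (T.inv_mem t.2) (hPT hnorm)
    simpa using this
  rw [Char.mem_stab.1 hgT] at hg
  have hlam2 : ∀ n, lam n ^ 2 = 1 := sq_eq_one_of_real lam (isRealFn_iff.2 (congrFun hg))
  have hηreal : IsRealFn fun t => (η t : ℂ) := by
    refine isRealFn_iff.2 (congrFun (Char.indFun_inertia_inj hNT hθ hIn
      (Blocks.irrConj ⟨_, Char.isIrrCharacter_hom η⟩).2 ?_ (Char.isIrrCharacter_hom η) hover ?_))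
    · rw [show (Char.resLe hNT fun t : T => conj (η t : ℂ)) = θ from
        funext fun n => ?_, Char.classInner_irr_self hθ]
      · exact one_ne_zero
      · show conj (η ⟨n, hNT n.2⟩ : ℂ) = θ n
        rw [hηN]
        exact congrFun hg n
    · rw [Char.indFun_conj]
      exact funext fun g => Complex.conj_eq_iff_im.2 (hreal g)
  let μ' : (P : Subgroup G) →* ℂˣ := μ * η.comp (Subgroup.inclusion hPT)
  intro x
  have hμ' : μ' x ^ 2 = 1 := LinReal.sq_of_ker fP hfP hbar μ' (hkerfP μ' fun n => by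
    show μ ⟨n, hNP n.2⟩ * η ⟨n, _⟩ = 1
    rw [hηN n]
    show lam n * lam n = 1
    rw [← sq, hlam2]) x
  have hη2 : η (Subgroup.inclusion hPT x) ^ 2 = 1 := sq_eq_one_of_real η hηreal _
  change (μ x * η (Subgroup.inclusion hPT x)) ^ 2 = 1 at hμ'
  rwa [mul_pow, hη2, mul_one] at hμ'

/-- The `2`-case of the backward direction. -/
theorem allReal_step (P : Sylow 2 G) {N : Subgroup G} [hN : N.Normal]
    (hNP : N ≤ (P : Subgroup G))
    (hH : Subgroup.normalizer ((P : Subgroup G) : Set G) = (P : Subgroup G))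
    (hlin : LinReal (P : Subgroup G))
    (hIH : ∀ T : Subgroup G, ∀ hPT : (P : Subgroup G) ≤ T,
      Subgroup.normalizer (((P.subtype hPT).mapSurjective
          (QuotientGroup.mk'_surjective (N.subgroupOf T)) : Subgroup (T ⧸ N.subgroupOf T)) :
            Set (T ⧸ N.subgroupOf T)) =
        ((P.subtype hPT).mapSurjective (QuotientGroup.mk'_surjective (N.subgroupOf T)) :
          Subgroup (T ⧸ N.subgroupOf T)) →
      LinReal (((P.subtype hPT).mapSurjective (QuotientGroup.mk'_surjective (N.subgroupOf T)) :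
          Subgroup (T ⧸ N.subgroupOf T))) → AllReal (T ⧸ N.subgroupOf T)) :
    AllReal G := by
  intro χ hodd
  have hres : IsCharacter (P : Subgroup G) fun x : (P : Subgroup G) => (χ : G → ℂ) x :=
    Char.IsCharacter.restrict (Char.IsIrrCharacter.isCharacter χ.2) _
  obtain ⟨φ, hne, hφodd⟩ := exists_odd_constituent hres hodd
  obtain ⟨μ, hμ⟩ := exists_hom_of_pgroup P.2 φ hφodd
  let lam : N →* ℂˣ := μ.comp (Subgroup.inclusion hNP)
  let a : LE P N hNP := ⟨lam, μ, hlin μ, fun n => rfl⟩
  set θ := lfun lam with hθdef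
  have hθ : IsIrrCharacter N θ := Char.isIrrCharacter_hom lam
  set T := Char.stab θ with hTdef
  have hPT : (P : Subgroup G) ≤ T := le_stab_lfun P N hNP a
  have hNT : N ≤ T := hNP.trans hPT
  have hχθ : classInner (fun n : N => (χ : G → ℂ) n) θ ≠ 0 :=
    restrict_classInner_ne_zero (N := N.subgroupOf (P : Subgroup G)) hres φ.2 hne
      (Subgroup.inclusion hNP) lam (fun k => congrFun hμ _)
  have hIn : Char.IsInertia θ T := Char.isInertia_stab θ
  obtain ⟨ψ, hψ, hψne, he⟩ := Char.exists_eq_indFun_inertia hNT hθ hIn χ.2 hχθ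
  have hψodd : Odd (charDegree ψ) := by
    rw [he, charDegree_indFun T (Char.IsIrrCharacter.isCharacter hψ)] at hodd
    exact (Nat.odd_mul.1 hodd).2
  let e : N.subgroupOf T ≃* N := Subgroup.subgroupOfEquivOfLe hNT
  let eP : (P : Subgroup G).subgroupOf T ≃* (P : Subgroup G) := Subgroup.subgroupOfEquivOfLe hPT
  have hinv : ∀ (t : T) (x : N.subgroupOf T),
      θ (e ⟨t * x * t⁻¹, (inferInstance : (N.subgroupOf T).Normal).conj_mem x x.2 t⟩) =
        θ (e x) := fun t x =>
    (congrArg θ (Subtype.ext rfl)).trans ((hIn t).1 t.2 (e x))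
  obtain ⟨η, hη, hη2⟩ := exists_transfer_ext (N := N.subgroupOf T)
    (P := (P : Subgroup G).subgroupOf T) (fun x hx => hNP hx) (lam.comp e.toMonoidHom)
    (fun t x => Units.ext (hinv t x)) (μ.comp eP.toMonoidHom) (fun x => rfl)
  have hηsq : ∀ t, η t ^ 2 = 1 := hη2 fun x => hlin μ _
  have hηN : ∀ x : N.subgroupOf T, (η x : ℂ) = θ (e x) := fun x => by
    rw [hη x, pow_odd_eq_of_sq ?_ (odd_index_subgroupOf P hPT)]
    · rfl
    · exact hlin μ _
  have hH' : Subgroup.normalizer (((P.subtype hPT).mapSurjective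
      (QuotientGroup.mk'_surjective (N.subgroupOf T)) : Subgroup (T ⧸ N.subgroupOf T)) :
        Set (T ⧸ N.subgroupOf T)) =
      ((P.subtype hPT).mapSurjective (QuotientGroup.mk'_surjective (N.subgroupOf T)) :
        Subgroup (T ⧸ N.subgroupOf T)) := by
    rw [normalizer_map_sylow, Sylow.coe_mapSurjective]
    congr 1
    rw [Sylow.coe_subtype, ← Subgroup.subgroupOf_normalizer_eq hPT, hH]
  have hlin' : LinReal (((P.subtype hPT).mapSurjective
      (QuotientGroup.mk'_surjective (N.subgroupOf T)) : Subgroup (T ⧸ N.subgroupOf T))) := by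
    let f : (P : Subgroup G) →* (((P : Subgroup G).subgroupOf T).map
        (QuotientGroup.mk' (N.subgroupOf T))) :=
      ((QuotientGroup.mk' (N.subgroupOf T)).subgroupMap _).comp eP.symm.toMonoidHom
    exact LinReal.of_surjective f
      (((QuotientGroup.mk' (N.subgroupOf T)).subgroupMap_surjective _).comp eP.symm.surjective) hlin
  have hAll := hIH T hPT hH' hlin'
  have hψη : IsIrrCharacter T fun t => (η t : ℂ) * ψ t := isIrr_mul_hom η hψ
  have htriv : ∀ x ∈ N.subgroupOf T,
      (η x : ℂ) * ψ x = (η 1 : ℂ) * ψ 1 := by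
    intro x hx
    have h := restrict_eq (N := N.subgroupOf T) (θ := θ ∘ e) (Char.IsIrrCharacter.comp_equiv hθ e)
      hinv (χ := ⟨ψ, hψ⟩) (by
        show classInner (fun x : N.subgroupOf T => ψ x) _ ≠ 0
        rw [show (θ ∘ e) = fun x : N.subgroupOf T =>
          θ ⟨(x : T), Subgroup.mem_subgroupOf.mp x.2⟩ from rfl, Char.classInner_resLe hNT ψ θ]
        exact hψne)
    have h1 := h ⟨x, hx⟩
    have h2 := h 1
    rw [Subgroup.coe_one, Function.comp_apply, map_one,
      show θ 1 = 1 by simp [hθdef, lfun], mul_one] at h2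
    simp only [Function.comp_apply, ← hηN ⟨x, hx⟩] at h1
    rw [show ψ x = _ from h1, ← show ψ 1 = _ from h2, map_one, Units.val_one, one_mul,
      mul_left_comm, ← Units.val_mul, ← sq, hηsq, Units.val_one, mul_one]
  have hψreal : ∀ t, (ψ t).im = 0 := by
    have h1 := real_of_trivial hAll ⟨_, hψη⟩
      (by simpa [charDegree] using hψodd) htriv
    intro t
    refine Complex.conj_eq_iff_im.1 ?_
    have h2 := Complex.conj_eq_iff_im.2 (h1 t)
    rw [map_mul, isRealFn_iff.1 (isRealFn_of_sq η hηsq) t] at h2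
    exact mul_left_cancel₀ (Units.ne_zero _) h2
  intro g
  rw [he]
  refine Complex.conj_eq_iff_im.1 ?_
  have h3 := congrFun (Char.indFun_conj T ψ) g
  rw [show (fun t : T => conj (ψ t)) = ψ from funext fun t =>
    Complex.conj_eq_iff_im.2 (hψreal t)] at h3
  exact h3.symm

/-- When all odd-degree characters are real. -/
theorem allReal_iff.{u} (n : ℕ) : ∀ (G : Type u) [Group G] [Fintype G] [Group.IsSolvable G],
    Nat.card G = n → ∀ P : Sylow 2 G,
      (AllReal G ↔ (Subgroup.normalizer ((P : Subgroup G) : Set G) = (P : Subgroup G) ∧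
        LinReal (P : Subgroup G))) := by
  induction n using Nat.strong_induction_on with
  | _ n ih =>
  intro G _ _ _ hn P
  by_cases hne : (⊤ : Subgroup G) = ⊥
  · have : Subsingleton G := ⟨fun a b => by
      have ha : a ∈ (⊥ : Subgroup G) := hne ▸ Subgroup.mem_top a
      have hb : b ∈ (⊥ : Subgroup G) := hne ▸ Subgroup.mem_top b
      rw [Subgroup.mem_bot] at ha hb
      rw [ha, hb]⟩
    refine ⟨fun _ => ⟨Subsingleton.elim _ _, fun μ x => ?_⟩, fun _ χ _ g => ?_⟩
    · rw [Subsingleton.elim x 1, map_one, one_pow]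
    · rw [Subsingleton.elim g 1, Blocks.irr_one_eq, Complex.natCast_im]
  obtain ⟨N, p, hp, hN, hNb, -, hNab, hNp, -⟩ := Solvable.Basic.exists_minimal_normal_pgroup hne
  have hab : ∀ a b : N, a * b = b * a := fun a b => hNab.is_comm.comm a b
  have := Fact.mk hp
  have IH := ih _ (hn ▸ Solvable.Basic.card_quotient_lt N hNb) (G ⧸ N) rfl
    (P.mapSurjective (QuotientGroup.mk'_surjective N))
  let fP : (P : Subgroup G) →* ((P : Subgroup G).map (QuotientGroup.mk' N)) :=
    (QuotientGroup.mk' N).subgroupMap (P : Subgroup G)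
  have hfP : Function.Surjective fP := (QuotientGroup.mk' N).subgroupMap_surjective _
  have hHle : AllReal G → Subgroup.normalizer ((P : Subgroup G) : Set G) ≤
      (P : Subgroup G) ⊔ N := by
    intro hAll x hx
    have h1 : QuotientGroup.mk' N x ∈ (P : Subgroup G).map (QuotientGroup.mk' N) := by
      rw [← Sylow.coe_mapSurjective (QuotientGroup.mk'_surjective N),
        ← (IH.1 (allReal_quotient N hAll)).1, normalizer_map_sylow]
      exact ⟨x, hx, rfl⟩
    have h2 : x ∈ ((P : Subgroup G).map (QuotientGroup.mk' N)).comap (QuotientGroup.mk' N) := h1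
    rwa [Subgroup.comap_map_eq, QuotientGroup.ker_mk'] at h2
  have hbarH : Subgroup.normalizer ((P : Subgroup G) : Set G) = (P : Subgroup G) →
      Subgroup.normalizer (((P.mapSurjective (QuotientGroup.mk'_surjective N) : Sylow 2 (G ⧸ N)) :
        Subgroup (G ⧸ N)) : Set (G ⧸ N)) =
      ((P.mapSurjective (QuotientGroup.mk'_surjective N) : Sylow 2 (G ⧸ N)) :
        Subgroup (G ⧸ N)) := fun hH => by
    rw [normalizer_map_sylow, hH, Sylow.coe_mapSurjective]
  by_cases hp2 : p = 2
  · subst hp2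
    have hNP : N ≤ (P : Subgroup G) := le_sylow_of_normal P hNp
    constructor
    · intro hAll
      have hH : Subgroup.normalizer ((P : Subgroup G) : Set G) = (P : Subgroup G) :=
        le_antisymm ((hHle hAll).trans_eq (sup_eq_left.2 hNP)) Subgroup.le_normalizer
      exact ⟨hH, linReal_of_allReal P hNP hH (IH.1 (allReal_quotient N hAll)).2 hAll⟩
    · rintro ⟨hH, hlin⟩
      refine allReal_step P hNP hH hlin fun T hPT h1 h2 => ?_
      have hNT : N.subgroupOf T ≠ ⊥ := by
        rw [Ne, Subgroup.subgroupOf_eq_bot, disjoint_iff, inf_eq_left.2 (hNP.trans hPT)]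
        exact hNb
      exact (ih _ (hn ▸ lt_of_lt_of_le (Solvable.Basic.card_quotient_lt _ hNT)
        (Subgroup.card_le_card_group _)) (T ⧸ N.subgroupOf T) rfl
        ((P.subtype hPT).mapSurjective (QuotientGroup.mk'_surjective _))).2 ⟨h1, h2⟩
  · have hodd : Odd (Nat.card N) := by
      obtain ⟨k, hk⟩ := IsPGroup.iff_card.1 hNp
      rw [hk]
      exact (hp.odd_of_ne_two hp2).pow
    constructor
    · intro hAll
      have hinf := normalizer_inf_eq_bot P hab hodd hAll
      refine ⟨le_antisymm (fun x hx => ?_) Subgroup.le_normalizer, ?_⟩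
      · obtain ⟨a, ha, m, hm, rfl⟩ := Subgroup.mem_sup_of_normal_right.1 (hHle hAll hx)
        have : m ∈ Subgroup.normalizer ((P : Subgroup G) : Set G) ⊓ N := ⟨by
          simpa using Subgroup.mul_mem _ (Subgroup.inv_mem _ (Subgroup.le_normalizer ha)) hx, hm⟩
        rw [hinf, Subgroup.mem_bot] at this
        rw [this, mul_one]
        exact ha
      · intro μ x
        refine LinReal.sq_of_ker fP hfP (IH.1 (allReal_quotient N hAll)).2 μ (fun y hy => ?_) x
        have h1 : (y : G) ∈ N := (QuotientGroup.eq_one_iff _).1 (congrArg Subtype.val hy)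
        have h2 : (y : G) ∈ N ⊓ (P : Subgroup G) := ⟨h1, y.2⟩
        obtain ⟨k, hk⟩ := IsPGroup.iff_card.1 P.2
        rw [coprime_inf_eq_bot (N := N) (Q := (P : Subgroup G)) (by
          rw [hk]; exact Nat.Coprime.pow_right _ (Nat.coprime_two_left.2 hodd).symm),
          Subgroup.mem_bot] at h2
        rw [show y = 1 from Subtype.ext h2]
        exact one_mem _
    · rintro ⟨hH, hlin⟩ χ hχ
      have hAllQ : AllReal (G ⧸ N) :=
        IH.2 ⟨hbarH hH, LinReal.of_surjective fP hfP hlin⟩
      exact real_of_trivial hAllQ χ hχ (trivial_of_centralizer P hab hodd hH χ hχ)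

theorem linReal_iff_commutator_eq_frattini (P : Sylow 2 G) :
    LinReal (P : Subgroup G) ↔ commutator (P : Subgroup G) = frattini (P : Subgroup G) := by
  constructor
  · intro h
    refine le_antisymm ?_ fun x hx => ?_
    · rw [commutator_def, Subgroup.commutator_le]
      exact fun x _ y _ => PGroup.Frattini.commutatorElement_mem_frattini P.2 x y
    · by_contra hcon
      have hne : Abelianization.of x ≠ 1 := fun he => hcon ((QuotientGroup.eq_one_iff _).1 he)
      obtain ⟨φ, hφ⟩ : ∃ φ : IrrCharacter (Abelianization (P : Subgroup G)),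
          (φ : Abelianization (P : Subgroup G) → ℂ) (Abelianization.of x) ≠
            (φ : Abelianization (P : Subgroup G) → ℂ) 1 := by
        by_contra hc
        push Not at hc
        exact hne (Char.eq_one_of_forall_irr hc)
      obtain ⟨f, hf⟩ := Char.exists_hom_of_apply_one_eq_one (Char.IsIrrCharacter.isCharacter φ.2)
        (Char.apply_one_eq_one_of_comm (fun a b => mul_comm a b) φ.2)
      let μ : (P : Subgroup G) →* ℂˣ := f.comp Abelianization.of
      have hμx : μ x ≠ 1 := fun h1 => hφ (by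
        rw [hf]
        show (μ x : ℂ) = (f 1 : ℂ)
        rw [h1, map_one])
      refine hμx (?_ : x ∈ μ.ker)
      refine frattini_le_coatom ⟨fun he => hμx (show x ∈ μ.ker by rw [he]; trivial), ?_⟩ hx
      intro K hK
      obtain ⟨z, hzK, hz⟩ := SetLike.exists_of_lt hK
      rw [eq_top_iff]
      intro w _
      have hsq : ∀ y, (μ y : ℂ) = 1 ∨ (μ y : ℂ) = -1 := fun y =>
        mul_self_eq_one_iff.1 (by rw [← sq, ← Units.val_pow_eq_pow_val, h μ y, Units.val_one])
      have hz1 : (μ z : ℂ) = -1 := (hsq z).resolve_left fun h1 => hz (Units.ext h1)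
      rcases hsq w with hw | hw
      · exact hK.le (Units.ext hw : w ∈ μ.ker)
      · have hwz : w * z ∈ μ.ker := Units.ext (by
          rw [map_mul, Units.val_mul, hw, hz1]; norm_num)
        simpa using K.mul_mem (hK.le hwz) (K.inv_mem hzK)
  · intro h μ x
    have h1 : x ^ 2 ∈ commutator (P : Subgroup G) := h ▸ PGroup.Frattini.pow_mem_frattini P.2 x
    rw [← map_pow]
    exact Abelianization.commutator_subset_ker μ h1

end CfsgLib.CharDeep.RealOdd
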