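import Cfsg.Agent.Lib.Char.Basic
import Mathlib.Analysis.InnerProductSpace.PiL2

/-!
# Elements close to a scalar in a finite unitary group commute (Frobenius)

In a finite unitary group the elements at distance `< 1/2` from the scalar `cos (π / 6)` generate
an abelian normal subgroup, which meets every abelian subgroup in index at most `12 ^ n`.
-/

set_option autoImplicit false

open scoped ComplexConjugate InnerProductSpace
open Module

namespace CfsgLib.CharDeep.SmallCommute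

universe u v

variable {G : Type u} [Group G] [Finite G] {V : Type v} [NormedAddCommGroup V]
  [InnerProductSpace ℂ V] [FiniteDimensional ℂ V]

section Basics

variable (ρ : Representation ℂ G V)

/-- The operators as continuous linear maps. -/
noncomputable def op : G →* (V →L[ℂ] V) where
  toFun g := LinearMap.toContinuousLinearMap (ρ g)
  map_one' := by ext v; simp
  map_mul' g h := by ext v; simp

omit [Finite G] in
@[simp] theorem op_apply (g : G) (v : V) : op ρ g v = ρ g v := rfl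

/-- Common eigenvectors of a subgroup, with eigenvalue function `φ`. -/
def common (K : Subgroup G) (φ : K → ℂ) : Submodule ℂ V where
  carrier := {v | ∀ k : K, ρ k v = φ k • v}
  add_mem' {a b} ha hb k := by rw [map_add, ha, hb, smul_add]
  zero_mem' k := by simp
  smul_mem' c v hv k := by rw [map_smul, hv, smul_comm]

omit [Finite G] in
theorem exists_common_of_invariant (K : Subgroup G) (hK : ∀ x ∈ K, ∀ y ∈ K, x * y = y * x)
    (W : Submodule ℂ V) (hne : W ≠ ⊥) (hW : ∀ k : K, ∀ v ∈ W, ρ k v ∈ W) :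
    ∃ v ∈ W, v ≠ 0 ∧ ∃ φ : K → ℂ, v ∈ common ρ K φ := by
  suffices h : ∀ (m : ℕ) (W : Submodule ℂ V), finrank ℂ W = m → W ≠ ⊥ →
      (∀ k : K, ∀ v ∈ W, ρ k v ∈ W) →
      ∃ v ∈ W, v ≠ 0 ∧ ∃ φ : K → ℂ, v ∈ common ρ K φ from h _ W rfl hne hW
  intro m
  induction m using Nat.strong_induction_on with
  | _ m ih =>
    intro W hm hne hW
    have hnt : Nontrivial W := Submodule.nontrivial_iff_ne_bot.2 hne
    by_cases hsc : ∀ k : K, ∃ z : ℂ, ∀ v ∈ W, ρ k v = z • v
    · choose φ hφ using hsc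
      obtain ⟨v, hv, hv0⟩ := W.ne_bot_iff.1 hne
      exact ⟨v, hv, hv0, φ, fun k => hφ k v hv⟩
    · push Not at hsc
      obtain ⟨k, hk⟩ := hsc
      let T : Module.End ℂ W := (ρ (k : G)).restrict (hW k)
      obtain ⟨z, hz⟩ := Module.End.exists_eigenvalue T
      let W' : Submodule ℂ V := W ⊓ Module.End.eigenspace (ρ (k : G)) z
      have hne' : W' ≠ ⊥ := by
        obtain ⟨w, hw⟩ := hz.exists_hasEigenvector
        refine W'.ne_bot_iff.2 ⟨w, ⟨w.2, ?_⟩, fun h => hw.2 (Subtype.ext h)⟩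
        exact Module.End.mem_eigenspace_iff.2 (congrArg Subtype.val hw.apply_eq_smul)
      have hlt : W' < W := by
        refine lt_of_le_of_ne inf_le_left fun h => ?_
        obtain ⟨v, hv, hv'⟩ := hk z
        have hmem : v ∈ W' := h.symm ▸ hv
        exact hv' (Module.End.mem_eigenspace_iff.1 hmem.2)
      have hinv : ∀ l : K, ∀ v ∈ W', ρ l v ∈ W' := fun l v hv => by
        refine ⟨hW l v hv.1, Module.End.mem_eigenspace_iff.2 ?_⟩
        rw [← Module.End.mul_apply, ← map_mul, hK _ k.2 _ l.2, map_mul, Module.End.mul_apply,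
          Module.End.mem_eigenspace_iff.1 hv.2, map_smul]
      obtain ⟨v, hv, hv0, φ, hφ⟩ :=
        ih _ (hm ▸ Submodule.finrank_lt_finrank_of_lt hlt) W' rfl hne' hinv
      exact ⟨v, hv.1, hv0, φ, hφ⟩

variable (hU : ∀ g v w, ⟪ρ g v, ρ g w⟫_ℂ = ⟪v, w⟫_ℂ)
include hU

omit [Finite G] [FiniteDimensional ℂ V] in
theorem norm_rho (g : G) (v : V) : ‖ρ g v‖ = ‖v‖ := by
  rw [norm_eq_sqrt_re_inner (𝕜 := ℂ), norm_eq_sqrt_re_inner (𝕜 := ℂ), hU]

omit [Finite G] in
theorem norm_op_le (g : G) : ‖op ρ g‖ ≤ 1 :=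
  ContinuousLinearMap.opNorm_le_bound _ zero_le_one fun v => by
    rw [op_apply, norm_rho ρ hU, one_mul]

omit [Finite G] [FiniteDimensional ℂ V] in
theorem inner_eq_zero (K : Subgroup G) {φ ψ : K → ℂ} (hne : φ ≠ ψ) {v w : V}
    (hv : v ∈ common ρ K φ) (hw : w ∈ common ρ K ψ) : ⟪v, w⟫_ℂ = 0 := by
  by_contra hvw
  have hv0 : v ≠ 0 := fun h => hvw (by simp [h])
  refine hne (funext fun k => ?_)
  have h := hU k v w
  rw [hv k, hw k, inner_smul_left, inner_smul_right, ← mul_assoc] at h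
  have h1 : conj (φ k) * ψ k = 1 := mul_right_cancel₀ hvw (by rw [h, one_mul])
  have h2 : ‖φ k‖ = 1 := by
    have := norm_rho ρ hU k v
    rw [hv k, norm_smul] at this
    exact (mul_eq_right₀ (norm_ne_zero_iff.2 hv0)).1 this
  have h3 : φ k * conj (φ k) = 1 := by rw [Complex.mul_conj', h2]; simp
  calc φ k = φ k * (conj (φ k) * ψ k) := by rw [h1, mul_one]
    _ = ψ k := by rw [← mul_assoc, h3, one_mul]

omit [Finite G] in
/-- The commonly occurring eigenvalue functions: finitely many, and their eigenspaces span. -/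
theorem exists_spectrum (K : Subgroup G) (hK : ∀ x ∈ K, ∀ y ∈ K, x * y = y * x) :
    ∃ Φ : Finset (K → ℂ), Φ.card ≤ finrank ℂ V ∧ (∀ φ ∈ Φ, common ρ K φ ≠ ⊥) ∧
      (⨆ φ ∈ Φ, common ρ K φ) = ⊤ := by
  classical
  let P : Set (K → ℂ) := {φ | common ρ K φ ≠ ⊥}
  choose e he he0 using fun φ : P => (common ρ K φ).ne_bot_iff.1 φ.2
  have hli : LinearIndependent ℂ e := linearIndependent_of_ne_zero_of_inner_eq_zero he0
    fun φ ψ hne => inner_eq_zero ρ hU K (fun h => hne (Subtype.ext h)) (he φ) (he ψ)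
  have hfin : Finite P := hli.finite
  have : Fintype P := Fintype.ofFinite P
  refine ⟨P.toFinset, ?_, fun φ hφ => Set.mem_toFinset.1 hφ, ?_⟩
  · rw [Set.toFinset_card]
    exact hli.fintype_card_le_finrank
  · set W : Submodule ℂ V := ⨆ φ ∈ P.toFinset, common ρ K φ with hW
    have hinv : ∀ k : K, ∀ v ∈ W, ρ k v ∈ W := by
      intro k v hv
      have hle : W ≤ Submodule.comap (ρ (k : G)) W := by
        refine iSup₂_le fun φ hφ v hv => ?_
        rw [Submodule.mem_comap, hv k]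
        exact Submodule.mem_iSup_of_mem φ (Submodule.mem_iSup_of_mem hφ
          (Submodule.smul_mem _ _ hv))
      exact hle hv
    by_contra hne
    have hperp : Wᗮ ≠ ⊥ := fun h => hne (Submodule.orthogonal_eq_bot_iff.1 h)
    have hinv' : ∀ k : K, ∀ v ∈ Wᗮ, ρ k v ∈ Wᗮ := by
      intro k v hv
      rw [Submodule.mem_orthogonal] at hv ⊢
      intro w hw
      have hw' := hinv k⁻¹ w hw
      rw [← hU (k : G)⁻¹ w (ρ k v), ← Module.End.mul_apply, ← map_mul, inv_mul_cancel, map_one,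
        Module.End.one_apply]
      exact hv _ hw'
    obtain ⟨v, hv, hv0, φ, hφ⟩ := exists_common_of_invariant ρ K hK _ hperp hinv'
    have hmem : φ ∈ P.toFinset := by
      rw [Set.mem_toFinset]
      exact (common ρ K φ).ne_bot_iff.2 ⟨v, hφ, hv0⟩
    refine hv0 (inner_self_eq_zero (𝕜 := ℂ).1 ?_)
    exact Submodule.inner_right_of_mem_orthogonal
      (Submodule.mem_iSup_of_mem φ (Submodule.mem_iSup_of_mem hmem hφ)) hv

omit [Finite G] [FiniteDimensional ℂ V] in
theorem norm_sq_sum (K : Subgroup G) (Φ : Finset (K → ℂ)) (x : (K → ℂ) → V)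
    (hx : ∀ φ ∈ Φ, x φ ∈ common ρ K φ) :
    ‖∑ φ ∈ Φ, x φ‖ ^ 2 = ∑ φ ∈ Φ, ‖x φ‖ ^ 2 := by
  classical
  induction Φ using Finset.induction_on with
  | empty => simp
  | insert a s ha ih =>
    rw [Finset.sum_insert ha, Finset.sum_insert ha]
    have h0 : ⟪x a, ∑ φ ∈ s, x φ⟫_ℂ = 0 := by
      rw [inner_sum]
      exact Finset.sum_eq_zero fun φ hφ => inner_eq_zero ρ hU K
        (fun h => ha (by rw [h]; exact hφ)) (hx a (Finset.mem_insert_self a s))
        (hx φ (Finset.mem_insert_of_mem hφ))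
    have := norm_add_sq_eq_norm_sq_add_norm_sq_of_inner_eq_zero _ _ h0
    rw [sq, this, ← sq, ← sq, ih fun φ hφ => hx φ (Finset.mem_insert_of_mem hφ)]

omit [Finite G] in
theorem comm_of_comm_conj (hinj : Function.Injective ρ) {a x : G} {c : ℝ}
    (hx : ‖op ρ x - (c : ℂ) • 1‖ < c) (h : a * (x * a * x⁻¹) = x * a * x⁻¹ * a) :
    x * a = a * x := by
  classical
  by_contra hne
  set a' := x * a * x⁻¹ with ha'
  have hne' : a ≠ a' := fun e => hne (by
    calc x * a = x * a * x⁻¹ * x := by group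
      _ = a * x := by rw [← ha', ← e])
  let K := Subgroup.closure ({a, a'} : Set G)
  have hK : ∀ y ∈ K, ∀ z ∈ K, y * z = z * y := by
    have hle : K ≤ Subgroup.centralizer ({a, a'} : Set G) := by
      refine (Subgroup.closure_le _).2 ?_
      intro y hy
      rw [SetLike.mem_coe, Subgroup.mem_centralizer_iff]
      intro z hz
      simp only [Set.mem_insert_iff, Set.mem_singleton_iff] at hy hz
      rcases hy with rfl | rfl <;> rcases hz with rfl | rfl
      exacts [rfl, h.symm, h, rfl]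
    intro y hy z hz
    have hle' : K ≤ Subgroup.centralizer (K : Set G) := by
      refine (Subgroup.closure_le _).2 fun w hw => ?_
      rw [SetLike.mem_coe, Subgroup.mem_centralizer_iff]
      intro k hk
      exact ((Subgroup.mem_centralizer_iff.1 (hle hk)) w hw).symm
    exact Subgroup.mem_centralizer_iff.1 (hle' hz) y hy
  have haK : a ∈ K := Subgroup.subset_closure (by simp)
  have ha'K : a' ∈ K := Subgroup.subset_closure (by simp)
  obtain ⟨Φ, -, hΦ, hsup⟩ := exists_spectrum ρ hU K hK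
  have hex : ∃ φ ∈ Φ, φ ⟨a, haK⟩ ≠ φ ⟨a', ha'K⟩ := by
    by_contra hall
    push Not at hall
    refine hne' (hinj (LinearMap.ext fun v => ?_))
    have hle : (⊤ : Submodule ℂ V) ≤ LinearMap.eqLocus (ρ a) (ρ a') := by
      rw [← hsup]
      refine iSup₂_le fun φ hφ v hv => ?_
      show ρ a v = ρ a' v
      rw [hv ⟨a, haK⟩, hv ⟨a', ha'K⟩, hall φ hφ]
    exact hle (Submodule.mem_top (x := v))
  obtain ⟨φ, hφΦ, hφ⟩ := hex
  obtain ⟨w, hw, hw0⟩ := (common ρ K φ).ne_bot_iff.1 (hΦ φ hφΦ)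
  set v := ρ x⁻¹ w with hv
  have hwa : ρ a w = φ ⟨a, haK⟩ • w := hw ⟨a, haK⟩
  have hva : ρ a v = φ ⟨a', ha'K⟩ • v := by
    rw [hv, ← map_smul, ← hw ⟨a', ha'K⟩, ← Module.End.mul_apply, ← Module.End.mul_apply,
      ← map_mul, ← map_mul]
    congr 2
    show a * x⁻¹ = x⁻¹ * a'
    rw [ha']; group
  have hv0 : v ≠ 0 := fun e => hw0 (norm_eq_zero.1 (by rw [← norm_rho ρ hU x⁻¹ w, ← hv, e,
    norm_zero]))
  have horth : ⟪w, v⟫_ℂ = 0 := by
    by_contra hwv
    have h1 := hU a w v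
    rw [hwa, hva, inner_smul_left, inner_smul_right, ← mul_assoc] at h1
    have h1' : conj (φ ⟨a, haK⟩) * φ ⟨a', ha'K⟩ = 1 := mul_right_cancel₀ hwv (by rw [h1, one_mul])
    have h2 : ‖φ ⟨a, haK⟩‖ = 1 := by
      have := norm_rho ρ hU a w
      rw [hwa, norm_smul] at this
      exact (mul_eq_right₀ (norm_ne_zero_iff.2 hw0)).1 this
    have h3 : φ ⟨a, haK⟩ * conj (φ ⟨a, haK⟩) = 1 := by rw [Complex.mul_conj', h2]; simp
    exact hφ (by
      calc φ ⟨a, haK⟩ = φ ⟨a, haK⟩ * (conj (φ ⟨a, haK⟩) * φ ⟨a', ha'K⟩) := by rw [h1', mul_one]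
        _ = φ ⟨a', ha'K⟩ := by rw [← mul_assoc, h3, one_mul])
  have hxv : ρ x v = w := by
    rw [hv, ← Module.End.mul_apply, ← map_mul, mul_inv_cancel, map_one, Module.End.one_apply]
  have hb := (op ρ x - (c : ℂ) • 1).le_opNorm v
  have hcpos : 0 < c := lt_of_le_of_lt (norm_nonneg _) hx
  have happ : (op ρ x - (c : ℂ) • 1) v = w - (c : ℂ) • v := by simp [hxv]
  rw [happ] at hb
  have hlow : c * ‖v‖ ≤ ‖w - (c : ℂ) • v‖ := by
    have hsq : ‖w - (c : ℂ) • v‖ ^ 2 = ‖w‖ ^ 2 + (c * ‖v‖) ^ 2 := by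
      rw [norm_sub_sq (𝕜 := ℂ), inner_smul_right, horth, norm_smul, Complex.norm_real,
        Real.norm_of_nonneg hcpos.le]
      simp
    nlinarith [sq_nonneg ‖w‖, norm_nonneg (w - (c : ℂ) • v),
      mul_nonneg hcpos.le (norm_nonneg v)]
  nlinarith [norm_pos_iff.2 hv0]

omit [Finite G] in
theorem norm_commutator_le (a b : G) (z w : ℂ) :
    ‖op ρ (a * b * a⁻¹ * b⁻¹) - 1‖ ≤ 2 * ‖op ρ a - z • 1‖ * ‖op ρ b - w • 1‖ := by
  have h1 : op ρ (a * b * a⁻¹ * b⁻¹) - 1 =
      (op ρ a * op ρ b - op ρ b * op ρ a) * op ρ (a⁻¹ * b⁻¹) := by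
    rw [sub_mul, ← map_mul, ← map_mul, ← map_mul, ← map_mul]
    simp [mul_assoc]
  have h2 : op ρ a * op ρ b - op ρ b * op ρ a =
      (op ρ a - z • 1) * (op ρ b - w • 1) - (op ρ b - w • 1) * (op ρ a - z • 1) := by
    simp only [sub_mul, mul_sub, smul_mul_assoc, mul_smul_comm, one_mul, mul_one, smul_sub,
      smul_smul]
    rw [mul_comm z w]
    abel
  have h3 : ‖op ρ a * op ρ b - op ρ b * op ρ a‖ ≤
      2 * ‖op ρ a - z • 1‖ * ‖op ρ b - w • 1‖ := by
    rw [h2]
    refine (norm_sub_le _ _).trans ?_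
    have := norm_mul_le (op ρ a - z • 1) (op ρ b - w • 1)
    have := norm_mul_le (op ρ b - w • 1) (op ρ a - z • 1)
    linarith
  rw [h1]
  refine (norm_mul_le _ _).trans ?_
  calc ‖op ρ a * op ρ b - op ρ b * op ρ a‖ * ‖op ρ (a⁻¹ * b⁻¹)‖
      ≤ (2 * ‖op ρ a - z • 1‖ * ‖op ρ b - w • 1‖) * 1 :=
        mul_le_mul h3 (norm_op_le ρ hU _) (norm_nonneg _) (by positivity)
    _ = _ := mul_one _

theorem comm_of_small (hinj : Function.Injective ρ) {a b : G} {c : ℝ} (hc : 1 / 2 ≤ c)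
    (ha : ‖op ρ a - (c : ℂ) • 1‖ < 1 / 2) (hb : ‖op ρ b - (c : ℂ) • 1‖ < 1 / 2) :
    a * b = b * a := by
  set r := 2 * ‖op ρ a - (c : ℂ) • 1‖ with hr
  have hr0 : 0 ≤ r := by positivity
  have hr1 : r < 1 := by rw [hr]; linarith
  let k : ℕ → G := fun i => Nat.rec b (fun _ y => a * y * a⁻¹ * y⁻¹) i
  have hk0 : k 0 = b := rfl
  have hks : ∀ i, k (i + 1) = a * k i * a⁻¹ * (k i)⁻¹ := fun i => rfl
  have hk1 : ∀ i, ‖op ρ (k (i + 1)) - 1‖ ≤ r ^ i * (1 / 2) := by
    intro i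
    induction i with
    | zero =>
      have h := norm_commutator_le ρ hU a b (c : ℂ) (c : ℂ)
      rw [hks, hk0, pow_zero, one_mul]
      nlinarith [norm_nonneg (op ρ a - (c : ℂ) • 1), norm_nonneg (op ρ b - (c : ℂ) • 1)]
    | succ i ih =>
      have h := norm_commutator_le ρ hU a (k (i + 1)) (c : ℂ) 1
      rw [one_smul, ← hks (i + 1), ← hr] at h
      refine h.trans ?_
      calc r * ‖op ρ (k (i + 1)) - 1‖ ≤ r * (r ^ i * (1 / 2)) := mul_le_mul_of_nonneg_left ih hr0
        _ = _ := by ring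
  -- some term of the sequence is trivial
  have hex : ∃ i, k (i + 1) = 1 := by
    by_contra hall
    push Not at hall
    classical
    cases nonempty_fintype G
    have hpos : ∀ g : G, g ≠ 1 → 0 < ‖op ρ g - 1‖ := fun g hg => by
      rw [norm_pos_iff, sub_ne_zero]
      intro e
      exact hg (hinj (LinearMap.ext fun v => by
        have := congrArg (fun T : V →L[ℂ] V => T v) e
        simpa using this))
    obtain ⟨g, hg, hmin⟩ := Finset.exists_min_image (Finset.univ.filter fun g : G => g ≠ 1)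
      (fun g => ‖op ρ g - 1‖) ⟨k 1, by simpa using hall 0⟩
    have hg' := hpos g (Finset.mem_filter.1 hg).2
    obtain ⟨i, hi⟩ := exists_pow_lt_of_lt_one hg' hr1
    have h1 := hmin (k (i + 1)) (by simpa using hall i)
    have h2 := hk1 i
    nlinarith [pow_nonneg hr0 i]
  -- go back to `b`
  have hback : ∀ j, k (j + 1) = 1 → a * b = b * a := by
    intro j
    induction j with
    | zero =>
      intro h
      rw [hks, hk0, mul_inv_eq_one, mul_inv_eq_iff_eq_mul] at h
      exact h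
    | succ j ih =>
      intro h
      rw [hks (j + 1), mul_inv_eq_one, mul_inv_eq_iff_eq_mul] at h
      -- `a` commutes with `k (j + 1) = [a, k j]`, hence with `k j`
      refine ih ?_
      have hconj : a * (k j * a * (k j)⁻¹) = k j * a * (k j)⁻¹ * a := by
        have e : k j * a * (k j)⁻¹ = (k (j + 1))⁻¹ * a := by rw [hks]; group
        have h' : Commute a (k (j + 1)) := h
        rw [e, ← mul_assoc, h'.inv_right.eq]
      obtain ⟨c', hc'⟩ : ∃ c' : ℝ, ‖op ρ (k j) - (c' : ℂ) • 1‖ < c' := by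
        rcases j with _ | j
        · exact ⟨c, hk0 ▸ lt_of_lt_of_le hb hc⟩
        · refine ⟨1, ?_⟩
          rw [Complex.ofReal_one, one_smul]
          refine lt_of_le_of_lt (hk1 j) ?_
          have := pow_le_one₀ (n := j) hr0 hr1.le
          linarith
      rw [hks, mul_inv_eq_one, mul_inv_eq_iff_eq_mul]
      exact (comm_of_comm_conj ρ hU hinj hc' hconj).symm
  obtain ⟨i, hi⟩ := hex
  exact hback i hi

end Basics

theorem normSq_sub_lt {z : ℂ} (hz : ‖z‖ = 1) (h : Real.sqrt 3 / 2 < z.re) :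
    ‖z - ((Real.sqrt 3 / 2 : ℝ) : ℂ)‖ < 1 / 2 := by
  set c := Real.sqrt 3 / 2 with hc
  have hc2 : c ^ 2 = 3 / 4 := by rw [hc, div_pow, Real.sq_sqrt (by norm_num)]; norm_num
  have hcpos : 0 < c := by positivity
  have h1 : ‖z - (c : ℂ)‖ ^ 2 = 1 - 2 * c * z.re + c ^ 2 := by
    rw [Complex.sq_norm, Complex.normSq_apply]
    have h2 : z.re * z.re + z.im * z.im = 1 := by
      rw [← Complex.normSq_apply, ← Complex.sq_norm, hz, one_pow]
    simp only [Complex.sub_re, Complex.sub_im, Complex.ofReal_re, Complex.ofReal_im, sub_zero]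
    nlinarith
  nlinarith [norm_nonneg (z - (c : ℂ))]

/-- Arcs of width `π / 6`. -/
noncomputable def arc (z : ℂ) : Fin 12 :=
  ⟨⌈(z.arg + Real.pi) / (Real.pi / 6)⌉₊ - 1, by
    have h : ⌈(z.arg + Real.pi) / (Real.pi / 6)⌉₊ ≤ 12 := by
      rw [Nat.ceil_le, div_le_iff₀ (by positivity)]
      have := Complex.arg_le_pi z
      push_cast
      linarith
    omega⟩

theorem re_gt_of_arc_eq {z w : ℂ} (hz : ‖z‖ = 1) (hw : ‖w‖ = 1) (h : arc z = arc w) :
    Real.sqrt 3 / 2 < (conj z * w).re := by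
  have hz0 : z ≠ 0 := fun e => by rw [e, norm_zero] at hz; exact zero_ne_one hz
  have hw0 : w ≠ 0 := fun e => by rw [e, norm_zero] at hw; exact zero_ne_one hw
  have hre : (conj z * w).re = Real.cos (z.arg - w.arg) := by
    rw [Real.cos_sub, Complex.cos_arg hz0, Complex.cos_arg hw0, Complex.sin_arg, Complex.sin_arg,
      hz, hw]
    simp
  have hpos : ∀ y : ℂ, 0 < (y.arg + Real.pi) / (Real.pi / 6) := fun y => by
    have := Complex.neg_pi_lt_arg y
    exact div_pos (by linarith) (by positivity)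
  have hb : ∀ y : ℂ, ((arc y : ℕ) : ℝ) < (y.arg + Real.pi) / (Real.pi / 6) ∧
      (y.arg + Real.pi) / (Real.pi / 6) ≤ (arc y : ℕ) + 1 := fun y => by
    have h1 : 0 < ⌈(y.arg + Real.pi) / (Real.pi / 6)⌉₊ := Nat.ceil_pos.2 (hpos y)
    have h2 : ((arc y : ℕ) : ℝ) + 1 = (⌈(y.arg + Real.pi) / (Real.pi / 6)⌉₊ : ℝ) := by
      simp only [arc]
      rw [Nat.cast_sub h1, Nat.cast_one, sub_add_cancel]
    refine ⟨?_, h2 ▸ Nat.le_ceil _⟩
    have := Nat.ceil_lt_add_one (hpos y).le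
    linarith
  obtain ⟨h1, h2⟩ := hb z
  obtain ⟨h3, h4⟩ := hb w
  rw [h] at h1 h2
  have hpi : 0 < Real.pi / 6 := by positivity
  rw [lt_div_iff₀ hpi] at h1 h3
  rw [div_le_iff₀ hpi] at h2 h4
  have hlt : |z.arg - w.arg| < Real.pi / 6 := by
    rw [abs_sub_lt_iff]
    constructor <;> nlinarith
  rw [hre, ← Real.cos_pi_div_six, ← Real.cos_abs (z.arg - w.arg)]
  exact Real.cos_lt_cos_of_nonneg_of_le_pi (abs_nonneg _) (by linarith) hlt

theorem exists_abelian_normal (ρ : Representation ℂ G V)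
    (hU : ∀ g v w, ⟪ρ g v, ρ g w⟫_ℂ = ⟪v, w⟫_ℂ) (hinj : Function.Injective ρ) :
    ∃ A : Subgroup G, A.Normal ∧ (∀ x ∈ A, ∀ y ∈ A, x * y = y * x) ∧
      ∀ H : Subgroup G, (∀ x ∈ H, ∀ y ∈ H, x * y = y * x) →
        (A.subgroupOf H).index ≤ 12 ^ finrank ℂ V := by
  classical
  set c : ℝ := Real.sqrt 3 / 2 with hc
  set S : Set G := {g | ‖op ρ g - (c : ℂ) • 1‖ < 1 / 2} with hS
  have hconj : ∀ h g, g ∈ S → h * g * h⁻¹ ∈ S := by
    intro h g hg
    show ‖op ρ (h * g * h⁻¹) - (c : ℂ) • 1‖ < 1 / 2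
    have e : op ρ (h * g * h⁻¹) - (c : ℂ) • 1 =
        op ρ h * (op ρ g - (c : ℂ) • 1) * op ρ h⁻¹ := by
      rw [mul_sub, sub_mul, mul_smul_comm, mul_one, smul_mul_assoc, ← map_mul, ← map_mul,
        ← map_mul, mul_inv_cancel, map_one]
    rw [e]
    refine lt_of_le_of_lt ?_ hg
    refine (norm_mul_le _ _).trans ?_
    refine (mul_le_of_le_one_right (norm_nonneg _) (norm_op_le ρ hU _)).trans ?_
    exact (norm_mul_le _ _).trans (mul_le_of_le_one_left (norm_nonneg _) (norm_op_le ρ hU _))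
  have hcomm : ∀ x ∈ S, ∀ y ∈ S, x * y = y * x := fun x hx y hy =>
    comm_of_small ρ hU hinj (c := c) (by
      rw [hc]
      have : (1 : ℝ) ≤ Real.sqrt 3 := Real.one_le_sqrt.2 (by norm_num)
      linarith) hx hy
  refine ⟨Subgroup.closure S, ⟨fun g hg h => ?_⟩, ?_, ?_⟩
  · have hle : Subgroup.closure S ≤ (Subgroup.closure S).comap (MulAut.conj h).toMonoidHom :=
      (Subgroup.closure_le _).2 fun g hg => Subgroup.subset_closure (hconj h g hg)
    exact hle hg
  · have h1 : Subgroup.closure S ≤ Subgroup.centralizer S :=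
      (Subgroup.closure_le _).2 fun x hx => Subgroup.mem_centralizer_iff.2
        fun y hy => hcomm y hy x hx
    intro x hx y hy
    have h2 : Subgroup.closure S ≤ Subgroup.centralizer (Subgroup.closure S : Set G) :=
      (Subgroup.closure_le _).2 fun s hs => Subgroup.mem_centralizer_iff.2 fun k hk =>
        ((Subgroup.mem_centralizer_iff.1 (h1 hk)) s hs).symm
    exact Subgroup.mem_centralizer_iff.1 (h2 hy) x hx
  intro H hH
  obtain ⟨Φ, hcard, hne, hsup⟩ := exists_spectrum ρ hU H hH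
  let sig : H → (Φ → Fin 12) := fun h φ => arc ((φ : H → ℂ) h)
  have key : ∀ h h' : H, sig h = sig h' → ((h⁻¹ * h' : H) : G) ∈ S := by
    intro h h' hsig
    have hval : ∀ φ : Φ, ‖(φ : H → ℂ) (h⁻¹ * h') - (c : ℂ)‖ < 1 / 2 := by
      intro φ
      obtain ⟨v, hv, hv0⟩ := (common ρ H φ).ne_bot_iff.1 (hne φ φ.2)
      have hn : ∀ k : H, ‖(φ : H → ℂ) k‖ = 1 := fun k => by
        have := norm_rho ρ hU k v
        rw [hv k, norm_smul] at this
        exact (mul_eq_right₀ (norm_ne_zero_iff.2 hv0)).1 this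
      have hmul : (φ : H → ℂ) h * (φ : H → ℂ) (h⁻¹ * h') = (φ : H → ℂ) h' := by
        have e : ρ (h : G) (ρ ((h⁻¹ * h' : H) : G) v) = ρ (h' : G) v := by
          rw [← Module.End.mul_apply, ← map_mul]
          simp
        rw [hv _, map_smul, hv, hv, smul_smul, mul_comm] at e
        exact smul_left_injective ℂ hv0 e
      have e : (φ : H → ℂ) (h⁻¹ * h') = conj ((φ : H → ℂ) h) * (φ : H → ℂ) h' := by
        rw [← hmul, ← mul_assoc, Complex.conj_mul', hn]
        simp
      rw [e]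
      refine normSq_sub_lt ?_ (re_gt_of_arc_eq (hn _) (hn _) (congrFun hsig φ))
      rw [norm_mul, Complex.norm_conj, hn, hn, mul_one]
    set r : NNReal := Finset.univ.sup fun φ : Φ => ‖(φ : H → ℂ) (h⁻¹ * h') - (c : ℂ)‖₊ with hr
    have hr2 : (r : ℝ) < 1 / 2 := by
      have : r < (1 / 2 : NNReal) := by
        rw [hr, Finset.sup_lt_iff (by norm_num)]
        intro φ _
        rw [← NNReal.coe_lt_coe, coe_nnnorm]
        simpa using hval φ
      simpa using NNReal.coe_lt_coe.2 this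
    refine lt_of_le_of_lt ?_ hr2
    refine ContinuousLinearMap.opNorm_le_bound _ r.2 fun v => ?_
    have hmem : v ∈ ⨆ φ ∈ Φ, common ρ H φ := hsup.symm ▸ Submodule.mem_top
    rw [Submodule.mem_iSup_finset_iff_exists_sum] at hmem
    obtain ⟨μ, rfl⟩ := hmem
    have happ : (op ρ ((h⁻¹ * h' : H) : G) - (c : ℂ) • 1) (∑ φ ∈ Φ, (μ φ : V)) =
        ∑ φ ∈ Φ, (φ (h⁻¹ * h') - (c : ℂ)) • (μ φ : V) := by
      rw [map_sum]
      refine Finset.sum_congr rfl fun φ _ => ?_
      rw [sub_apply, op_apply, (μ φ).2 _, sub_smul]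
      rfl
    rw [happ, ← abs_of_nonneg (norm_nonneg (∑ φ ∈ Φ, (φ (h⁻¹ * h') - (c : ℂ)) • (μ φ : V)))]
    refine abs_le_of_sq_le_sq ?_ (mul_nonneg r.2 (norm_nonneg _))
    rw [mul_pow, norm_sq_sum ρ hU H Φ _ (fun φ _ => Submodule.smul_mem _ _ (μ φ).2),
      norm_sq_sum ρ hU H Φ _ (fun φ _ => (μ φ).2), Finset.mul_sum]
    refine Finset.sum_le_sum fun φ hφ => ?_
    rw [norm_smul, mul_pow]
    refine mul_le_mul_of_nonneg_right (pow_le_pow_left₀ (norm_nonneg _) ?_ 2) (sq_nonneg _)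
    have := Finset.le_sup (f := fun φ : Φ => ‖(φ : H → ℂ) (h⁻¹ * h') - (c : ℂ)‖₊)
      (Finset.mem_univ ⟨φ, hφ⟩)
    exact_mod_cast this
  have hinj' : Function.Injective fun q : H ⧸ (Subgroup.closure S).subgroupOf H => sig q.out := by
    intro q q' e
    rw [← QuotientGroup.out_eq' q, ← QuotientGroup.out_eq' q', QuotientGroup.eq,
      Subgroup.mem_subgroupOf]
    exact Subgroup.subset_closure (key _ _ e)
  rw [Subgroup.index_eq_card]
  refine (Nat.card_le_card_of_injective _ hinj').trans ?_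
  rw [Nat.card_fun, Nat.card_eq_fintype_card, Nat.card_eq_fintype_card, Fintype.card_fin,
    Fintype.card_coe]
  exact Nat.pow_le_pow_right (by norm_num) hcard

omit [Finite G] in
/-- Every representation of a finite group on a coordinate space is unitarizable. -/
theorem exists_unitary [Fintype G] {n : ℕ} (ρ : Representation ℂ G (Fin n → ℂ)) :
    ∃ (W : Submodule ℂ (EuclideanSpace ℂ (G × Fin n))) (σ : Representation ℂ G W),
      (∀ g v w, ⟪σ g v, σ g w⟫_ℂ = ⟪v, w⟫_ℂ) ∧ finrank ℂ W = n ∧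
      ∀ g, σ g = 1 → ρ g = 1 := by
  let ι : (Fin n → ℂ) →ₗ[ℂ] EuclideanSpace ℂ (G × Fin n) :=
    { toFun := fun v => WithLp.toLp 2 fun p => ρ p.1 v p.2
      map_add' := fun v w => by ext p; simp
      map_smul' := fun z v => by ext p; simp }
  have hι : Function.Injective ι := fun v w e => by
    funext i
    have := congrArg (fun F : EuclideanSpace ℂ (G × Fin n) => F (1, i)) e
    simpa [ι] using this
  let e := LinearEquiv.ofInjective ι hι
  refine ⟨LinearMap.range ι,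
    { toFun := fun g => e.conj (ρ g)
      map_one' := by rw [map_one]; exact e.conj_id
      map_mul' := fun a b => by rw [map_mul]; exact LinearEquiv.conj_comp e (ρ b) (ρ a) },
    fun g v w => ?_, ?_, fun g h => ?_⟩
  · obtain ⟨v, rfl⟩ := e.surjective v
    obtain ⟨w, rfl⟩ := e.surjective w
    show ⟪e.conj (ρ g) (e v), e.conj (ρ g) (e w)⟫_ℂ = _
    rw [LinearEquiv.conj_apply_apply, LinearEquiv.conj_apply_apply, e.symm_apply_apply,
      e.symm_apply_apply, Submodule.coe_inner, Submodule.coe_inner, PiLp.inner_apply,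
      PiLp.inner_apply]
    refine Fintype.sum_equiv ((Equiv.mulRight g).prodCongr (Equiv.refl _)) _ _ fun p => ?_
    simp [e, ι]
  · rw [← e.finrank_eq, finrank_fin_fun]
  · exact e.conj.injective (h.trans e.conj_id.symm)

end CfsgLib.CharDeep.SmallCommute
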