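import Cfsg.Agent.Lib.CharDeep.PermChar
import Mathlib.GroupTheory.Sylow
import Mathlib.GroupTheory.SpecificGroups.Cyclic
import Mathlib.Algebra.Field.ZMod
import Mathlib.FieldTheory.Finite.Basic
import Mathlib.Tactic.Ring

/-!
# Solomon's induction theorem
-/

namespace CfsgLib.CharDeep.Solomon

open MulAction PermChar

variable {G : Type*} [Group G]

/-- `H` has a cyclic normal subgroup of order prime to `p` and `p`-power index. -/
def Hyper (p : ℕ) (H : Subgroup G) : Prop :=
  ∃ C : Subgroup G, C ≤ H ∧ H ≤ Subgroup.normalizer (C : Set G) ∧ IsCyclic C ∧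
    Nat.Coprime (Nat.card C) p ∧ ∃ k : ℕ, C.relIndex H = p ^ k

theorem Hyper.mono {p : ℕ} (hp : p.Prime) {H U : Subgroup G} (h : Hyper p H) (hU : U ≤ H) :
    Hyper p U := by
  obtain ⟨C, hCH, hHN, hcyc, hcop, k, hk⟩ := h
  refine ⟨C ⊓ U, inf_le_right, ?_, ?_, hcop.coprime_dvd_left (Subgroup.card_dvd_of_le inf_le_left),
    ?_⟩
  · intro u hu
    rw [Subgroup.mem_normalizer_iff]
    intro x
    have h1 := Subgroup.mem_normalizer_iff.1 (hHN (hU hu)) x
    constructor
    · rintro ⟨hxC, hxU⟩
      exact ⟨h1.1 hxC, U.mul_mem (U.mul_mem hu hxU) (U.inv_mem hu)⟩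
    · rintro ⟨hxC, hxU⟩
      refine ⟨h1.2 hxC, ?_⟩
      have h2 := U.mul_mem (U.mul_mem (U.inv_mem hu) hxU) hu
      simpa [mul_assoc] using h2
  · exact isCyclic_of_injective (Subgroup.inclusion inf_le_left) (Subgroup.inclusion_injective _)
  · have : (C.subgroupOf H).Normal := (Subgroup.normal_subgroupOf_iff_le_normalizer hCH).2 hHN
    have h1 : (C.subgroupOf H).relIndex (U.subgroupOf H) ∣ (C.subgroupOf H).index :=
      Subgroup.relIndex_dvd_index_of_normal _ _
    rw [Subgroup.relIndex_subgroupOf hU,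
      show (C.subgroupOf H).index = C.relIndex H from rfl, hk] at h1
    obtain ⟨j, -, hj⟩ := (Nat.dvd_prime_pow hp).1 h1
    exact ⟨j, by rw [Subgroup.inf_relIndex_right, hj]⟩

/-- Every element is fixed by `≢ 0 (mod p)` points of some hyper-elementary coset space. -/
theorem exists_hyper_not_dvd [Finite G] (x : G) (p : ℕ) [Fact p.Prime] :
    ∃ H : Subgroup G, Hyper p H ∧ ¬ p ∣ fixCount H x := by
  classical
  have hp : p.Prime := Fact.out
  set n := orderOf x
  set a := n.factorization p
  set m := n / p ^ a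
  have hn : n = p ^ a * m := (Nat.ordProj_mul_ordCompl_eq_self n p).symm
  have hn0 : n ≠ 0 := (orderOf_pos x).ne'
  have hm : Nat.Coprime p m := Nat.coprime_ordCompl hp hn0
  set y := x ^ (p ^ a)
  set C := Subgroup.zpowers y
  have hy : orderOf y = m := by
    rw [orderOf_pow' x (pow_ne_zero _ hp.ne_zero), show orderOf x = n from rfl, hn,
      Nat.gcd_eq_right (dvd_mul_right _ _), Nat.mul_div_cancel_left _ (pow_pos hp.pos a)]
  have hcop : Nat.Coprime (Nat.card C) p := by
    rw [Nat.card_zpowers, hy]; exact hm.symm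
  set N := Subgroup.normalizer (C : Set G)
  have hCN : C ≤ N := Subgroup.le_normalizer
  have hxN : x ∈ N := by
    rw [Subgroup.mem_normalizer_iff]
    intro z
    have key : ∀ w ∈ C, x * w * x⁻¹ = w := by
      rintro _ ⟨i, rfl⟩
      have hxy : Commute x y := Commute.self_pow x _
      rw [(hxy.zpow_right i).eq, mul_inv_cancel_right]
    constructor
    · intro hz; rwa [key z hz]
    · intro hz
      have h1 := key _ hz
      rw [mul_left_inj, mul_right_inj] at h1
      rwa [h1] at hz
  let xp : N := ⟨x ^ m, N.pow_mem hxN m⟩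
  have hxp : orderOf xp = p ^ a := by
    rw [Subgroup.orderOf_mk, orderOf_pow' x (fun h0 => by
      rw [h0, mul_zero] at hn; exact hn0 hn), show orderOf x = n from rfl, hn,
      Nat.gcd_eq_right (dvd_mul_left _ _), Nat.mul_div_cancel _ (Nat.pos_of_ne_zero fun h0 => by
        rw [h0, mul_zero] at hn; exact hn0 hn)]
  obtain ⟨P, hP⟩ := (IsPGroup.of_card (p := p) (n := a)
    (by rw [Nat.card_zpowers, hxp]) : IsPGroup p (Subgroup.zpowers xp)).exists_le_sylow
  set P' : Subgroup G := (P : Subgroup N).map N.subtype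
  have hP'N : P' ≤ N := Subgroup.map_subtype_le _
  set H := C ⊔ P'
  have hHN : H ≤ N := sup_le hCN hP'N
  have hCH : C ≤ H := le_sup_left
  obtain ⟨k, hk⟩ := P.2.exists_card_eq
  have hidx : ∃ j, C.relIndex H = p ^ j := by
    have h1 : C.relIndex H ∣ p ^ k := by
      have : (C.subgroupOf N).Normal :=
        (Subgroup.normal_subgroupOf_iff_le_normalizer hCN).2 le_rfl
      rw [← Subgroup.relIndex_subgroupOf hHN, Subgroup.subgroupOf_sup hCN hP'N, sup_comm,
        Subgroup.relIndex_sup_right, ← hk,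
        show P'.subgroupOf N = (P : Subgroup N) from
          Subgroup.comap_map_eq_self_of_injective N.subtype_injective _]
      exact Subgroup.relIndex_dvd_card _ _
    obtain ⟨j, -, hj⟩ := (Nat.dvd_prime_pow hp).1 h1
    exact ⟨j, hj⟩
  refine ⟨H, ⟨C, hCH, hHN, inferInstance, hcop, hidx⟩, ?_⟩
  obtain ⟨j, hj⟩ := hidx
  -- elements of order prime to `p` in `H` lie in `C`
  have hreg : ∀ h ∈ H, Nat.Coprime (orderOf h) p → h ∈ C := by
    intro h hh hho
    have : (C.subgroupOf H).Normal := (Subgroup.normal_subgroupOf_iff_le_normalizer hCH).2 hHN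
    have h1 : h ^ (p ^ j) ∈ C := by
      rw [← hj]
      exact (C.subgroupOf H).pow_index_mem ⟨h, hh⟩
    obtain ⟨t, ht⟩ := exists_pow_eq_self_of_coprime (x := h) (hho.symm.pow_left j)
    exact ht ▸ C.pow_mem h1 t
  -- `x ^ m` and `y` generate `x`
  have hxH : x ∈ H := by
    have hxm : x ^ m ∈ H := le_sup_right (a := C)
      ⟨xp, hP (Subgroup.mem_zpowers xp), rfl⟩
    obtain ⟨u, v, huv⟩ := Nat.Coprime.isCoprime (hm.pow_left a)
    rw [← zpow_one x, ← huv, zpow_add, mul_comm u, mul_comm v, zpow_mul, zpow_mul,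
      zpow_natCast, zpow_natCast]
    exact H.mul_mem (H.zpow_mem (hCH (Subgroup.mem_zpowers y)) u) (H.zpow_mem hxm v)
  let xN : N := ⟨x, hxN⟩
  set HN := H.subgroupOf N
  -- fixed cosets of `x` lie in `N / H`
  have hfix : fixCount H x = Nat.card {q : N ⧸ HN // xN • q = q} := by
    let f : {q : N ⧸ HN // xN • q = q} → {q : G ⧸ H // x • q = q} := fun q =>
      ⟨(((q.1.out : N) : G) : G ⧸ H), by
        rw [smul_mk_eq_iff]
        have h2 := q.2
        rw [← QuotientGroup.out_eq' q.1, smul_mk_eq_iff] at h2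
        exact h2⟩
    refine (Nat.card_congr (Equiv.ofBijective f ⟨?_, ?_⟩)).symm
    · rintro ⟨q, hq⟩ ⟨q', hq'⟩ h
      have h1 := QuotientGroup.eq.1 (congrArg Subtype.val h)
      refine Subtype.ext ?_
      show q = q'
      rw [← QuotientGroup.out_eq' q, ← QuotientGroup.out_eq' q', QuotientGroup.eq]
      exact h1
    · rintro ⟨q, hq⟩
      obtain ⟨g, rfl⟩ := QuotientGroup.mk_surjective q
      rw [smul_mk_eq_iff] at hq
      have hgy : g⁻¹ * y * g ∈ C := by
        refine hreg _ ?_ ?_
        · have h1 : g⁻¹ * y * g = (g⁻¹ * x * g) ^ (p ^ a) := by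
            have := conj_pow (i := p ^ a) (a := g⁻¹) (b := x)
            rw [inv_inv] at this
            exact this.symm
          exact h1 ▸ H.pow_mem hq _
        · have := orderOf_injective (MulAut.conj g⁻¹).toMonoidHom (MulAut.conj g⁻¹).injective y
          simp only [MulEquiv.coe_toMonoidHom, MulAut.conj_apply, inv_inv] at this
          rw [this, hy]
          exact hm.symm
      have hgN : g ∈ N := by
        have hle : C.map (MulAut.conj g⁻¹).toMonoidHom ≤ C := by
          rintro _ ⟨_, ⟨i, rfl⟩, rfl⟩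
          rw [map_zpow]
          refine C.zpow_mem ?_ i
          simpa using hgy
        have heq := Subgroup.eq_of_le_of_card_ge hle (le_of_eq (Nat.card_congr
          (C.equivMapOfInjective (MulAut.conj g⁻¹).toMonoidHom (MulAut.conj g⁻¹).injective).toEquiv))
        rw [Subgroup.mem_normalizer_iff]
        intro z
        constructor
        · intro hz
          obtain ⟨w, hw, hwz⟩ := heq.ge hz
          rw [← hwz]
          simpa [mul_assoc] using hw
        · intro hz
          exact heq ▸ ⟨g * z * g⁻¹, hz, by simp [mul_assoc]⟩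
      have hg2 : xN • ((⟨g, hgN⟩ : N) : N ⧸ HN) = ((⟨g, hgN⟩ : N) : N ⧸ HN) :=
        (smul_mk_eq_iff HN xN ⟨g, hgN⟩).2 hq
      refine ⟨⟨_, hg2⟩, Subtype.ext ?_⟩
      refine QuotientGroup.eq.2 ?_
      have h5 := QuotientGroup.eq.1 (QuotientGroup.out_eq' ((⟨g, hgN⟩ : N) : N ⧸ HN))
      exact h5
  rw [hfix]
  -- `C` acts trivially, so only the `p`-part of `x` matters
  have hy_fix : ∀ q : N ⧸ HN, (xN ^ (p ^ a)) • q = q := by
    intro q
    obtain ⟨u, rfl⟩ := QuotientGroup.mk_surjective q
    rw [smul_mk_eq_iff]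
    refine hCH ?_
    have h1 := Subgroup.mem_normalizer_iff.1 (N.inv_mem u.2) y |>.1 (Subgroup.mem_zpowers y)
    simpa [y, xN] using h1
  have hiff : ∀ q : N ⧸ HN, xN • q = q ↔ q ∈ fixedPoints (Subgroup.zpowers xp) (N ⧸ HN) := by
    intro q
    have hxpq : xp = xN ^ m := Subtype.ext (by simp [xp, xN])
    constructor
    · intro h z
      obtain ⟨i, hi⟩ := z.2
      show (z : N) • q = q
      rw [← hi, hxpq, ← mem_stabilizer_iff]
      exact Subgroup.zpow_mem _ (Subgroup.pow_mem _ h m) i
    · intro h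
      have h1 : xN ^ m ∈ stabilizer N q := hxpq ▸ h ⟨xp, Subgroup.mem_zpowers xp⟩
      obtain ⟨u, v, huv⟩ := Nat.Coprime.isCoprime (hm.pow_left a)
      rw [← mem_stabilizer_iff, ← zpow_one xN, ← huv, zpow_add, mul_comm u, mul_comm v, zpow_mul,
        zpow_mul, zpow_natCast, zpow_natCast]
      exact Subgroup.mul_mem _ (Subgroup.zpow_mem _ (hy_fix q) u) (Subgroup.zpow_mem _ h1 v)
  rw [Nat.card_congr (Equiv.subtypeEquivRight hiff)]
  intro hdvd
  have hmod := (IsPGroup.of_card (p := p) (n := a) (by rw [Nat.card_zpowers, hxp]) :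
    IsPGroup p (Subgroup.zpowers xp)).card_modEq_card_fixedPoints (N ⧸ HN)
  have h2 : p ∣ HN.index := Nat.modEq_zero_iff_dvd.1
    (hmod.trans (Nat.modEq_zero_iff_dvd.2 hdvd))
  have h3 : HN.index ∣ (P : Subgroup N).index :=
    Subgroup.index_dvd_of_le fun z hz => show (z : G) ∈ H from
      le_sup_right (a := C) ⟨z, hz, rfl⟩
  exact P.not_dvd_index (h2.trans h3)

/-- The transitive permutation character, as an integer valued function. -/
noncomputable def permFun (H : Subgroup G) : G → ℤ := fun g => (fixCount H g : ℤ)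

/-- Integral combinations of hyper-elementary permutation characters. -/
def ring' (G : Type*) [Group G] (p : ℕ) : AddSubgroup (G → ℤ) :=
  AddSubgroup.closure {f | ∃ H : Subgroup G, Hyper p H ∧ f = permFun H}

variable [Finite G]

theorem ring'_mul {p : ℕ} (hp : p.Prime) {f f' : G → ℤ} (hf : f ∈ ring' G p)
    (hf' : f' ∈ ring' G p) : f * f' ∈ ring' G p := by
  classical
  have := Fintype.ofFinite (Subgroup G)
  induction hf using AddSubgroup.closure_induction with
  | mem a ha =>
    induction hf' using AddSubgroup.closure_induction with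
    | mem b hb =>
      obtain ⟨H, hH, rfl⟩ := ha
      obtain ⟨K, -, rfl⟩ := hb
      obtain ⟨c, hc, heq⟩ := exists_mul_eq_sum H K
      have h : permFun H * permFun K = ∑ U : Subgroup G, (c U : ℤ) • permFun U := funext fun g => by
        simp only [permFun, Pi.mul_apply, Finset.sum_apply, Pi.smul_apply, smul_eq_mul]
        exact_mod_cast heq g
      rw [h]
      refine AddSubgroup.sum_mem _ fun U _ => ?_
      by_cases hU : c U = 0
      · simp [hU]
      · have hmem : permFun U ∈ ring' G p :=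
          AddSubgroup.subset_closure ⟨U, hH.mono hp (hc U hU), rfl⟩
        exact AddSubgroup.zsmul_mem _ hmem _
    | zero => rw [mul_zero]; exact AddSubgroup.zero_mem _
    | add x y _ _ hx hy => rw [mul_add]; exact AddSubgroup.add_mem _ hx hy
    | neg x _ hx => rw [mul_neg]; exact AddSubgroup.neg_mem _ hx
  | zero => rw [zero_mul]; exact AddSubgroup.zero_mem _
  | add x y _ _ hx hy => rw [add_mul]; exact AddSubgroup.add_mem _ hx hy
  | neg x _ hx => rw [neg_mul]; exact AddSubgroup.neg_mem _ hx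

theorem ring'_pow {p : ℕ} (hp : p.Prime) {f : G → ℤ} (hf : f ∈ ring' G p) :
    ∀ n : ℕ, f ^ (n + 1) ∈ ring' G p
  | 0 => by simpa using hf
  | n + 1 => by rw [pow_succ]; exact ring'_mul hp (ring'_pow hp hf n) hf

/-- **Solomon's induction theorem.** -/
theorem exists_const (p : ℕ) [Fact p.Prime] :
    ∃ m : ℤ, ¬ (p : ℤ) ∣ m ∧ (fun _ : G => m) ∈ ring' G p := by
  classical
  have hp : p.Prime := Fact.out
  obtain ⟨d, hd⟩ : ∃ d, p - 1 = d + 1 := ⟨p - 2, by have := hp.two_le; omega⟩
  have hfer : ∀ z : ℤ, ¬ (p : ℤ) ∣ z → ((z ^ (d + 1) : ℤ) : ZMod p) = 1 := fun z hz => by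
    rw [Int.cast_pow, ← hd]
    exact ZMod.pow_card_sub_one_eq_one fun h => hz ((ZMod.intCast_zmod_eq_zero_iff_dvd z p).1 h)
  have hgen : ∀ s : Finset G, ∃ f ∈ ring' G p, ∀ x ∈ s, (f x : ZMod p) = 1 := by
    intro s
    induction s using Finset.induction_on with
    | empty => exact ⟨0, AddSubgroup.zero_mem _, by simp⟩
    | insert a t _ ih =>
      obtain ⟨f, hf, hft⟩ := ih
      obtain ⟨H, hH, hHa⟩ := exists_hyper_not_dvd a p
      have hg : (permFun H) ^ (d + 1) ∈ ring' G p :=
        ring'_pow hp (f := permFun H) (by exact AddSubgroup.subset_closure ⟨H, hH, rfl⟩) d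
      set g := (permFun H) ^ (d + 1)
      have hga : (g a : ZMod p) = 1 := hfer _ (fun h => hHa (Int.natCast_dvd_natCast.1 h))
      refine ⟨f + g - f * g, AddSubgroup.sub_mem _ (AddSubgroup.add_mem _ hf hg)
        (ring'_mul hp hf hg), fun x hx => ?_⟩
      rcases Finset.mem_insert.1 hx with rfl | hx
      · simp [hga]
      · simp [hft x hx]
  cases nonempty_fintype G
  obtain ⟨f, hf, hf1⟩ := hgen Finset.univ
  have key : ∀ s : Finset G, ∃ r ∈ ring' G p,
      ∏ x ∈ s, ((fun _ => f x) - f) = (fun _ => ∏ x ∈ s, f x) + r := by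
    intro s
    induction s using Finset.induction_on with
    | empty => exact ⟨0, AddSubgroup.zero_mem _, by ext; simp⟩
    | insert a t ha ih =>
      obtain ⟨r, hr, hrt⟩ := ih
      refine ⟨(f a) • r - (∏ x ∈ t, f x) • f - f * r, AddSubgroup.sub_mem _
        (AddSubgroup.sub_mem _ (AddSubgroup.zsmul_mem _ hr _) (AddSubgroup.zsmul_mem _ hf _))
        (ring'_mul hp hf hr), ?_⟩
      rw [Finset.prod_insert ha, hrt, Finset.prod_insert ha]
      funext y
      simp only [Pi.mul_apply, Pi.sub_apply, Pi.add_apply, Pi.smul_apply, smul_eq_mul]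
      ring
  obtain ⟨r, hr, hr2⟩ := key Finset.univ
  have h0 : ∏ x : G, ((fun _ => f x) - f) = (0 : G → ℤ) := funext fun y => by
    rw [Finset.prod_apply]
    exact Finset.prod_eq_zero (Finset.mem_univ y) (by simp)
  refine ⟨∏ x : G, f x, fun h => ?_, ?_⟩
  · have h1 := (ZMod.intCast_zmod_eq_zero_iff_dvd _ p).2 h
    rw [Int.cast_prod, Finset.prod_eq_one fun x _ => hf1 x (Finset.mem_univ x)] at h1
    exact one_ne_zero h1
  · rw [h0] at hr2
    rw [show (fun _ : G => ∏ x : G, f x) = -r from eq_neg_of_add_eq_zero_left hr2.symm]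
    exact AddSubgroup.neg_mem _ hr

/-- Members of the ring have coefficient form. -/
theorem exists_coeff [Fintype (Subgroup G)] {p : ℕ} {f : G → ℤ} (hf : f ∈ ring' G p) :
    ∃ a : Subgroup G → ℤ, (∀ H, a H ≠ 0 → Hyper p H) ∧ f = ∑ H, a H • permFun H := by
  classical
  induction hf using AddSubgroup.closure_induction with
  | mem x hx =>
    obtain ⟨H, hH, rfl⟩ := hx
    refine ⟨Pi.single H 1, fun U hU => ?_, ?_⟩
    · obtain rfl : U = H := by
        by_contra h
        exact hU (Pi.single_eq_of_ne h 1)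
      exact hH
    · rw [Finset.sum_eq_single H (fun U _ hU => by rw [Pi.single_eq_of_ne hU, zero_smul]) (by simp),
        Pi.single_eq_same, one_smul]
  | zero => exact ⟨0, fun H h => absurd rfl h, by simp⟩
  | add x y _ _ hx hy =>
    obtain ⟨a, ha, rfl⟩ := hx
    obtain ⟨b, hb, rfl⟩ := hy
    refine ⟨a + b, fun H h => ?_, by simp [add_smul, Finset.sum_add_distrib]⟩
    by_cases h1 : a H = 0
    · exact hb H fun h2 => h (by simp [h1, h2])
    · exact ha H h1
  | neg x _ hx =>
    obtain ⟨a, ha, rfl⟩ := hx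
    exact ⟨-a, fun H h => ha H fun h1 => h (by simp [h1]), by simp⟩

end CfsgLib.CharDeep.Solomon
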