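import Cfsg.Agent.Lib.Fusion.PSolvable
import Cfsg.Agent.Lib.Solvable.Cores
import Cfsg.Agent.Lib.Components.PComponents
import Cfsg.Agent.Lib.Coprime.Sylow

/-!
# When some Sylow `p`-subgroup normalises some Sylow `q`-subgroup
-/

set_option autoImplicit false
set_option linter.unusedSectionVars false
set_option linter.style.haveILetI false

open scoped Classical commutatorElement

namespace CfsgLib.CharDeep.SylowNormalize

open CfsgLib.Solvable CfsgLib.Fusion

universe u

variable {G : Type u} [Group G] [Finite G] {p q : ℕ} [Fact p.Prime] [Fact q.Prime]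

theorem relIndex_sup_normal (K H : Subgroup G) [K.Normal] :
    H.relIndex (K ⊔ H) = H.relIndex K := by
  have e1 := Subgroup.relIndex_mul_relIndex (⊥ : Subgroup G) H (K ⊔ H) bot_le le_sup_right
  have e2 := Subgroup.relIndex_mul_relIndex (⊥ : Subgroup G) K (K ⊔ H) bot_le le_sup_left
  have e3 := Subgroup.relIndex_mul_relIndex (⊥ : Subgroup G) (H ⊓ K) K bot_le inf_le_right
  have e4 := Subgroup.relIndex_mul_relIndex (⊥ : Subgroup G) (H ⊓ K) H bot_le inf_le_left
  rw [Subgroup.inf_relIndex_right] at e3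
  rw [Subgroup.inf_relIndex_left] at e4
  rw [Subgroup.relIndex_sup_left] at e2
  simp only [Subgroup.relIndex_bot_left] at e1 e2 e3 e4
  refine Nat.eq_of_mul_eq_mul_left (Nat.card_pos (α := H)) ?_
  rw [e1, ← e2, ← e3, ← e4]
  ring

theorem exists_sylow_le {K : Subgroup G} (h : ¬ p ∣ K.index) :
    ∃ P : Sylow p G, (P : Subgroup G) ≤ K := by
  obtain ⟨P0⟩ := (inferInstance : Nonempty (Sylow p K))
  have hidx : ¬ p ∣ ((P0 : Subgroup K).map K.subtype).index := by
    rw [Subgroup.index_map_subtype]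
    exact (Fact.out : p.Prime).not_dvd_mul P0.not_dvd_index h
  exact ⟨(P0.isPGroup'.map K.subtype).toSylow hidx, Subgroup.map_subtype_le _⟩

theorem eq_bot_of_two_primes (hpq : p ≠ q) {H : Subgroup G} (h1 : IsPGroup p H)
    (h2 : IsPGroup q H) : H = ⊥ :=
  disjoint_self.1 (IsPGroup.disjoint_of_ne p q hpq H H h1 h2)

/-- A `q`-subgroup centralising `O_p` modulo the `p'`-core lies in that core. -/
theorem le_core_of_centralize (hpq : p ≠ q) (hG : Cfsg.IsPSolvable p G) {Q : Subgroup G}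
    (hQ : IsPGroup q Q)
    (h : ∀ r ∈ Cfsg.pCore p (G ⧸ Cfsg.pPrimeCore p G), ∀ s ∈ Q,
      r * (s : G ⧸ Cfsg.pPrimeCore p G) = (s : G ⧸ Cfsg.pPrimeCore p G) * r) :
    Q ≤ Cfsg.pPrimeCore p G := by
  set f := QuotientGroup.mk' (Cfsg.pPrimeCore p G)
  set R := Cfsg.pCore p (G ⧸ Cfsg.pPrimeCore p G)
  have h1 : Q.map f ≤ Subgroup.centralizer (R : Set (G ⧸ Cfsg.pPrimeCore p G)) := by
    rintro _ ⟨s, hs, rfl⟩
    exact Subgroup.mem_centralizer_iff.2 fun r hr => h r hr s hs
  have h2 : Q.map f = ⊥ := eq_bot_of_two_primes hpq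
    ((Cores.isPGroup_pCore p).to_le (h1.trans (PSolvable.centralizer_pCore_le
      (PSolvable.psolvable_quotient hG _) (CfsgLib.Components.pPrimeCore_quotient_eq_bot))))
    (hQ.map f)
  rwa [Subgroup.map_eq_bot_iff, QuotientGroup.ker_mk'] at h2

theorem not_dvd_index_of_le {Q : Sylow q G} {N : Subgroup G} (h : (Q : Subgroup G) ≤ N) :
    ¬ q ∣ N.index := fun hd => Q.not_dvd_index (hd.trans (Subgroup.index_dvd_of_le h))

theorem not_dvd_of_normalize (hpq : p ≠ q) (hG : Cfsg.IsPSolvable p G) (P : Sylow p G)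
    (Q : Sylow q G) (h : (P : Subgroup G) ≤ Subgroup.normalizer ((Q : Subgroup G) : Set G)) :
    ¬ q ∣ (Cfsg.pPrimeCore p G).index := by
  set f := QuotientGroup.mk' (Cfsg.pPrimeCore p G)
  refine not_dvd_index_of_le (Q := Q) (le_core_of_centralize hpq hG Q.2 fun r hr s hs => ?_)
  obtain ⟨x, hx, rfl⟩ := Cores.pCore_le_sylow (P.mapSurjective (QuotientGroup.mk'_surjective _)) hr
  rw [← commutatorElement_eq_one_iff_mul_comm]
  have hR : ⁅f x, f s⁆ ∈ Cfsg.pCore p (G ⧸ Cfsg.pPrimeCore p G) := by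
    rw [commutatorElement_def, mul_assoc, mul_assoc, ← mul_assoc (f s)]
    exact mul_mem hr ((Cores.pCore_normal p).conj_mem _ (inv_mem hr) (f s))
  have hQ : ⁅f x, f s⁆ ∈ (Q : Subgroup G).map f := by
    rw [← map_commutatorElement]
    refine Subgroup.mem_map_of_mem f ?_
    exact mul_mem ((Subgroup.mem_normalizer_iff.1 (h hx) s).1 hs) (inv_mem hs)
  exact Subgroup.mem_bot.1 ((IsPGroup.disjoint_of_ne p q hpq _ _ (Cores.isPGroup_pCore p)
    (Q.2.map f)).le_bot ⟨hR, hQ⟩)

theorem exists_normalize_of_not_dvd (hpq : p ≠ q)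
    (h : ¬ q ∣ (Cfsg.pPrimeCore p G).index) :
    ∃ (P : Sylow p G) (Q : Sylow q G),
      (P : Subgroup G) ≤ Subgroup.normalizer ((Q : Subgroup G) : Set G) := by
  haveI : (Cfsg.pPrimeCore p G).Normal := Cores.pPrimeCore_normal p
  obtain ⟨Q, hQ⟩ := exists_sylow_le (p := q) h
  have hsup : Subgroup.normalizer ((Q : Subgroup G) : Set G) ⊔ Cfsg.pPrimeCore p G = ⊤ :=
    Sylow.normalizer_sup_eq_top' Q hQ
  obtain ⟨P, hP⟩ := exists_sylow_le (p := p)
    (K := Subgroup.normalizer ((Q : Subgroup G) : Set G)) fun hd => by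
      rw [← Subgroup.relIndex_top_right, ← hsup, sup_comm, relIndex_sup_normal] at hd
      exact (Fact.out : p.Prime).coprime_iff_not_dvd.1 (Cores.coprime_card_pPrimeCore p).symm
        (hd.trans (Subgroup.relIndex_dvd_card _ _))
  exact ⟨P, Q, hP⟩

theorem not_dvd_of_class_size (hpq : p ≠ q) (hG : Cfsg.IsPSolvable p G)
    (h : ∀ y : G, (∃ k : ℕ, orderOf y = q ^ k) →
      ¬ p ∣ (Subgroup.centralizer ({y} : Set G)).index) :
    ¬ q ∣ (Cfsg.pPrimeCore p G).index := by
  obtain ⟨Q⟩ := (inferInstance : Nonempty (Sylow q G))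
  refine not_dvd_index_of_le (Q := Q) (le_core_of_centralize hpq hG Q.2 fun r hr s hs => ?_)
  obtain ⟨P, hP⟩ := exists_sylow_le (h s (by
    obtain ⟨k, hk⟩ := IsPGroup.iff_orderOf.1 Q.2 ⟨s, hs⟩
    exact ⟨k, by rwa [Subgroup.orderOf_mk] at hk⟩))
  obtain ⟨x, hx, rfl⟩ := Cores.pCore_le_sylow (P.mapSurjective (QuotientGroup.mk'_surjective _)) hr
  show QuotientGroup.mk' _ x * QuotientGroup.mk' _ s = QuotientGroup.mk' _ s * QuotientGroup.mk' _ x
  rw [← map_mul, ← map_mul, Subgroup.mem_centralizer_singleton_iff.1 (hP hx)]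

/-- A `q`-subgroup whose elements each centralise a Sylow `p`-subgroup of a normal `q'`-subgroup
centralises one of them. -/
theorem exists_centralized_sylow (N : Subgroup G) [N.Normal] (hN : (Nat.card N).Coprime q)
    {Q : Subgroup G} (hQ : IsPGroup q Q)
    (h : ∀ y ∈ Q, ¬ p ∣ (Subgroup.centralizer ({y} : Set G)).index) :
    ∃ P : Sylow p N, ((P : Subgroup N).map N.subtype) ≤ Subgroup.centralizer (Q : Set G) := by
  have hnorm : ∀ A : Subgroup G, A ≤ Subgroup.normalizer (N : Set G) := fun A => by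
    rw [Subgroup.normalizer_eq_top]; exact le_top
  have hcop : ∀ A : Subgroup G, IsPGroup q A → (Nat.card A).Coprime (Nat.card N) := fun A hA => by
    obtain ⟨k, hk⟩ := IsPGroup.iff_card.1 hA
    rw [hk]
    exact hN.symm.pow_left k
  have hsolv : ∀ A : Subgroup G, IsPGroup q A → Group.IsSolvable A := fun A hA => by
    haveI := hA.isNilpotent
    infer_instance
  obtain ⟨P₀, hP₀⟩ := CfsgLib.Coprime.exists_invariant_sylow (hnorm Q) (hcop Q hQ)
    (Or.inl (hsolv Q hQ)) p
  refine ⟨P₀, fun x hx => Subgroup.mem_centralizer_iff.2 fun y hy => ?_⟩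
  set Y := Subgroup.zpowers y
  have hYQ : Y ≤ Q := (Subgroup.zpowers_le).2 hy
  have hY : IsPGroup q Y := hQ.to_le hYQ
  set K := (Subgroup.centralizer ({y} : Set G)).subgroupOf N
  have hK : ¬ p ∣ K.index := fun hd => h y hy
    (hd.trans (by
      show (Subgroup.centralizer ({y} : Set G)).relIndex N ∣ _
      rw [← relIndex_sup_normal]
      exact Subgroup.relIndex_dvd_index_of_le le_sup_right))
  obtain ⟨P₂, hP₂⟩ := exists_sylow_le (G := N) hK
  have hP₂' : Y ≤ Subgroup.normalizer (((P₂ : Subgroup N).map N.subtype : Subgroup G) : Set G) := by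
    rw [Subgroup.zpowers_le]
    refine Subgroup.centralizer_le_normalizer _ (Subgroup.mem_centralizer_iff.2 ?_)
    rintro _ ⟨z, hz, rfl⟩
    exact Subgroup.mem_centralizer_singleton_iff.1 (hP₂ hz)
  obtain ⟨c, hc, hcP⟩ := CfsgLib.Coprime.exists_centralizer_conj_sylow (hnorm Y) (hcop Y hY)
    (Or.inl (hsolv Y hY)) P₂ P₀ hP₂' (hYQ.trans hP₀)
  have hx' : x ∈ (((P₂ : Subgroup N).map N.subtype)).map (MulAut.conj (c : G)).toMonoidHom := by
    rw [← CfsgLib.Coprime.map_smul_sylow, hcP]; exact hx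
  obtain ⟨_, ⟨z, hz, rfl⟩, rfl⟩ := hx'
  have hzy : Commute (z : G) y := Subgroup.mem_centralizer_singleton_iff.1 (hP₂ hz)
  have hcy : Commute (c : G) y :=
    (Subgroup.mem_centralizer_iff.1 hc y (Subgroup.mem_zpowers y)).symm
  exact ((hcy.mul_left hzy).mul_left hcy.inv_left).symm.eq

theorem exists_normalize_of_qsolvable (hpq : p ≠ q) : ∀ (n : ℕ) (G : Type u) [Group G] [Finite G],
    Nat.card G = n → Cfsg.IsPSolvable q G →
    (∀ y : G, (∃ k : ℕ, orderOf y = q ^ k) →
      ¬ p ∣ (Subgroup.centralizer ({y} : Set G)).index) →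
    ∃ (P : Sylow p G) (Q : Sylow q G),
      (P : Subgroup G) ≤ Subgroup.normalizer ((Q : Subgroup G) : Set G) := by
  intro n
  induction n using Nat.strong_induction_on with
  | _ n IH =>
    intro G _ _ hn hG h
    rcases subsingleton_or_nontrivial G with hs | hnt
    · obtain ⟨P⟩ := (inferInstance : Nonempty (Sylow p G))
      obtain ⟨Q⟩ := (inferInstance : Nonempty (Sylow q G))
      exact ⟨P, Q, fun x _ => by rw [Subsingleton.elim x 1]; exact one_mem _⟩
    obtain ⟨N, hNn, hNne, hN⟩ : ∃ N : Subgroup G, N.Normal ∧ N ≠ ⊥ ∧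
        (IsPGroup q N ∨ (Nat.card N).Coprime q) := by
      rcases PSolvable.pCore_or_pPrimeCore_ne_bot hG with h' | h'
      · exact ⟨_, Cores.pCore_normal q, h', Or.inl (Cores.isPGroup_pCore q)⟩
      · exact ⟨_, Cores.pPrimeCore_normal q, h', Or.inr (Cores.coprime_card_pPrimeCore q)⟩
    set f := QuotientGroup.mk' N
    have hf : Function.Surjective f := QuotientGroup.mk'_surjective N
    have hlt : Nat.card (G ⧸ N) < n := by
      rw [← hn, ← Subgroup.index_eq_card, ← N.card_mul_index]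
      exact lt_mul_left (Nat.pos_of_ne_zero Subgroup.index_ne_zero_of_finite)
        (N.one_lt_card_iff_ne_bot.2 hNne)
    have hquot : ∀ y : G ⧸ N, (∃ k : ℕ, orderOf y = q ^ k) →
        ¬ p ∣ (Subgroup.centralizer ({y} : Set (G ⧸ N))).index := by
      rintro y ⟨k, hk⟩ hd
      obtain ⟨Q'⟩ := (inferInstance : Nonempty (Sylow q G))
      obtain ⟨Qy, hQy⟩ := (IsPGroup.of_card (show Nat.card (Subgroup.zpowers y) = q ^ k by
        rw [Nat.card_zpowers, hk])).exists_le_sylow
      obtain ⟨Qs, hQs⟩ := Sylow.mapSurjective_surjective hf q Qy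
      obtain ⟨z, hz, rfl⟩ : y ∈ (Qs : Subgroup G).map f := by
        rw [← Sylow.coe_mapSurjective hf Qs, hQs]; exact hQy (Subgroup.mem_zpowers y)
      obtain ⟨k', hk'⟩ := IsPGroup.iff_orderOf.1 Qs.2 ⟨z, hz⟩
      rw [Subgroup.orderOf_mk] at hk'
      refine h z ⟨k', hk'⟩ ((hd.trans (Subgroup.index_dvd_of_le ?_)).trans
        (Subgroup.index_map_dvd _ hf))
      rintro _ ⟨x, hx, rfl⟩
      rw [Subgroup.mem_centralizer_singleton_iff, ← map_mul, ← map_mul,
        Subgroup.mem_centralizer_singleton_iff.1 hx]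
    obtain ⟨Pb, Qb, hb⟩ := IH _ hlt (G ⧸ N) rfl (PSolvable.psolvable_quotient hG N) hquot
    obtain ⟨P, rfl⟩ := Sylow.mapSurjective_surjective hf p Pb
    obtain ⟨Q, rfl⟩ := Sylow.mapSurjective_surjective hf q Qb
    rw [Sylow.coe_mapSurjective, Sylow.coe_mapSurjective] at hb
    set L := (Q : Subgroup G) ⊔ N with hL
    have hLmap : ((Q : Subgroup G).map f).comap f = L := by
      rw [Subgroup.comap_map_eq, QuotientGroup.ker_mk']
    have hPL : (P : Subgroup G) ≤ Subgroup.normalizer (L : Set G) := fun x hx => by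
      rw [← hLmap]
      exact Subgroup.le_normalizer_comap f (hb ⟨x, hx, rfl⟩)
    rcases hN with hNq | hNq
    · refine ⟨P, Q, ?_⟩
      rw [← sup_eq_left.2 (hNq.le_sylow_of_normal Q)]
      exact hPL
    · obtain ⟨P₀, hP₀⟩ := exists_centralized_sylow N hNq Q.2 fun y hy => h y (by
        obtain ⟨k, hk⟩ := IsPGroup.iff_orderOf.1 Q.2 ⟨y, hy⟩
        exact ⟨k, by rwa [Subgroup.orderOf_mk] at hk⟩)
      set H := Subgroup.normalizer (L : Set G)
      set NQ := Subgroup.normalizer ((Q : Subgroup G) : Set G)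
      have hLH : L ≤ H := Subgroup.le_normalizer
      haveI : (L.subgroupOf H).Normal := Subgroup.normal_in_normalizer
      have hQH : (Q : Subgroup G) ≤ H := le_sup_left.trans hLH
      have hsup := Sylow.normalizer_sup_eq_top' (N := L.subgroupOf H) (Q.subtype hQH)
        (fun x hx => (le_sup_left : (Q : Subgroup G) ≤ L) hx)
      have hHK : H ≤ NQ ⊔ N := fun x hx => by
        obtain ⟨a, ha, b, hb', hab⟩ := Subgroup.mem_sup_of_normal_right.1
          ((hsup.symm ▸ Subgroup.mem_top (⟨x, hx⟩ : H)))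
        have ha' : (a : G) ∈ NQ := Subgroup.mem_normalizer_iff.2 fun z => by
          refine ⟨fun hz => ?_, fun hz => ?_⟩
          · exact (Subgroup.mem_normalizer_iff.1 ha ⟨z, hQH hz⟩).1 hz
          · have hzH : z ∈ H := by
              have h1 := H.mul_mem (H.mul_mem (H.inv_mem a.2) (hQH hz)) a.2
              simpa [mul_assoc] using h1
            exact (Subgroup.mem_normalizer_iff.1 ha ⟨z, hzH⟩).2 hz
        have hb'' : (b : G) ∈ NQ ⊔ N := sup_le_sup_right Subgroup.le_normalizer N hb'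
        rw [show x = (a : G) * b from (congrArg Subtype.val hab).symm]
        exact mul_mem (Subgroup.mem_sup_left ha') hb''
      obtain ⟨P', hP'⟩ := exists_sylow_le (p := p) (K := NQ) fun hd => by
        rw [← Subgroup.relIndex_mul_index (le_sup_left : NQ ≤ NQ ⊔ N), sup_comm] at hd
        rcases (Fact.out : p.Prime).dvd_mul.1 hd with hd | hd
        · rw [relIndex_sup_normal] at hd
          refine P₀.not_dvd_index (hd.trans ?_)
          show (NQ.subgroupOf N).index ∣ _
          refine Subgroup.index_dvd_of_le fun x hx => ?_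
          exact Subgroup.centralizer_le_normalizer _ (hP₀ ⟨x, hx, rfl⟩)
        · rw [sup_comm] at hd
          exact not_dvd_index_of_le ((hPL).trans hHK) hd
      exact ⟨P', Q, hP'⟩

end CfsgLib.CharDeep.SylowNormalize
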