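import Cfsg.Agent.Lib.CharDeep.SmallCommute

/-!
# Elements close to a common complex scalar commute

`SmallCommute.comm_of_small` for a complex centre `c` with `1 / 2 ≤ ‖c‖`.
-/

set_option autoImplicit false

open scoped ComplexConjugate InnerProductSpace
open Module

namespace CfsgLib.CharDeep.TwoEigen

open SmallCommute

universe u v

variable {G : Type u} [Group G] [Finite G] {V : Type v} [NormedAddCommGroup V]
  [InnerProductSpace ℂ V] [FiniteDimensional ℂ V] (ρ : Representation ℂ G V)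
  (hU : ∀ g v w, ⟪ρ g v, ρ g w⟫_ℂ = ⟪v, w⟫_ℂ)
include hU

omit [Finite G] in
theorem comm_of_comm_conj (hinj : Function.Injective ρ) {a x : G} {c : ℂ}
    (hx : ‖op ρ x - c • 1‖ < ‖c‖) (h : a * (x * a * x⁻¹) = x * a * x⁻¹ * a) :
    x * a = a * x := by
  classical
  by_contra hne
  set a' := x * a * x⁻¹ with ha'
  have hne' : a ≠ a' := fun e => hne (by
    calc x * a = x * a * x⁻¹ * x := by group
      _ = a * x := by rw [← ha', ← e])
  let K := Subgroup.closure ({a, a'} : Set G)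
  have hK : ∀ y ∈ K, ∀ z ∈ K, y * z = z * y := by
    have hle : K ≤ Subgroup.centralizer ({a, a'} : Set G) := by
      refine (Subgroup.closure_le _).2 ?_
      intro y hy
      rw [SetLike.mem_coe, Subgroup.mem_centralizer_iff]
      intro z hz
      simp only [Set.mem_insert_iff, Set.mem_singleton_iff] at hy hz
      rcases hy with rfl | rfl <;> rcases hz with rfl | rfl
      exacts [rfl, h.symm, h, rfl]
    intro y hy z hz
    have hle' : K ≤ Subgroup.centralizer (K : Set G) := by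
      refine (Subgroup.closure_le _).2 fun w hw => ?_
      rw [SetLike.mem_coe, Subgroup.mem_centralizer_iff]
      intro k hk
      exact ((Subgroup.mem_centralizer_iff.1 (hle hk)) w hw).symm
    exact Subgroup.mem_centralizer_iff.1 (hle' hz) y hy
  have haK : a ∈ K := Subgroup.subset_closure (by simp)
  have ha'K : a' ∈ K := Subgroup.subset_closure (by simp)
  obtain ⟨Φ, -, hΦ, hsup⟩ := exists_spectrum ρ hU K hK
  have hex : ∃ φ ∈ Φ, φ ⟨a, haK⟩ ≠ φ ⟨a', ha'K⟩ := by
    by_contra hall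
    push Not at hall
    refine hne' (hinj (LinearMap.ext fun v => ?_))
    have hle : (⊤ : Submodule ℂ V) ≤ LinearMap.eqLocus (ρ a) (ρ a') := by
      rw [← hsup]
      refine iSup₂_le fun φ hφ v hv => ?_
      show ρ a v = ρ a' v
      rw [hv ⟨a, haK⟩, hv ⟨a', ha'K⟩, hall φ hφ]
    exact hle (Submodule.mem_top (x := v))
  obtain ⟨φ, hφΦ, hφ⟩ := hex
  obtain ⟨w, hw, hw0⟩ := (common ρ K φ).ne_bot_iff.1 (hΦ φ hφΦ)
  set v := ρ x⁻¹ w with hv
  have hwa : ρ a w = φ ⟨a, haK⟩ • w := hw ⟨a, haK⟩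
  have hva : ρ a v = φ ⟨a', ha'K⟩ • v := by
    rw [hv, ← map_smul, ← hw ⟨a', ha'K⟩, ← Module.End.mul_apply, ← Module.End.mul_apply,
      ← map_mul, ← map_mul]
    congr 2
    show a * x⁻¹ = x⁻¹ * a'
    rw [ha']; group
  have hv0 : v ≠ 0 := fun e => hw0 (norm_eq_zero.1 (by rw [← norm_rho ρ hU x⁻¹ w, ← hv, e,
    norm_zero]))
  have horth : ⟪w, v⟫_ℂ = 0 := by
    by_contra hwv
    have h1 := hU a w v
    rw [hwa, hva, inner_smul_left, inner_smul_right, ← mul_assoc] at h1
    have h1' : conj (φ ⟨a, haK⟩) * φ ⟨a', ha'K⟩ = 1 := mul_right_cancel₀ hwv (by rw [h1, one_mul])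
    have h2 : ‖φ ⟨a, haK⟩‖ = 1 := by
      have := norm_rho ρ hU a w
      rw [hwa, norm_smul] at this
      exact (mul_eq_right₀ (norm_ne_zero_iff.2 hw0)).1 this
    have h3 : φ ⟨a, haK⟩ * conj (φ ⟨a, haK⟩) = 1 := by rw [Complex.mul_conj', h2]; simp
    exact hφ (by
      calc φ ⟨a, haK⟩ = φ ⟨a, haK⟩ * (conj (φ ⟨a, haK⟩) * φ ⟨a', ha'K⟩) := by rw [h1', mul_one]
        _ = φ ⟨a', ha'K⟩ := by rw [← mul_assoc, h3, one_mul])
  have hxv : ρ x v = w := by
    rw [hv, ← Module.End.mul_apply, ← map_mul, mul_inv_cancel, map_one, Module.End.one_apply]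
  have hb := (op ρ x - c • 1).le_opNorm v
  have hcpos : 0 < ‖c‖ := lt_of_le_of_lt (norm_nonneg _) hx
  have happ : (op ρ x - c • 1) v = w - c • v := by simp [hxv]
  rw [happ] at hb
  have hlow : ‖c‖ * ‖v‖ ≤ ‖w - c • v‖ := by
    have hsq : ‖w - c • v‖ ^ 2 = ‖w‖ ^ 2 + (‖c‖ * ‖v‖) ^ 2 := by
      rw [norm_sub_sq (𝕜 := ℂ), inner_smul_right, horth, norm_smul]
      simp
    nlinarith [sq_nonneg ‖w‖, norm_nonneg (w - c • v),
      mul_nonneg hcpos.le (norm_nonneg v)]
  nlinarith [norm_pos_iff.2 hv0]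

theorem comm_of_small (hinj : Function.Injective ρ) {a b : G} {c : ℂ} (hc : 1 / 2 ≤ ‖c‖)
    (ha : ‖op ρ a - c • 1‖ < 1 / 2) (hb : ‖op ρ b - c • 1‖ < 1 / 2) :
    a * b = b * a := by
  set r := 2 * ‖op ρ a - c • 1‖ with hr
  have hr0 : 0 ≤ r := by positivity
  have hr1 : r < 1 := by rw [hr]; linarith
  let k : ℕ → G := fun i => Nat.rec b (fun _ y => a * y * a⁻¹ * y⁻¹) i
  have hk0 : k 0 = b := rfl
  have hks : ∀ i, k (i + 1) = a * k i * a⁻¹ * (k i)⁻¹ := fun i => rfl
  have hk1 : ∀ i, ‖op ρ (k (i + 1)) - 1‖ ≤ r ^ i * (1 / 2) := by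
    intro i
    induction i with
    | zero =>
      have h := norm_commutator_le ρ hU a b c c
      rw [hks, hk0, pow_zero, one_mul]
      nlinarith [norm_nonneg (op ρ a - c • 1), norm_nonneg (op ρ b - c • 1)]
    | succ i ih =>
      have h := norm_commutator_le ρ hU a (k (i + 1)) c 1
      rw [one_smul, ← hks (i + 1), ← hr] at h
      refine h.trans ?_
      calc r * ‖op ρ (k (i + 1)) - 1‖ ≤ r * (r ^ i * (1 / 2)) := mul_le_mul_of_nonneg_left ih hr0
        _ = _ := by ring
  -- some term of the sequence is trivial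
  have hex : ∃ i, k (i + 1) = 1 := by
    by_contra hall
    push Not at hall
    classical
    cases nonempty_fintype G
    have hpos : ∀ g : G, g ≠ 1 → 0 < ‖op ρ g - 1‖ := fun g hg => by
      rw [norm_pos_iff, sub_ne_zero]
      intro e
      exact hg (hinj (LinearMap.ext fun v => by
        have := congrArg (fun T : V →L[ℂ] V => T v) e
        simpa using this))
    obtain ⟨g, hg, hmin⟩ := Finset.exists_min_image (Finset.univ.filter fun g : G => g ≠ 1)
      (fun g => ‖op ρ g - 1‖) ⟨k 1, by simpa using hall 0⟩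
    have hg' := hpos g (Finset.mem_filter.1 hg).2
    obtain ⟨i, hi⟩ := exists_pow_lt_of_lt_one hg' hr1
    have h1 := hmin (k (i + 1)) (by simpa using hall i)
    have h2 := hk1 i
    nlinarith [pow_nonneg hr0 i]
  -- go back to `b`
  have hback : ∀ j, k (j + 1) = 1 → a * b = b * a := by
    intro j
    induction j with
    | zero =>
      intro h
      rw [hks, hk0, mul_inv_eq_one, mul_inv_eq_iff_eq_mul] at h
      exact h
    | succ j ih =>
      intro h
      rw [hks (j + 1), mul_inv_eq_one, mul_inv_eq_iff_eq_mul] at h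
      -- `a` commutes with `k (j + 1) = [a, k j]`, hence with `k j`
      refine ih ?_
      have hconj : a * (k j * a * (k j)⁻¹) = k j * a * (k j)⁻¹ * a := by
        have e : k j * a * (k j)⁻¹ = (k (j + 1))⁻¹ * a := by rw [hks]; group
        have h' : Commute a (k (j + 1)) := h
        rw [e, ← mul_assoc, h'.inv_right.eq]
      obtain ⟨c', hc'⟩ : ∃ c' : ℂ, ‖op ρ (k j) - c' • 1‖ < ‖c'‖ := by
        rcases j with _ | j
        · exact ⟨c, hk0 ▸ lt_of_lt_of_le hb hc⟩
        · refine ⟨1, ?_⟩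
          rw [one_smul, norm_one]
          refine lt_of_le_of_lt (hk1 j) ?_
          have := pow_le_one₀ (n := j) hr0 hr1.le
          linarith
      rw [hks, mul_inv_eq_one, mul_inv_eq_iff_eq_mul]
      exact (comm_of_comm_conj ρ hU hinj hc' hconj).symm
  obtain ⟨i, hi⟩ := hex
  exact hback i hi

end CfsgLib.CharDeep.TwoEigen
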