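import Cfsg.Prelude.Def_LieExceptional
import Mathlib.GroupTheory.GroupAction.Quotient
import Mathlib.GroupTheory.Index

/-!
# Elementary facts about Zassenhaus groups
-/

namespace CfsgLib.CharDeep.Zassenhaus

open MulAction

variable {G Ω : Type*} [Group G] [MulAction G Ω]

theorem exists_map_pair (hZ : Cfsg.IsZassenhausGroup G Ω) {a b c d : Ω} (hab : a ≠ b)
    (hcd : c ≠ d) : ∃ g : G, g • a = c ∧ g • b = d :=
  is_two_pretransitive_iff.1 hZ.2.1 hab hcd

/-- An element fixing two points fixes no other. -/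
theorem eq_or_eq (hZ : Cfsg.IsZassenhausGroup G Ω) {g : G} (hg : g ≠ 1) {a b c : Ω} (hab : a ≠ b)
    (ha : g • a = a) (hb : g • b = b) (hc : g • c = c) : c = a ∨ c = b := by
  by_contra h
  push Not at h
  exact hg (hZ.2.2.1 g a b c hab h.2.symm h.1.symm ha hb hc)

theorem exists_ne_one_fixing (hZ : Cfsg.IsZassenhausGroup G Ω) {a b : Ω} (hab : a ≠ b) :
    ∃ x : G, x ≠ 1 ∧ x • a = a ∧ x • b = b := by
  obtain ⟨g, hg, c, d, hcd, hc, hd⟩ := hZ.2.2.2.1
  obtain ⟨t, ht1, ht2⟩ := exists_map_pair hZ hcd hab
  refine ⟨t * g * t⁻¹, fun h => hg ?_, ?_, ?_⟩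
  · rwa [conj_eq_one_iff] at h
  · rw [← ht1, ← mul_smul, inv_mul_cancel_right, mul_smul, hc]
  · rw [← ht2, ← mul_smul, inv_mul_cancel_right, mul_smul, hd]

theorem three_le_card [Finite Ω] (hZ : Cfsg.IsZassenhausGroup G Ω) : 3 ≤ Nat.card Ω := by
  classical
  have := Fintype.ofFinite Ω
  obtain ⟨g, hg, a, b, hab, ha, hb⟩ := hZ.2.2.2.1
  rw [Nat.card_eq_fintype_card]
  by_contra h
  refine hg (hZ.1.eq_of_smul_eq_smul fun c => ?_)
  rw [one_smul]
  have hc : c = a ∨ c = b := by
    by_contra hc
    push Not at hc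
    refine h ?_
    calc 3 = ({a, b, c} : Finset Ω).card := by
          rw [Finset.card_insert_of_notMem (by simp [hab, hc.1.symm]),
            Finset.card_insert_of_notMem (by simp [hc.2.symm]), Finset.card_singleton]
      _ ≤ Fintype.card Ω := Finset.card_le_univ _
  rcases hc with rfl | rfl <;> assumption

/-- The elements of a point stabilizer fixing no further point, together with `1`, number
`|Ω| - 1`. -/
theorem card_fix_only [Finite G] [Fintype Ω] (hZ : Cfsg.IsZassenhausGroup G Ω) (a : Ω) :
    Nat.card {u : stabilizer G a // u = 1 ∨ ∀ c : Ω, (u : G) • c = c → c = a} + 1 =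
      Fintype.card Ω := by
  classical
  have := Fintype.ofFinite (stabilizer G a)
  set Q := Quotient (orbitRel (stabilizer G a) Ω)
  have hQ : Fintype.card Q = 2 := by
    have hn : 1 < Fintype.card Ω := by
      have := three_le_card hZ
      rw [Nat.card_eq_fintype_card] at this
      omega
    obtain ⟨b, hb⟩ := Fintype.exists_ne_of_one_lt_card hn a
    rw [← Fintype.card_bool]
    refine (Fintype.card_of_bijective (f := fun i : Bool =>
      (Quotient.mk'' (bif i then a else b) : Q)) ⟨?_, ?_⟩).symm
    · intro i j hij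
      have h := Quotient.exact' hij
      rcases i <;> rcases j <;> try rfl
      · obtain ⟨u, hu⟩ := h
        exfalso
        exact hb (hu.symm.trans u.2)
      · obtain ⟨u, hu⟩ := h
        exfalso
        refine hb ?_
        have h1 : (u : G) • b = a := hu
        exact smul_left_cancel (u : G) (h1.trans u.2.symm)
    · intro q
      induction q using Quotient.inductionOn' with
      | h c =>
        by_cases hc : c = a
        · exact ⟨true, by rw [hc]; rfl⟩
        · refine ⟨false, Quotient.sound' ?_⟩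
          obtain ⟨g, hga, hgc⟩ := exists_map_pair hZ (Ne.symm hc) hb.symm
          exact ⟨⟨g, hga⟩, hgc⟩
  have hburn := sum_card_fixedBy_eq_card_orbits_mul_card_group (stabilizer G a) Ω
  rw [hQ] at hburn
  set K := (Finset.univ : Finset (stabilizer G a)).filter
    fun u : stabilizer G a => u = 1 ∨ ∀ c : Ω, (u : G) • c = c → c = a with hK
  have hone : ∀ u ∈ K, u ≠ 1 → Fintype.card (fixedBy Ω u) = 1 := by
    intro u hu hu1
    refine Fintype.card_eq_one_iff.2 ⟨⟨a, u.2⟩, fun c => Subtype.ext ?_⟩
    exact ((Finset.mem_filter.1 hu).2.resolve_left hu1) c c.2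
  have htwo : ∀ u ∉ K, Fintype.card (fixedBy Ω u) = 2 := by
    intro u hu
    simp only [hK, Finset.mem_filter, Finset.mem_univ, true_and, not_or, not_forall] at hu
    obtain ⟨hu1, b, hb, hba⟩ := hu
    have hne : (u : G) ≠ 1 := fun h => hu1 (Subtype.ext h)
    rw [← Fintype.card_bool]
    refine (Fintype.card_of_bijective (f := fun i : Bool =>
      (bif i then (⟨a, u.2⟩ : fixedBy Ω u) else ⟨b, hb⟩)) ⟨?_, ?_⟩).symm
    · intro i j hij
      rcases i <;> rcases j <;> first | rfl | exact absurd (congrArg Subtype.val hij) hba |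
        exact absurd (congrArg Subtype.val hij).symm hba
    · intro c
      rcases eq_or_eq hZ hne (Ne.symm hba) u.2 hb c.2 with h | h
      · exact ⟨true, Subtype.ext h.symm⟩
      · exact ⟨false, Subtype.ext h.symm⟩
  have h1K : (1 : stabilizer G a) ∈ K := by simp [hK]
  rw [← Finset.sum_add_sum_compl K, ← Finset.add_sum_erase K _ h1K,
    Finset.sum_congr rfl (fun u hu => hone u (Finset.mem_erase.1 hu).2 (Finset.mem_erase.1 hu).1),
    Finset.sum_congr rfl (fun u hu => htwo u (Finset.mem_compl.1 hu)), Finset.sum_const,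
    Finset.sum_const, Finset.card_compl, Finset.card_erase_of_mem h1K] at hburn
  have h1 : Fintype.card (fixedBy Ω (1 : stabilizer G a)) = Fintype.card Ω :=
    Fintype.card_congr (Equiv.subtypeUnivEquiv fun c => one_smul _ c)
  rw [h1] at hburn
  have hKle : K.card ≤ Fintype.card (stabilizer G a) := Finset.card_le_univ K
  have hKpos : 0 < K.card := Finset.card_pos.2 ⟨1, h1K⟩
  rw [Nat.card_eq_fintype_card, Fintype.card_subtype, ← hK]
  simp only [smul_eq_mul] at hburn
  omega

end CfsgLib.CharDeep.Zassenhaus
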